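import Cfsg.Agent.Omega.NOThreeL.RTools.One

/-!
# NO-3L, box R, tools (R2), (R3) (#15623, helper691; referee #15774, helper709)

`Z = Ω₁(Z(S))`, `C_z = C_G(z)`, `z ∈ Z#`.

* `isLong` : `C_z` is long; `isLong_cent` : `C_G(E)` is long for `1 ≠ E ≤ Z`;
* `exists_mul` : `z ∈ Z ∩ Z^g` implies `g ∈ C_z N_G(S)`;
* (R2) `le_normalizer`, `le_normalizer_iff` : `C_z ≤ N_G(Z)` iff no `P ∈ P*(S)` lies in `C_z`; `ti` : then
  `z ∈ Z^g` implies `Z^g = Z`;
* `conj_WP_of_normalizer` : `N_G(S)` normalises `WP S`;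
* (R3) `WP_comm` : not (A): `Z^x ∩ Z^y ≠ 1` implies `[W^x, W^y] = 1`;
* (R3) `exists_crit` : not (A), all `C_Z(P) ≠ 1`: there are `z, z' ∈ Z#` and `x` with `F_{z'}^x ≤ Q`,
  `F_z ≤ Q^x`, `[F_z, F_{z'}^x] ≠ 1`, where `F_z = F_{C_z}` is elementary abelian and normal in `C_z`.
-/

set_option autoImplicit false

namespace Cfsg.Agent.Omega.NOThreeL.RTools

open Subgroup Cfsg Cfsg.Agent.ZN Cfsg.Agent.Omega.MinPar Cfsg.Agent.Omega.FFThm
open Cfsg.Agent.Omega.Frame Cfsg.Agent.Omega.FrameNOFF Cfsg.Agent.Omega.Node.NO3L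
open Cfsg.Agent.Omega.NoFF.Basic (conj_conj mem_conj conj_le_iff conj_le_centralizer comm_symm comm_mono)
open Cfsg.Agent.Omega.NOThreeL.Pair (conj_eq_of_mem conj_le_normalizer)
open Cfsg.Agent.Omega.NOThreeL.Basic
open Cfsg.Agent.MinSimple.VModule (zc_le o2_isPGroup le_normalizer_o2 normalizer_le_normalizer_zc)
open Cfsg.Agent.ZN.ChoiceSit (Syl exists_syl syl_conj)
open Cfsg.Agent.ZN.ChoiceBase (isPGroup_cj cj cj_cj cj_cj_inv cj_inv_cj)
open scoped Pointwise

universe u

variable {G : Type u} [Group G]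

theorem sq_of_mem_zc {S : Subgroup G} {z : G} (hz : z ∈ zc S) : z ^ 2 = 1 :=
  (Cfsg.Agent.MinSimple.VModule.mem_zc.1 hz).2.2

theorem le_centralizer_of_mem_zc {S : Subgroup G} {z : G} (hz : z ∈ zc S) :
    S ≤ centralizer ({z} : Set G) := by
  intro s hs
  rw [mem_centralizer_iff]
  rintro _ rfl
  exact ((Cfsg.Agent.MinSimple.VModule.mem_zc.1 hz).2.1 s hs).symm

/-- A nontrivial subgroup of `Z` has a long centraliser. -/
theorem isLong_cent (S : Sylow 2 G) {E : Subgroup G} (hE : E ≤ zc (S : Subgroup G)) (hE1 : E ≠ ⊥) :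
    IsLong (S : Subgroup G) (centralizer (E : Set G)) := by
  refine ⟨isLoc_of_le_normalizer S ?_ (S.isPGroup'.to_le (hE.trans (zc_le _))) hE1
    (centralizer_le_normalizer _), centralizer_le hE⟩
  exact (le_CZ S).trans (centralizer_le hE)

/-- `C_z` is long. -/
theorem isLong (S : Sylow 2 G) {z : G} (hz : z ∈ zc (S : Subgroup G)) (hz1 : z ≠ 1) :
    IsLong (S : Subgroup G) (centralizer ({z} : Set G)) :=
  ⟨isLoc_centralizer S (sq_of_mem_zc hz) hz1 (le_centralizer_of_mem_zc hz),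
    centralizer_le (Set.singleton_subset_iff.2 hz)⟩

theorem mem_conj_zc {S : Subgroup G} {z g : G} (h : z ∈ MulAut.conj g • zc S) :
    MulAut.conj g • S ≤ centralizer ({z} : Set G) := by
  intro s hs
  rw [mem_conj] at hs h
  rw [mem_centralizer_iff]
  rintro _ rfl
  have h1 := (Cfsg.Agent.MinSimple.VModule.mem_zc.1 h).2.1 _ hs
  have h2 := congrArg (fun t => g * t * g⁻¹) h1
  simpa [mul_assoc] using h2.symm

section fin

variable [Finite G]

/-- **Two points through `z`**: `z ∈ Z ∩ Z^g` implies `g ∈ C_z N_G(S)`. -/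
theorem exists_mul (S : Sylow 2 G) {z g : G} (hz : z ∈ zc (S : Subgroup G))
    (hg : z ∈ MulAut.conj g • zc (S : Subgroup G)) :
    ∃ c ∈ centralizer ({z} : Set G), ∃ n ∈ normalizer ((S : Subgroup G) : Set G), g = c * n := by
  have h1 : Syl (S : Subgroup G) (centralizer ({z} : Set G)) := syl_of_sylow S (le_centralizer_of_mem_zc hz)
  have h2 : Syl (cj g (S : Subgroup G)) (centralizer ({z} : Set G)) := by
    refine ⟨mem_conj_zc hg, isPGroup_cj g S.isPGroup', fun Q _ hQ hSQ => ?_⟩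
    have h3 : (S : Subgroup G) ≤ cj g⁻¹ Q := by
      have h4 := conj_le_iff (g := g⁻¹).2 hSQ
      have h5 : MulAut.conj g⁻¹ • cj g (S : Subgroup G) = S := cj_inv_cj g _
      rwa [h5] at h4
    have h4 := S.is_maximal' (isPGroup_cj g⁻¹ hQ) h3
    rw [← h4]
    exact (cj_cj_inv g Q).symm
  obtain ⟨c, hc, h3⟩ := syl_conj h1 h2
  refine ⟨c, hc, c⁻¹ * g, ?_, by group⟩
  have h4 : MulAut.conj (c⁻¹ * g) • (S : Subgroup G) = S := by
    rw [← conj_conj]
    have h5 : MulAut.conj g • (S : Subgroup G) = cj c (S : Subgroup G) := h3.symm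
    rw [h5]
    exact cj_inv_cj c _
  rw [mem_normalizer_iff]
  intro y
  constructor
  · intro hy
    rw [← h4, mem_conj]
    simpa [mul_assoc] using hy
  · intro hy
    rw [← h4, mem_conj] at hy
    simpa [mul_assoc] using hy

/-! ### (R2) -/

/-- **(R2)**: `C_z ≤ N_G(Z)` if no member of `P*(S)` lies in `C_z`. -/
theorem le_normalizer (S : Sylow 2 G) {z : G} (hz : z ∈ zc (S : Subgroup G)) (hz1 : z ≠ 1)
    (h : ∀ P : Subgroup G, IsParS (S : Subgroup G) P → ¬ P ≤ centralizer ({z} : Set G)) :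
    centralizer ({z} : Set G) ≤ normalizer (zc (S : Subgroup G) : Set G) := by
  refine (isLong S hz hz1).loc.le_of_forall S ?_ fun P hP hPz => ?_
  · exact inf_le_right.trans (normalizer_le_normalizer_zc _)
  · by_contra hcon
    exact h P ⟨hP, hcon⟩ hPz

/-- **(R2)**: `C_z ≰ N_G(Z)` iff `z ∈ E_P = C_Z(P)` for some `P ∈ P*(S)`. -/
theorem le_normalizer_iff (S : Sylow 2 G) {z : G} (hz : z ∈ zc (S : Subgroup G)) (hz1 : z ≠ 1) :
    centralizer ({z} : Set G) ≤ normalizer (zc (S : Subgroup G) : Set G) ↔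
      ∀ P : Subgroup G, IsParS (S : Subgroup G) P → ¬ P ≤ centralizer ({z} : Set G) :=
  ⟨fun h _ hP hPz => hP.not_zc (hPz.trans h), le_normalizer S hz hz1⟩

/-- **(R2)**: TI. -/
theorem ti (S : Sylow 2 G) {z g : G} (hz : z ∈ zc (S : Subgroup G))
    (h : centralizer ({z} : Set G) ≤ normalizer (zc (S : Subgroup G) : Set G))
    (hg : z ∈ MulAut.conj g • zc (S : Subgroup G)) :
    MulAut.conj g • zc (S : Subgroup G) = zc (S : Subgroup G) := by
  obtain ⟨c, hc, n, hn, rfl⟩ := exists_mul S hz hg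
  rw [← conj_conj, conj_eq_of_mem (normalizer_le_normalizer_zc _ hn), conj_eq_of_mem (h hc)]

/-- **(R2)**: if `C_Z(P) = 1` for all `P ∈ P*(S)` then `Z` is TI. -/
theorem ti_of_cz (S : Sylow 2 G)
    (h : ∀ P : Subgroup G, IsParS (S : Subgroup G) P →
      zc (S : Subgroup G) ⊓ centralizer (P : Set G) = ⊥) (g : G)
    (hg : zc (S : Subgroup G) ⊓ MulAut.conj g • zc (S : Subgroup G) ≠ ⊥) :
    MulAut.conj g • zc (S : Subgroup G) = zc (S : Subgroup G) := by
  obtain ⟨⟨z, hz⟩, hz0⟩ := Subgroup.ne_bot_iff_exists_ne_one.1 hg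
  have hz1 : z ≠ 1 := fun h0 => hz0 (Subtype.ext h0)
  refine ti S hz.1 (le_normalizer S hz.1 hz1 fun P hP hPz => hz1 ?_) hz.2
  have h1 : (z : G) ∈ zc (S : Subgroup G) ⊓ centralizer (P : Set G) :=
    mem_inf.2 ⟨hz.1, mem_centralizer_iff.2 fun p hp => (mem_centralizer_iff.1 (hPz hp) z rfl).symm⟩
  rw [h P hP, mem_bot] at h1
  exact h1

/-! ### `N_G(S)` normalises `WP S` -/

omit [Finite G] in
theorem conj_WP_of_normalizer (S : Sylow 2 G) {n : G}
    (hn : n ∈ normalizer ((S : Subgroup G) : Set G)) :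
    MulAut.conj n • WP (S : Subgroup G) = WP (S : Subgroup G) := by
  have key : ∀ n ∈ normalizer ((S : Subgroup G) : Set G),
      MulAut.conj n • WP (S : Subgroup G) ≤ WP (S : Subgroup G) := by
    intro n hn
    refine NoFF.Lines.conj_W_le fun P hP c hc => ?_
    have h1 : (n * c) = (n * c * n⁻¹) * n := by group
    have hz := conj_eq_of_mem (normalizer_le_normalizer_zc _ hn)
    have hnc : n * c * n⁻¹ ∈ CZ (S : Subgroup G) := by
      rw [mem_centralizer_iff]
      intro z hz'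
      have h2 : n⁻¹ * z * n ∈ zc (S : Subgroup G) :=
        (mem_normalizer_iff''.mp (normalizer_le_normalizer_zc _ hn) z).mp hz'
      have h3 := mem_centralizer_iff.1 hc _ h2
      have e : z * (n * c * n⁻¹) = n * ((n⁻¹ * z * n) * c) * n⁻¹ := by group
      rw [e, h3]
      group
    have hP' : IsParS (S : Subgroup G) (MulAut.conj n • P) := by
      have h5 := IsParS.map (MulAut.conj n) hP
      have h6 : (S : Subgroup G).map (MulAut.conj n).toMonoidHom = S := conj_eq_of_mem hn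
      rw [h6] at h5
      exact h5
    have hV : MulAut.conj n • zl (S : Subgroup G) P = zl (S : Subgroup G) (MulAut.conj n • P) := by
      apply le_antisymm
      · rw [← conj_le_iff (g := n⁻¹), conj_conj, inv_mul_cancel, map_one, one_smul]
        refine Cfsg.Agent.MinSimple.VModule.zl_le ?_ ?_
        · have h7 := Cfsg.Agent.MinSimple.VModule.zc_le_zl (S : Subgroup G) (MulAut.conj n • P)
          have h8 := conj_le_iff (g := n⁻¹).2 h7
          rwa [conj_eq_of_mem (inv_mem (normalizer_le_normalizer_zc _ hn))] at h8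
        · have h9 := conj_le_normalizer (g := n⁻¹)
            (Cfsg.Agent.MinSimple.VModule.le_normalizer_zl (S : Subgroup G) (MulAut.conj n • P))
          rwa [conj_conj, inv_mul_cancel, map_one, one_smul] at h9
      · refine Cfsg.Agent.MinSimple.VModule.zl_le ?_ ?_
        · have h7 := conj_le_iff (g := n).2 (Cfsg.Agent.MinSimple.VModule.zc_le_zl (S : Subgroup G) P)
          rwa [hz] at h7
        · exact conj_le_normalizer (Cfsg.Agent.MinSimple.VModule.le_normalizer_zl (S : Subgroup G) P)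
    have h4 := line_le_WP hP' hnc
    change MulAut.conj (n * c) • zl (S : Subgroup G) P ≤ _
    rw [h1, ← conj_conj, hV]
    exact h4
  apply le_antisymm (key n hn)
  have h1 := conj_le_iff (g := n).2 (key n⁻¹ (inv_mem hn))
  rwa [conj_conj, mul_inv_cancel, map_one, one_smul] at h1

/-! ### (R3) -/

variable {S : Sylow 2 G}

/-- `Z ∩ Z^g ∋ z`: `WP^g = WP^c` with `c ∈ C_z`. -/
theorem conj_WP_le_FH' {z g : G} (hz : z ∈ zc (S : Subgroup G))
    (hg : z ∈ MulAut.conj g • zc (S : Subgroup G)) :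
    MulAut.conj g • WP (S : Subgroup G) ≤ FH (S : Subgroup G) (centralizer ({z} : Set G)) := by
  obtain ⟨c, hc, n, hn, rfl⟩ := exists_mul S hz hg
  rw [← conj_conj, conj_WP_of_normalizer S hn]
  exact conj_WP_le_FH _ hc

/-- **(R3)** not (A): `Z^x ∩ Z^y ≠ 1` implies `[W^x, W^y] = 1`. -/
theorem WP_comm (hc : IsCharacteristicTwoType G) (D : Data (S : Subgroup G))
    (hA : ¬ CaseA (S : Subgroup G)) {x y z : G} (hz1 : z ≠ 1)
    (hx : z ∈ MulAut.conj x • zc (S : Subgroup G)) (hy : z ∈ MulAut.conj y • zc (S : Subgroup G)) :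
    MulAut.conj x • WP (S : Subgroup G) ≤
      centralizer ((MulAut.conj y • WP (S : Subgroup G) : Subgroup G) : Set G) := by
  have hz : y⁻¹ * z * y ∈ zc (S : Subgroup G) := mem_conj.1 hy
  have hz2 : y⁻¹ * z * y ≠ 1 := fun h0 => hz1 (by
    have h1 := congrArg (fun t => y * t * y⁻¹) h0
    simpa [mul_assoc] using h1)
  have hx' : y⁻¹ * z * y ∈ MulAut.conj (y⁻¹ * x) • zc (S : Subgroup G) := by
    rw [← conj_conj, mem_conj]
    simpa [mul_assoc] using hx
  have h1 := conj_WP_le_FH' hz hx'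
  have hy' : y⁻¹ * z * y ∈ MulAut.conj (1 : G) • zc (S : Subgroup G) := by
    rw [map_one, one_smul]
    exact hz
  have h2 := conj_WP_le_FH' hz hy'
  rw [map_one, one_smul] at h2
  have h3 := comm_mono (NotA.FH_comm hc D hA (isLong S hz hz2)) h1 h2
  have h4 := conj_le_centralizer (g := y) h3
  rwa [conj_conj, mul_inv_cancel_left] at h4

/-- `⟨C_z : z ∈ Z#⟩` is nonlocal if `C_Z(P) ≠ 1` for all `P ∈ P*(S)`. -/
theorem o2_iSup_eq_bot (hG : Ctx G) (hF : Full (S : Subgroup G))
    (hE : ∀ P : Subgroup G, IsParS (S : Subgroup G) P →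
      zc (S : Subgroup G) ⊓ centralizer (P : Set G) ≠ ⊥) :
    o2 (⨆ z : {z : G // z ∈ zc (S : Subgroup G) ∧ z ≠ 1}, centralizer ({(z : G)} : Set G)) = ⊥ := by
  have hex : ∀ P : Subgroup G, IsParS (S : Subgroup G) P →
      ∃ z : {z : G // z ∈ zc (S : Subgroup G) ∧ z ≠ 1}, P ≤ centralizer ({(z : G)} : Set G) := by
    intro P hP
    obtain ⟨a, ha⟩ := Subgroup.ne_bot_iff_exists_ne_one.1 (hE P hP)
    refine ⟨⟨a, (mem_inf.1 a.2).1, fun h0 => ha (Subtype.ext h0)⟩, fun p hp => ?_⟩
    rw [mem_centralizer_iff]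
    rintro _ rfl
    exact (mem_centralizer_iff.1 (mem_inf.1 a.2).2 p hp).symm
  refine eq_bot_of_norm hG S hF (o2_isPGroup _) (fun P hP => ?_) ?_
  · obtain ⟨z, hz⟩ := hex P hP
    exact (hz.trans (le_iSup (fun z : {z : G // z ∈ zc (S : Subgroup G) ∧ z ≠ 1} =>
      centralizer ({(z : G)} : Set G)) z)).trans (le_normalizer_o2 _)
  · obtain ⟨P, hP⟩ := hG.exists_isParS hF
    obtain ⟨z, hz⟩ := hex P hP
    exact ((isLong S z.2.1 z.2.2).cz.trans (le_iSup (fun z : {z : G // z ∈ zc (S : Subgroup G) ∧ z ≠ 1} =>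
      centralizer ({(z : G)} : Set G)) z)).trans (le_normalizer_o2 _)

/-- **(R3)**: a critical pair of the groups `F_z`, `z` an involution of some `Z^x`. -/
theorem exists_crit (hG : Ctx G) (hF : Full (S : Subgroup G)) (D : Data (S : Subgroup G))
    (hA : ¬ CaseA (S : Subgroup G))
    (hE : ∀ P : Subgroup G, IsParS (S : Subgroup G) P →
      zc (S : Subgroup G) ⊓ centralizer (P : Set G) ≠ ⊥) :
    ∃ z ∈ zc (S : Subgroup G), z ≠ 1 ∧ ∃ z' ∈ zc (S : Subgroup G), z' ≠ 1 ∧ ∃ x : G,
      MulAut.conj x • FH (S : Subgroup G) (centralizer ({z'} : Set G)) ≤ o2 (CZ (S : Subgroup G)) ∧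
      FH (S : Subgroup G) (centralizer ({z} : Set G)) ≤ MulAut.conj x • o2 (CZ (S : Subgroup G)) ∧
      ¬ FH (S : Subgroup G) (centralizer ({z} : Set G)) ≤
        centralizer ((MulAut.conj x • FH (S : Subgroup G) (centralizer ({z'} : Set G)) : Subgroup G) :
          Set G) := by
  have hc := hG.char2
  have hL : ∀ z : {z : G // z ∈ zc (S : Subgroup G) ∧ z ≠ 1},
      IsLong (S : Subgroup G) (centralizer ({(z : G)} : Set G)) := fun z => isLong S z.2.1 z.2.2
  rcases PointStab.exists_crit_or (Z := zc (S : Subgroup G))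
    (H := fun z : {z : G // z ∈ zc (S : Subgroup G) ∧ z ≠ 1} => centralizer ({(z : G)} : Set G))
    (U := fun z => FH (S : Subgroup G) (centralizer ({(z : G)} : Set G)))
    (fun z => (zc_le_WP hG hF).trans (WP_le_FH _ _)) (fun z => (hL z).cz)
    (fun z => le_normalizer_FH _ _) (fun z => (hL z).o2_le S)
    (fun z => NotA.FH_le_o2 D hA (hL z)) with h | h
  · obtain ⟨i, j, x, -, h1, h2, h3⟩ := h
    exact ⟨i, i.2.1, i.2.2, j, j.2.1, j.2.2, x, h1, h2, h3⟩
  · exfalso
    -- the normal closure of one `F_z` is an abelian 2-group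
    obtain ⟨P, hP⟩ := hG.exists_isParS hF
    obtain ⟨a, ha⟩ := Subgroup.ne_bot_iff_exists_ne_one.1 (hE P hP)
    let i₀ : {z : G // z ∈ zc (S : Subgroup G) ∧ z ≠ 1} :=
      ⟨a, (mem_inf.1 a.2).1, fun h0 => ha (Subtype.ext h0)⟩
    set X : Subgroup G := ⨆ z : {z : G // z ∈ zc (S : Subgroup G) ∧ z ≠ 1},
      centralizer ({(z : G)} : Set G) with hX
    set N : Subgroup G := ⨆ x : X, MulAut.conj (x : G) • FH (S : Subgroup G) (centralizer ({(i₀ : G)} : Set G))
      with hN
    have hN1 : FH (S : Subgroup G) (centralizer ({(i₀ : G)} : Set G)) ≤ N := by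
      have h1 := le_iSup (fun x : X => MulAut.conj (x : G) •
        FH (S : Subgroup G) (centralizer ({(i₀ : G)} : Set G))) 1
      simpa using h1
    have hcomm : N ≤ centralizer (N : Set G) := by
      refine iSup_le fun x => comm_symm (iSup_le fun y => comm_symm ?_)
      have h1 := h i₀ i₀ ((x : G)⁻¹ * y) (mul_mem (inv_mem x.2) y.2)
      have h2 := conj_le_centralizer (g := (x : G)) h1
      rwa [conj_conj, mul_inv_cancel_left] at h2
    have hnorm : X ≤ normalizer (N : Set G) := by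
      have key : ∀ g ∈ X, MulAut.conj g • N ≤ N := by
        intro g hg
        rw [← conj_le_iff (g := g⁻¹), conj_conj, inv_mul_cancel, map_one, one_smul]
        refine iSup_le fun x => ?_
        rw [← conj_le_iff (g := g), conj_conj, conj_conj, mul_inv_cancel, map_one, one_smul]
        exact le_iSup (fun x : X => MulAut.conj (x : G) •
          FH (S : Subgroup G) (centralizer ({(i₀ : G)} : Set G))) ⟨g * x, mul_mem hg x.2⟩
      intro g hg
      have h1 : MulAut.conj g • N = N := by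
        apply le_antisymm (key g hg)
        have h2 := conj_le_iff (g := g).2 (key g⁻¹ (inv_mem hg))
        rwa [conj_conj, mul_inv_cancel, map_one, one_smul] at h2
      rw [mem_normalizer_iff]
      intro y
      constructor
      · intro hy
        rw [← h1, mem_conj]
        simpa [mul_assoc] using hy
      · intro hy
        rw [← h1, mem_conj] at hy
        simpa [mul_assoc] using hy
    have hpN : IsPGroup 2 N := by
      rintro ⟨y, hy⟩
      refine ⟨1, Subtype.ext ?_⟩
      have hsq : ∀ y ∈ N, y ^ 2 = 1 := by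
        intro y hy
        refine (Subgroup.iSup_induction (S := fun x : X => MulAut.conj (x : G) •
          FH (S : Subgroup G) (centralizer ({(i₀ : G)} : Set G))) (C := fun y => y ^ 2 = 1 ∧ y ∈ N) hy ?_ ?_ ?_).1
        · intro x t ht
          refine ⟨?_, (le_iSup (fun x : X => MulAut.conj (x : G) •
            FH (S : Subgroup G) (centralizer ({(i₀ : G)} : Set G))) x) ht⟩
          rw [mem_conj] at ht
          have h1 := NotA.FH_sq hc D hA (hL i₀) _ ht
          have h2 : (x : G) * (((x : G)⁻¹ * t * x) ^ 2) * (x : G)⁻¹ = t ^ 2 := by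
            rw [pow_two, pow_two]
            group
          rw [← h2, h1]
          group
        · exact ⟨one_pow 2, one_mem _⟩
        · rintro s t ⟨hs, hs'⟩ ⟨ht, ht'⟩
          refine ⟨?_, mul_mem hs' ht'⟩
          have h1 : s * t = t * s := mem_centralizer_iff.1 (hcomm ht') s hs'
          rw [(show Commute s t from h1).mul_pow, hs, ht, one_mul]
      simpa using hsq y hy
    have h2 : N ≤ o2 X := Cfsg.Agent.MinSimple.VModule.le_o2 ?_ hpN hnorm
    · have h3 := o2_iSup_eq_bot hG hF hE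
      rw [← hX] at h3
      rw [h3, le_bot_iff] at h2
      rw [h2, le_bot_iff] at hN1
      have h4 := (zc_le_WP hG hF).trans (WP_le_FH (S : Subgroup G) (centralizer ({(i₀ : G)} : Set G)))
      rw [hN1, le_bot_iff] at h4
      exact MinSimple.Basic.zc_ne_bot S.isPGroup' (hG.sylow_ne_bot S) h4
    · have hO : ∀ z, FH (S : Subgroup G) (centralizer ({((z : {z : G // z ∈ zc (S : Subgroup G) ∧ z ≠ 1}) : G)} : Set G)) ≤ X :=
        fun z => ((NotA.FH_le_o2 D hA (hL z)).trans (Cfsg.Agent.MinSimple.VModule.o2_le _)).trans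
          (le_iSup (fun z : {z : G // z ∈ zc (S : Subgroup G) ∧ z ≠ 1} => centralizer ({(z : G)} : Set G)) z)
      refine iSup_le fun x => ?_
      have h5 := conj_le_iff (g := (x : G)).2 (hO i₀)
      rwa [conj_eq_of_mem (Subgroup.le_normalizer x.2)] at h5

end fin

end Cfsg.Agent.Omega.NOThreeL.RTools
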