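import Cfsg.Agent.Omega.NOThreeL.RTools.Symp

/-!
# NO-3L, box R, case (A), `q = 2`, `k = 1`, symplectic case (#17122): the configuration

`Cfg` is what L3 (three groups) and L4 (frame facts (0), (5)) give to the glue L5 ((8)-(10), `False`).

`Us = U#`, `UU = U = U_H`, `V = V'`, `E = C_Z(P')`, `W` the product of the lines (in `H`) on `e`, `T = U_e ∩ U_a`,
`Ya = U_a ∩ C_G(V')`, `u ∈ U_e - Y_e`, `g = u u'` with `e^g = a`, `I` the radical of the form `B`, `PP = e^H`.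
`cm a b = a b a⁻¹ b⁻¹`, `B x y = 1` means perpendicular.
-/

set_option autoImplicit false

namespace Cfsg.Agent.Omega.NOThreeL.RTools

open Subgroup

universe u

variable {G : Type u} [Group G]

/-- The commutator `[a, b] = a b a⁻¹ b⁻¹`. -/
def cm (a b : G) : G := a * b * a⁻¹ * b⁻¹

theorem cm_def (a b : G) : cm a b = a * b * a⁻¹ * b⁻¹ := rfl

theorem cm_mul (y' u : G) : cm y' u * u = y' * u * y'⁻¹ := by rw [cm_def]; group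

/-- The configuration of the symplectic case. -/
structure Cfg (Us UU H V E W T Ya I : Subgroup G) (PP : Set G) (B : G → G → ℤˣ) (e a u g : G) : Prop where
  -- the form
  form : Symp.Form Us PP B
  eP : e ∈ PP
  rad : ∀ x, x ∈ I ↔ x ∈ Us ∧ ∀ y ∈ Us, B x y = 1
  -- the action of `H`
  HU : H ≤ normalizer (UU : Set G)
  HUs : H ≤ normalizer (Us : Set G)
  UsUU : Us ≤ UU
  abU : ∀ x ∈ UU, ∀ y ∈ UU, x * y = y * x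
  invB : ∀ h ∈ H, ∀ x ∈ Us, ∀ y ∈ Us, B (h * x * h⁻¹) (h * y * h⁻¹) = B x y
  invP : ∀ h ∈ H, ∀ p ∈ PP, h * p * h⁻¹ ∈ PP
  transP : ∀ p ∈ PP, ∃ h ∈ H, p = h * e * h⁻¹
  /-- (0)(d) -/
  triv : ∀ h ∈ H, (∀ x ∈ Us, cm h x ∈ I) → (∀ x ∈ I, cm h x = 1) → ∀ x ∈ Us, cm h x = 1
  /-- (3)(c) -/
  uniq : ∀ p ∈ PP, (∀ y ∈ Us, B (p * e) y = 1) → p = e
  -- `V`
  VH : V ≤ H
  DH : centralizer (V : Set G) ≤ H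
  aV : a ∈ V
  /-- `Y_e = U# ∩ C(V) = e^⊥` -/
  Ye : ∀ x ∈ Us, x ∈ centralizer (V : Set G) ↔ B e x = 1
  /-- `[V, U] = ⟨e⟩` -/
  VU : ∀ v ∈ V, ∀ f ∈ UU, cm v f = 1 ∨ cm v f = e
  /-- `V = ⟨a⟩ C_V(U)` -/
  aU : ∀ f ∈ UU, a * f = f * a → f ∈ centralizer (V : Set G)
  /-- `C_U(V) = Y_e E` -/
  YE : ∀ y ∈ UU, y ∈ centralizer (V : Set G) → ∃ y1 ∈ Us, B e y1 = 1 ∧ ∃ ε ∈ E, y = y1 * ε
  -- `u`, `g`, `T`, `Ya`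
  uU : u ∈ Us
  ue : B e u = -1
  ge : g * e * g⁻¹ = a
  EU : ∀ ε ∈ E, ∀ x ∈ UU, x * ε = ε * x
  Eg : ∀ ε ∈ E, g * ε = ε * g
  TU : T ≤ Us
  Te : ∀ t ∈ T, B e t = 1
  eT : e ∉ T
  /-- `T` is centralised by `X ∋ g` -/
  Tg : ∀ t ∈ T, g * t = t * g
  TYa : T ≤ Ya
  YaH : Ya ≤ H
  YaV : Ya ≤ centralizer (V : Set G)
  /-- `Ya = (Y_e)^g` -/
  Yag : ∀ y ∈ Us, B e y = 1 → g * y * g⁻¹ ∈ Ya
  Yag' : ∀ y' ∈ Ya, ∃ y ∈ Us, B e y = 1 ∧ y' = g * y * g⁻¹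
  /-- `[u, y^g] ∈ y T` -/
  third : ∀ y ∈ Us, B e y = 1 → cm u (g * y * g⁻¹) * y ∈ T
  /-- `[U_e, Y_a] ≤ Y_e` -/
  cmY : ∀ y' ∈ Ya, ∀ x ∈ Us, cm y' x ∈ Us ∧ B e (cm y' x) = 1
  /-- `y' ↦ [y', u]` is a homomorphism `Y_a → Y_e / T` with kernel `T`, onto -/
  hom : ∀ s ∈ Ya, ∀ t ∈ Ya, ∃ r ∈ T, cm (s * t) u = cm s u * cm t u * r
  ker : ∀ y' ∈ Ya, cm y' u ∈ T → y' ∈ T
  onto : ∀ y ∈ Us, B e y = 1 → ∃ y' ∈ Ya, ∃ s ∈ T, y = cm y' u * s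
  /-- `[y', y] = z₀^{([y', u], y)}`, `z₀ = e r` -/
  cases : ∀ y ∈ Us, B e y = 1 → ∀ y' ∈ Ya, (cm y' y = 1 ∧ B (cm y' u) y = 1) ∨
    (cm y' y ∈ T ∧ cm y' y * e ∈ I ∧ B (cm y' u) y = -1)
  /-- `z₀ e = r` is centralised by `H` -/
  rfix : ∀ x ∈ T, x * e ∈ I → ∀ h ∈ H, h * (x * e) * h⁻¹ = x * e
  -- the lines
  eW : e ∈ W
  WV : W ≤ centralizer (V : Set G)
  invW : ∀ k ∈ H, k * e * k⁻¹ = e → ∀ w ∈ W, k * w * k⁻¹ ∈ W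
  /-- (5) -/
  WWg : ∀ w ∈ W, ∀ w' ∈ W, w * (g * w' * g⁻¹) = (g * w' * g⁻¹) * w
  neW : ∃ p ∈ PP, p ∈ W ∧ p ≠ e
  /-- (9), `U_M` for `M = C_G(p)`, `p ∈ PP ∩ T` -/
  UM : ∀ p ∈ PP, p ∈ T → ∃ M : Subgroup G, (∀ x ∈ M, ∀ y ∈ M, x * y = y * x) ∧
    centralizer ({p} : Set G) ≤ normalizer (M : Set G) ∧
    ∃ z ∈ M, z ∈ UU ∧ ∀ y1 ∈ T, ∀ ε ∈ E, z ≠ y1 * ε

end Cfsg.Agent.Omega.NOThreeL.RTools
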