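import Cfsg.Agent.Omega.NOThreeL.ThmT

/-!
# NO-3L, box R, tool (R4): THEOREM T modulo the radical (#15623, helper691; referee #15774, helper709)

The setting of `ThmT.Data` without the condition `core`.  `X` is the `G`-set of points, `z x ≤ U x` (`U x` abelian)
are equivariant and `C_G(z x)` fixes `x`; `V` is a line (natural modulo its radical), `L` its set of points,
`D = C_G(V)`, `Y x = U x ∩ D`.

* `T L U = ⋂_{x ∈ L} U x`; `inf_eq` : `U x ∩ U y = T` for two opposite points; `norm_T` : `N` normalises `T`;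
  `T_le` : `T ≤ D`;
* `comm_mem` : `[D, U x] ≤ Y x`; `comm_mem_T` : `[Y x, Y y] ≤ T` for opposite `x`, `y`;
* `star` : for `u ∈ U c - D` and `c'` opposite to `c`: `Y c = [u, Y c'] T`; `star_inj`, `star_mul`: the map
  `t ↦ [u, t]` is a homomorphism `Y c' → Y c / T` with kernel `T`;
* `mem_T` : an element of `U c` centralised by a subgroup of `N` transitive on `L` is in `T`.
-/

set_option autoImplicit false

namespace Cfsg.Agent.Omega.NOThreeL.RTools

open Subgroup MulAction Pointwise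
open Cfsg.Agent.Omega.NOThreeL (mem_normalizer_of_conj_eq)
open Cfsg.Agent.Omega.NOThreeL.ThmT (conj_eq_of_mem_normalizer mem_normalizer_of_forall conj_mem_centralizer
  conj_centralizer_eq card_conj)
open Cfsg.Agent.Omega.NoFF.Basic (conj_conj mem_conj conj_le_iff conj_le_centralizer comm_symm
  comm_mono)

universe u v

variable {G : Type u} [Group G]

/-- The data of a line `V` on `c` on which `U c` acts nontrivially, radical allowed. -/
structure DataM {X : Type v} [MulAction G X] (z U : X → Subgroup G) (V N : Subgroup G) (L : Set X)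
    (opp : X → X → Prop) (c : X) : Prop where
  eqv_z : ∀ (g : G) (x : X), z (g • x) = MulAut.conj g • z x
  eqv_U : ∀ (g : G) (x : X), U (g • x) = MulAut.conj g • U x
  le : ∀ x, z x ≤ U x
  abel : ∀ x, U x ≤ centralizer (U x : Set G)
  cent : ∀ x, ∀ g ∈ centralizer (z x : Set G), g • x = x
  mem : c ∈ L
  other : ∃ c' ∈ L, opp c c'
  zV : ∀ x ∈ L, z x ≤ V
  Vz : ∀ A : Subgroup G, (∀ x ∈ L, z x ≤ A) → V ≤ A
  UN : U c ≤ N
  NV : N ≤ normalizer (V : Set G)
  inv : ∀ g ∈ N, ∀ x ∈ L, g • x ∈ L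
  hom : ∀ x ∈ L, ∃ g ∈ N, g • c = x
  stab : ∀ u ∈ U c, u ∉ centralizer (V : Set G) → ∀ y ∈ L, opp c y → opp y (u • y)
  trans : ∀ x ∈ L, ∀ y ∈ L, opp x y → ∀ w ∈ L, ∃ g ∈ U x ⊔ U y, g • x = w

/-- `T = ⋂_{x ∈ L} U x`. -/
def T {X : Type v} (U : X → Subgroup G) (L : Set X) : Subgroup G := ⨅ x ∈ L, U x

namespace DataM

variable {X : Type v} [MulAction G X] {z U : X → Subgroup G} {V N : Subgroup G} {L : Set X}
variable {opp : X → X → Prop} {c : X}
variable (D : DataM z U V N L opp c)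
include D

theorem norm_U {g : G} {x : X} (h : g • x = x) : g ∈ normalizer (U x : Set G) :=
  mem_normalizer_of_conj_eq (by rw [← D.eqv_U, h])

/-- `C_G(V)` fixes the points of `V`. -/
theorem fix {x : X} (hx : x ∈ L) {g : G} (hg : g ∈ centralizer (V : Set G)) : g • x = x :=
  D.cent x g (centralizer_le (D.zV x hx) hg)

omit D [MulAction G X] in
theorem T_le_U {x : X} (hx : x ∈ L) : T U L ≤ U x := iInf₂_le x hx

theorem inf_eq {x y : X} (hx : x ∈ L) (hy : y ∈ L) (hne : opp x y) : U x ⊓ U y = T U L := by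
  apply le_antisymm
  · refine le_iInf₂ fun w hw => ?_
    obtain ⟨g, hg, hgw⟩ := D.trans x hx y hy hne w hw
    have h0 : U x ⊔ U y ≤ centralizer ((U x ⊓ U y : Subgroup G) : Set G) :=
      sup_le ((D.abel x).trans (centralizer_le inf_le_left))
        ((D.abel y).trans (centralizer_le inf_le_right))
    intro t ht
    rw [← hgw, D.eqv_U, mem_conj]
    have h1 : g * t = t * g := (mem_centralizer_iff.mp (h0 hg) t ht).symm
    have h2 : g⁻¹ * t * g = t := by rw [mul_assoc, ← h1, inv_mul_cancel_left]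
    rw [h2]
    exact ht.1
  · exact le_inf (T_le_U hx) (T_le_U hy)

/-- `N` normalises `T`. -/
theorem norm_T : N ≤ normalizer (T U L : Set G) := by
  refine mem_normalizer_of_forall fun g hg => le_iInf₂ fun x hx => ?_
  have h1 : T U L ≤ U (g⁻¹ • x) := T_le_U (D.inv _ (inv_mem hg) _ hx)
  have h2 := conj_le_iff (g := g) |>.2 h1
  rwa [← D.eqv_U, smul_inv_smul] at h2

/-- `T ≤ D = C_G(V)`. -/
theorem T_le : T U L ≤ centralizer (V : Set G) := by
  refine comm_symm (D.Vz _ fun x hx => ?_)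
  exact ((D.le x).trans (D.abel x)).trans (centralizer_le (T_le_U hx))

theorem T_le_Y {x : X} (hx : x ∈ L) : T U L ≤ U x ⊓ centralizer (V : Set G) := le_inf (T_le_U hx) D.T_le

theorem U_le_N {x : X} (hx : x ∈ L) : U x ≤ N := by
  obtain ⟨g, hg, rfl⟩ := D.hom x hx
  rw [D.eqv_U]
  have h1 := conj_le_iff (g := g) |>.2 D.UN
  rwa [conj_eq_of_mem_normalizer (Subgroup.le_normalizer hg)] at h1

theorem conj_Y {g : G} (hg : g ∈ N) (x : X) :
    MulAut.conj g • (U x ⊓ centralizer (V : Set G) : Subgroup G) = U (g • x) ⊓ centralizer (V : Set G) := by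
  rw [Subgroup.smul_inf, ← D.eqv_U, conj_centralizer_eq (D.NV hg)]

theorem card_Y {x : X} (hx : x ∈ L) :
    Nat.card (U x ⊓ centralizer (V : Set G) : Subgroup G) =
      Nat.card (U c ⊓ centralizer (V : Set G) : Subgroup G) := by
  obtain ⟨g, hg, rfl⟩ := D.hom x hx
  rw [← D.conj_Y hg, card_conj]

/-- `[D, U x] ≤ Y x` -/
theorem comm_mem {x : X} (hx : x ∈ L) {a b : G} (ha : a ∈ centralizer (V : Set G)) (hb : b ∈ U x) :
    a * b * a⁻¹ * b⁻¹ ∈ U x ⊓ centralizer (V : Set G) := by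
  refine mem_inf.mpr ⟨?_, ?_⟩
  · exact mul_mem ((mem_normalizer_iff.mp (D.norm_U (D.fix hx ha)) b).mp hb) (inv_mem hb)
  · have h1 : b * a⁻¹ * b⁻¹ ∈ centralizer (V : Set G) := by
      have h2 := conj_mem_centralizer (inv_mem (D.NV (D.U_le_N hx hb))) (inv_mem ha)
      simpa using h2
    have h5 : a * b * a⁻¹ * b⁻¹ = a * (b * a⁻¹ * b⁻¹) := by group
    rw [h5]
    exact mul_mem ha h1

/-- `[Y x, Y y] ≤ T` -/
theorem comm_mem_T {x y : X} (hx : x ∈ L) (hy : y ∈ L) (hne : opp x y) {a b : G}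
    (ha : a ∈ U x ⊓ centralizer (V : Set G)) (hb : b ∈ U y ⊓ centralizer (V : Set G)) :
    a * b * a⁻¹ * b⁻¹ ∈ T U L := by
  have ha2 : a ∈ normalizer (U y : Set G) := D.norm_U (D.fix hy ha.2)
  have hb2 : b ∈ normalizer (U x : Set G) := D.norm_U (D.fix hx hb.2)
  rw [← D.inf_eq hx hy hne]
  refine mem_inf.mpr ⟨?_, ?_⟩
  · have h5 : a * b * a⁻¹ * b⁻¹ = a * (b * a⁻¹ * b⁻¹) := by group
    rw [h5]
    exact mul_mem ha.1 ((mem_normalizer_iff.mp hb2 _).mp (inv_mem ha.1))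
  · exact (U y).mul_mem ((mem_normalizer_iff.mp ha2 _).mp hb.1) ((U y).inv_mem hb.1)

/-- Elements of `T` commute with the elements of all `U x`, `x ∈ L`. -/
theorem T_comm {x : X} (hx : x ∈ L) {s a : G} (hs : s ∈ T U L) (ha : a ∈ U x) : s * a = a * s :=
  (mem_centralizer_iff.mp (D.abel x ha) s (T_le_U hx hs))

/-- the commutator `[u, t]`, `u ∈ U c`, `t ∈ D`, as the element `u⁻¹ u^t` of `Y c` -/
theorem mem_Y {u : G} (hu : u ∈ U c) {t : G} (ht : t ∈ centralizer (V : Set G)) :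
    u⁻¹ * (t⁻¹ * u * t) ∈ U c ⊓ centralizer (V : Set G) := by
  have h1 : t ∈ normalizer (U c : Set G) := D.norm_U (D.fix D.mem ht)
  refine mem_inf.mpr ⟨?_, ?_⟩
  · refine mul_mem (inv_mem hu) ?_
    have h2 := (mem_normalizer_iff.mp (inv_mem h1) u).mp hu
    simpa using h2
  · have h3 : u⁻¹ * (t⁻¹ * u * t) = u⁻¹ * t⁻¹ * u * t := by group
    rw [h3]
    exact mul_mem (conj_mem_centralizer (D.NV (D.UN hu)) (inv_mem ht)) ht

/-- `t ↦ [u, t]` is a homomorphism modulo `T`. -/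
theorem star_mul {u : G} (hu : u ∈ U c) {c' : X} (hc' : c' ∈ L) (hne : opp c c') {s t : G}
    (hs : s ∈ U c' ⊓ centralizer (V : Set G)) (ht : t ∈ U c' ⊓ centralizer (V : Set G)) :
    ∃ r ∈ T U L, u⁻¹ * ((s * t)⁻¹ * u * (s * t)) =
      (u⁻¹ * (s⁻¹ * u * s)) * (u⁻¹ * (t⁻¹ * u * t)) * r := by
  -- `a = [u, s]`, `[u, st] = [u, t] a^t`
  have ha := D.mem_Y hu hs.2
  have hb := D.mem_Y hu ht.2
  set a : G := u⁻¹ * (s⁻¹ * u * s) with hadef
  set b : G := u⁻¹ * (t⁻¹ * u * t) with hbdef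
  have h1 : u⁻¹ * ((s * t)⁻¹ * u * (s * t)) = b * (t⁻¹ * a * t) := by
    rw [hadef, hbdef]
    group
  have h2 : t⁻¹ * a * t = a * (a⁻¹ * t⁻¹ * a * t) := by group
  have h3 : a⁻¹ * t⁻¹ * a * t ∈ T U L := by
    have h4 := D.comm_mem_T D.mem hc' hne (inv_mem ha) (inv_mem ht)
    simpa [mul_assoc] using h4
  refine ⟨a⁻¹ * t⁻¹ * a * t, h3, ?_⟩
  have hab : b * a = a * b := mem_centralizer_iff.mp (D.abel c ha.1) b hb.1
  rw [h1, h2, ← mul_assoc b, hab]

/-- The kernel of `t ↦ [u, t]` modulo `T` is `T`. -/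
theorem star_inj {u : G} (hu : u ∈ U c) (huV : u ∉ centralizer (V : Set G)) {c' : X} (hc' : c' ∈ L)
    (hne : opp c c') {t : G} (ht : t ∈ U c' ⊓ centralizer (V : Set G))
    (h : u⁻¹ * (t⁻¹ * u * t) ∈ T U L) : t ∈ T U L := by
  have h6 : opp c' (u • c') := D.stab u hu huV c' hc' hne
  rw [← D.inf_eq hc' (D.inv u (D.UN hu) c' hc') h6]
  refine mem_inf.mpr ⟨ht.1, ?_⟩
  rw [D.eqv_U, mem_conj]
  have h1 : u⁻¹ * t * u = t * (u⁻¹ * (t⁻¹ * u * t))⁻¹ := by group
  rw [h1]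
  exact mul_mem ht.1 (T_le_U hc' (inv_mem h))

variable [Finite G]

/-- **`Y c = [u, Y c'] T`.** -/
theorem star {u : G} (hu : u ∈ U c) (huV : u ∉ centralizer (V : Set G)) {c' : X} (hc' : c' ∈ L)
    (hne : opp c c') {y : G} (hy : y ∈ U c ⊓ centralizer (V : Set G)) :
    ∃ t ∈ U c' ⊓ centralizer (V : Set G), ∃ s ∈ T U L, t⁻¹ * u * t = u * y * s := by
  classical
  let A : Subgroup G := U c ⊓ centralizer (V : Set G)
  let B : Subgroup G := U c' ⊓ centralizer (V : Set G)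
  let TA : Subgroup A := (T U L).subgroupOf A
  let TB : Subgroup B := (T U L).subgroupOf B
  let f : B → A := fun t => ⟨u⁻¹ * ((t : G)⁻¹ * u * t), D.mem_Y hu (mem_inf.mp t.2).2⟩
  have hwd : ∀ s t : B, (QuotientGroup.leftRel TB).r s t → (QuotientGroup.mk (f s) : A ⧸ TA) = QuotientGroup.mk (f t) := by
    intro s t hst
    have h1 : s⁻¹ * t ∈ TB := QuotientGroup.leftRel_apply.mp hst
    have h2 : (s : G)⁻¹ * t ∈ T U L := h1
    -- `t = s r`
    have h3 : f t = f s := by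
      apply Subtype.ext
      change u⁻¹ * ((t : G)⁻¹ * u * t) = u⁻¹ * ((s : G)⁻¹ * u * s)
      set r : G := (s : G)⁻¹ * t with hr
      have ht : (t : G) = s * r := by rw [hr]; group
      have hr1 : r * u = u * r := D.T_comm D.mem h2 hu
      have hr2 : r * s = s * r := D.T_comm hc' h2 (mem_inf.mp s.2).1
      rw [ht, hr2.symm]
      have : (r * (s : G))⁻¹ * u * (r * s) = (s : G)⁻¹ * (r⁻¹ * (u * r)) * s := by group
      rw [this, ← hr1, inv_mul_cancel_left]
    rw [h3]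
  let F : (B ⧸ TB) → (A ⧸ TA) := Quotient.lift (fun t => (QuotientGroup.mk (f t) : A ⧸ TA)) hwd
  have hmul : ∀ s t : B, ∃ r ∈ T U L, ((f (s * t) : A) : G) = (f s : G) * (f t : G) * r := fun s t =>
    D.star_mul hu hc' hne s.2 t.2
  have hinj : Function.Injective F := by
    intro a b
    refine Quotient.inductionOn₂' a b fun s t h => ?_
    have h1 : (QuotientGroup.mk (f s) : A ⧸ TA) = QuotientGroup.mk (f t) := h
    rw [QuotientGroup.eq] at h1
    have h2 : ((f s : A) : G)⁻¹ * (f t : G) ∈ T U L := h1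
    -- `f (s (s⁻¹ t)) = f s f (s⁻¹ t) r`
    obtain ⟨r, hr, h3⟩ := hmul s (s⁻¹ * t)
    rw [mul_inv_cancel_left] at h3
    have h4 : ((f (s⁻¹ * t) : A) : G) ∈ T U L := by
      have h5 : ((f (s⁻¹ * t) : A) : G) = ((f s : A) : G)⁻¹ * (f t : G) * r⁻¹ := by
        rw [h3]
        group
      rw [h5]
      exact mul_mem h2 (inv_mem hr)
    have h5 := D.star_inj hu huV hc' hne (s⁻¹ * t).2 h4
    exact Quotient.sound' (QuotientGroup.leftRel_apply.mpr h5)
  have hcardA := Subgroup.card_eq_card_quotient_mul_card_subgroup TA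
  have hcardB := Subgroup.card_eq_card_quotient_mul_card_subgroup TB
  have hTA : Nat.card TA = Nat.card (T U L) :=
    Nat.card_congr (Subgroup.subgroupOfEquivOfLe (D.T_le_Y D.mem)).toEquiv
  have hTB : Nat.card TB = Nat.card (T U L) :=
    Nat.card_congr (Subgroup.subgroupOfEquivOfLe (D.T_le_Y hc')).toEquiv
  have hAB : Nat.card B = Nat.card A := D.card_Y hc'
  have hq : Nat.card (B ⧸ TB) = Nat.card (A ⧸ TA) := by
    have h1 : Nat.card (B ⧸ TB) * Nat.card (T U L) = Nat.card (A ⧸ TA) * Nat.card (T U L) := by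
      rw [← hTB, ← hcardB, hAB, hcardA, hTA, hTB]
    exact Nat.eq_of_mul_eq_mul_right Nat.card_pos h1
  have hbij := hinj.bijective_of_nat_card_le hq.ge
  obtain ⟨a, ha⟩ := hbij.2 (QuotientGroup.mk ⟨y, hy⟩)
  revert ha
  refine Quotient.inductionOn' a fun t ht => ?_
  have h1 : (QuotientGroup.mk (⟨y, hy⟩ : A) : A ⧸ TA) = QuotientGroup.mk (f t) := ht.symm
  rw [QuotientGroup.eq] at h1
  have h2 : y⁻¹ * (u⁻¹ * ((t : G)⁻¹ * u * t)) ∈ T U L := h1
  refine ⟨t, t.2, _, h2, ?_⟩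
  group

omit [Finite G] in
/-- An element of `U c` centralised by a subgroup of `N` transitive on `L` is in `T`. -/
theorem mem_T {A : Subgroup G} (hA : ∀ x ∈ L, ∃ a ∈ A, a • c = x) {t : G} (ht : t ∈ U c)
    (h : ∀ a ∈ A, a * t = t * a) : t ∈ T U L := by
  refine (mem_iInf.mpr fun x => mem_iInf.mpr fun hx => ?_)
  obtain ⟨a, ha, rfl⟩ := hA x hx
  rw [D.eqv_U, mem_conj]
  have h1 : a⁻¹ * t * a = t := by rw [mul_assoc, ← h a ha, inv_mul_cancel_left]
  rwa [h1]

end DataM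

end Cfsg.Agent.Omega.NOThreeL.RTools
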