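import Cfsg.Agent.Omega.NOThreeL.RTools.HypA
import Cfsg.Agent.Omega.NOThreeL.RTools.Cfg
import Cfsg.Agent.Omega.NOThreeL.RTools.Two
import Cfsg.Agent.Omega.NOThreeL.Geo
import Cfsg.Agent.MinSimple.BTwoB

/-!
# NO-3L, box R, case (A), `q = 2`, `k = 1` (#17122, helper858): the frame facts (0)

`V = V_P = zl S P`, `U = U_H = zl S H`, `U# = Ush H e = ⟨e^H⟩`, `PPt H e = e^H`, `N = NN S P H = ⟨V^H⟩`, `E = C_Z(P)`.

* `VU`, `aU` : `[V, U] ≤ ⟨e⟩`, `C_U(a) = C_U(V)`;
* `le_sup` (0)(a) : `H = N C`; `exists_nc`; `mem_PPt_iff` : `e^H = e^N`;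
* `not_cent` (0)(b) : no `1 ≠ z ∈ E` is centralised by `N`;
* `exists_mul` (0)(c) : `U = U# E`; `cm_mem` : `H` centralises `U/U#`; `cent_U` : `C_H(U#) = C_H(U)`;
* `triv` (0)(d); `V_le_o2` (0)(e) : `V ≤ O₂(C_H(e))`; `Wl` : the product of the lines in `H` on `e`;
  `Wl_cent` : `V^k`, `k ∈ C_H(e)`, centralises it; `exists_ne` : `e^H ∩ W ≠ {e}`.
-/

set_option autoImplicit false
set_option linter.unusedSectionVars false

namespace Cfsg.Agent.Omega.NOThreeL.RTools

open Subgroup Cfsg Cfsg.Agent.Omega.MinPar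
open Cfsg.Agent.ZN (zc zl o2)
open Cfsg.Agent.Omega.Frame Cfsg.Agent.Omega.FrameNOFF
open Cfsg.Agent.Omega.Node.NO3L Cfsg.Agent.Omega.NOThreeL.Basic
open Cfsg.Agent.Omega.NoFF.Basic (conj_conj mem_conj conj_le_iff conj_le_centralizer comm_symm comm_mono)
open Cfsg.Agent.Omega.NOThreeL.Pair (conj_eq_of_mem conj_le_normalizer zl_abel)
open Cfsg.Agent.MinSimple.VModule (zl_le zc_le_zl le_normalizer_zl zc_le o2_isPGroup le_normalizer_o2 le_o2
  normalizer_le_normalizer_zc)
open Cfsg.Agent.Omega.NOThreeL (mem_normalizer_of_conj_eq le_normalizer_of mem_sup_of_comm)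
open scoped Pointwise

universe u

variable {G : Type u} [Group G]

/-- `N = ⟨V_P^H⟩` -/
def NN (S P H : Subgroup G) : Subgroup G := ⨆ h : H, MulAut.conj (h : G) • zl S P

/-- the product of the lines in `H` on the point `Z`, conjugated by `C_H(e)` -/
def Wl (S H : Subgroup G) (e : G) : Subgroup G :=
  NoFF.Lines.W (zc S) (H ⊓ centralizer ({e} : Set G)) {P | IsParS S P ∧ P ≤ H}

theorem conj_mem_of_mem {A : Subgroup G} {g x : G} (hg : g ∈ normalizer (A : Set G)) (hx : x ∈ A) :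
    g * x * g⁻¹ ∈ A := (mem_normalizer_iff.mp hg x).mp hx

theorem conj_le_NN {S P H : Subgroup G} {h : G} (hh : h ∈ H) : MulAut.conj h • zl S P ≤ NN S P H :=
  le_iSup (fun h : H => MulAut.conj (h : G) • zl S P) ⟨h, hh⟩

theorem le_NN (S P H : Subgroup G) : zl S P ≤ NN S P H := by
  have h := conj_le_NN (S := S) (P := P) (H := H) H.one_mem
  rwa [map_one, one_smul] at h

theorem NN_le {S P H A : Subgroup G} (h : ∀ x ∈ H, MulAut.conj x • zl S P ≤ A) : NN S P H ≤ A :=
  iSup_le fun x => h x x.2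

theorem le_normalizer_NN (S P H : Subgroup G) : H ≤ normalizer (NN S P H : Set G) := by
  have key : ∀ h ∈ H, MulAut.conj h • NN S P H ≤ NN S P H := by
    intro h hh
    rw [← conj_le_iff (g := h⁻¹), conj_conj, inv_mul_cancel, map_one, one_smul]
    refine NN_le fun x hx => ?_
    rw [← conj_le_iff (g := h), conj_conj, conj_conj, mul_inv_cancel, map_one, one_smul]
    exact conj_le_NN (mul_mem hh hx)
  intro h hh
  refine mem_normalizer_of_conj_eq (le_antisymm (key h hh) ?_)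
  have h1 := conj_le_iff (g := h).2 (key h⁻¹ (inv_mem hh))
  rwa [conj_conj, mul_inv_cancel, map_one, one_smul] at h1

theorem PPt_conj {H : Subgroup G} {e h p : G} (hh : h ∈ H) (hp : p ∈ PPt H e) : h * p * h⁻¹ ∈ PPt H e := by
  obtain ⟨k, hk, rfl⟩ := hp
  exact ⟨h * k, mul_mem hh hk, by group⟩

theorem self_mem_PPt (H : Subgroup G) (e : G) : e ∈ PPt H e := ⟨1, one_mem _, by group⟩

theorem le_normalizer_Ush (H : Subgroup G) (e : G) : H ≤ normalizer (Ush H e : Set G) := by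
  refine le_normalizer_of fun h hh x hx => ?_
  refine closure_induction (p := fun x _ => h * x * h⁻¹ ∈ Ush H e) ?_ ?_ ?_ ?_ hx
  · exact fun x hx => subset_closure (PPt_conj hh hx)
  · rw [mul_one, mul_inv_cancel]; exact one_mem _
  · intro x y _ _ h1 h2
    have e1 : h * (x * y) * h⁻¹ = (h * x * h⁻¹) * (h * y * h⁻¹) := by group
    rw [e1]
    exact mul_mem h1 h2
  · intro x _ h1
    have e1 : h * x⁻¹ * h⁻¹ = (h * x * h⁻¹)⁻¹ := by group
    rw [e1]
    exact inv_mem h1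

theorem mem_Ush (H : Subgroup G) (e : G) : e ∈ Ush H e := subset_closure (self_mem_PPt H e)

theorem PPt_sub {H : Subgroup G} {e p : G} (hp : p ∈ PPt H e) : p ∈ Ush H e := subset_closure hp

/-- A normal subgroup `M₀` of `H ≥ S` which is a 2-group modulo `K₀ ⊴ H`: `M₀ = K₀ (S ∩ M₀)`. -/
theorem le_sup_inf [Finite G] (S : Sylow 2 G) {H M₀ K₀ : Subgroup G} (hSH : (S : Subgroup G) ≤ H) (hM : M₀ ≤ H)
    (hn : H ≤ normalizer (M₀ : Set G)) (hK : K₀ ≤ H) (hk : H ≤ normalizer (K₀ : Set G))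
    (h : ∀ x ∈ M₀, x ^ 2 ∈ K₀) : M₀ ≤ K₀ ⊔ ((S : Subgroup G) ⊓ M₀) :=
  Cfsg.Agent.MinSimple.BTwoB.le_sup_inf_of_pow hSH S.isPGroup' (MinSimple.Basic.not_dvd_relIndex S hSH) hM hn hK hk
    fun x hx => ⟨1, by simpa using h x hx⟩

namespace HypA

variable [Finite G] {S : Sylow 2 G} {P H : Subgroup G} {e a : G} (D : HypA S P H e a)
include D

theorem commV {x y : G} (hx : x ∈ zl (S : Subgroup G) P) (hy : y ∈ zl (S : Subgroup G) P) : x * y = y * x :=
  mem_centralizer_iff.mp ((zl_abel D.hc S D.par.isLoc).1 hy) x hx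

theorem sqV {x : G} (hx : x ∈ zl (S : Subgroup G) P) : x * x = 1 := by
  have h := (zl_abel D.hc S D.par.isLoc).2 x hx
  rwa [pow_two] at h

theorem commU {x y : G} (hx : x ∈ zl (S : Subgroup G) H) (hy : y ∈ zl (S : Subgroup G) H) : x * y = y * x :=
  mem_centralizer_iff.mp ((zl_abel D.hc S D.long.loc).1 hy) x hx

theorem sqU {x : G} (hx : x ∈ zl (S : Subgroup G) H) : x * x = 1 := by
  have h := (zl_abel D.hc S D.long.loc).2 x hx
  rwa [pow_two] at h

theorem SH : (S : Subgroup G) ≤ H := D.long.loc.le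

theorem SP : (S : Subgroup G) ≤ P := D.par.le

theorem VS : zl (S : Subgroup G) P ≤ (S : Subgroup G) := IsParS.zl_le_S D.hc D.par

theorem US : zl (S : Subgroup G) H ≤ (S : Subgroup G) := IsLong.zl_le_S D.hc D.long

theorem CH : CZ (S : Subgroup G) ≤ H := D.long.cz

theorem ZU : zc (S : Subgroup G) ≤ zl (S : Subgroup G) H := zc_le_zl _ _

theorem ZV : zc (S : Subgroup G) ≤ zl (S : Subgroup G) P := zc_le_zl _ _

theorem VH : zl (S : Subgroup G) P ≤ H := D.VS.trans D.SH

omit D in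
theorem zcomm {z s : G} (hz : z ∈ zc (S : Subgroup G)) (hs : s ∈ (S : Subgroup G)) : s * z = z * s :=
  (Cfsg.Agent.MinSimple.VModule.mem_zc.1 hz).2.1 s hs

theorem e_sq : e * e = 1 := D.sqV (D.ZV D.eZ)

theorem a_sq : a * a = 1 := D.sqV D.aV

theorem ea : e * a = a * e := D.commV (D.ZV D.eZ) D.aV

/-- `U` is not centralised by `a` -/
theorem a_not : ∃ f ∈ zl (S : Subgroup G) H, a * f ≠ f * a := by
  by_contra hcon
  push Not at hcon
  apply D.ne
  intro v hv
  rw [mem_centralizer_iff]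
  intro f hf
  obtain ⟨x, hx, ε, hε, rfl⟩ := D.cov v hv
  have h1 : f * ε = ε * f := zcomm (mem_inf.mp hε).1 (D.US hf)
  have h2 : f * e = e * f := zcomm D.eZ (D.US hf)
  have h3 : a * f = f * a := hcon f hf
  have h4 : f * x = x * f := by
    rcases hx with rfl | rfl | rfl | rfl
    · rw [mul_one, one_mul]
    · exact h2
    · exact h3.symm
    · calc f * (e * a) = (f * e) * a := by group
        _ = e * (f * a) := by rw [h2]; group
        _ = e * a * f := by rw [← h3]; group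
  calc f * (x * ε) = (f * x) * ε := by group
    _ = x * (f * ε) := by rw [h4]; group
    _ = x * ε * f := by rw [h1]; group

theorem a_nZ : a ∉ zc (S : Subgroup G) := fun h => by
  obtain ⟨f, hf, h1⟩ := D.a_not
  exact h1 (zcomm h (D.US hf)).symm

theorem a_ne : a ≠ e := fun h => D.a_nZ (h ▸ D.eZ)

/-- an element of `S` fixes `a` or moves it to `ea` -/
theorem S_a {s : G} (hs : s ∈ (S : Subgroup G)) : s * a * s⁻¹ = a ∨ s * a * s⁻¹ = e * a := by
  rcases D.inva s (D.SP hs) with h | h | h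
  · exfalso
    apply D.a_ne
    have h1 : s * e = e * s := zcomm D.eZ hs
    calc a = s⁻¹ * (s * a * s⁻¹) * s := by group
      _ = s⁻¹ * (e * s) := by rw [h]; group
      _ = e := by rw [← h1]; group
  · exact Or.inl h
  · exact Or.inr h

theorem cm_a {s : G} (hs : s ∈ (S : Subgroup G)) : cm a s = 1 ∨ cm a s = e := by
  have h0 : cm a s = a * (s * a * s⁻¹)⁻¹ := by rw [cm_def]; group
  rcases D.S_a hs with h | h
  · left
    rw [h0, h, mul_inv_cancel]
  · right
    rw [h0, h, mul_inv_rev, ← mul_assoc, mul_inv_cancel, one_mul]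
    exact inv_eq_of_mul_eq_one_left D.e_sq

theorem cm_V {v s : G} (hv : v ∈ zl (S : Subgroup G) P) (hs : s ∈ (S : Subgroup G)) :
    cm v s = 1 ∨ cm v s = e := by
  obtain ⟨x, hx, ε, hε, rfl⟩ := D.cov v hv
  have h1 : s * ε = ε * s := zcomm (mem_inf.mp hε).1 hs
  have h2 : s * e = e * s := zcomm D.eZ hs
  have h3 : cm (x * ε) s = cm x s := by
    rw [cm_def, cm_def, mul_inv_rev]
    calc x * ε * s * (ε⁻¹ * x⁻¹) * s⁻¹ = x * (ε * s) * ε⁻¹ * x⁻¹ * s⁻¹ := by group
      _ = x * s * x⁻¹ * s⁻¹ := by rw [← h1]; group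
  rw [h3]
  rcases hx with rfl | rfl | rfl | rfl
  · left; rw [cm_def]; group
  · left
    rw [cm_def, ← h2]
    group
  · exact D.cm_a hs
  · have h4 : cm (e * a) s = e * cm a s * e⁻¹ := by
      rw [cm_def, cm_def, mul_inv_rev]
      have h5 : e⁻¹ * s⁻¹ = s⁻¹ * e⁻¹ := by
        rw [← mul_inv_rev, ← mul_inv_rev, h2]
      calc e * a * s * (a⁻¹ * e⁻¹) * s⁻¹ = e * a * s * a⁻¹ * (e⁻¹ * s⁻¹) := by group
        _ = e * (a * s * a⁻¹ * s⁻¹) * e⁻¹ := by rw [h5]; group
    rw [h4]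
    rcases D.cm_a hs with h | h
    · left; rw [h]; group
    · right; rw [h]; group

theorem VU {v f : G} (hv : v ∈ zl (S : Subgroup G) P) (hf : f ∈ zl (S : Subgroup G) H) :
    cm v f = 1 ∨ cm v f = e := D.cm_V hv (D.US hf)

/-- `C_S(a) = C_S(V)` -/
theorem aS {s : G} (hs : s ∈ (S : Subgroup G)) (h : a * s = s * a) :
    s ∈ centralizer (zl (S : Subgroup G) P : Set G) := by
  rw [mem_centralizer_iff]
  intro v hv
  obtain ⟨x, hx, ε, hε, rfl⟩ := D.cov v hv
  have h1 : s * ε = ε * s := zcomm (mem_inf.mp hε).1 hs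
  have h2 : s * e = e * s := zcomm D.eZ hs
  have h4 : x * s = s * x := by
    rcases hx with rfl | rfl | rfl | rfl
    · rw [mul_one, one_mul]
    · exact h2.symm
    · exact h
    · calc e * a * s = e * (a * s) := by group
        _ = (e * s) * a := by rw [h]; group
        _ = s * (e * a) := by rw [← h2]; group
  calc x * ε * s = x * (ε * s) := by group
    _ = (x * s) * ε := by rw [← h1]; group
    _ = s * (x * ε) := by rw [h4]; group

theorem aU {f : G} (hf : f ∈ zl (S : Subgroup G) H) (h : a * f = f * a) :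
    f ∈ centralizer (zl (S : Subgroup G) P : Set G) := D.aS (D.US hf) h

/-- `Z = ⟨e⟩ E` -/
theorem Z_or {z : G} (hz : z ∈ zc (S : Subgroup G)) :
    z ∈ centralizer (P : Set G) ∨ e * z ∈ centralizer (P : Set G) := by
  obtain ⟨x, hx, ε, hε, rfl⟩ := D.cov z (D.ZV hz)
  have hx' : x ∈ zc (S : Subgroup G) := by
    have h1 := mul_mem hz (inv_mem (mem_inf.mp hε).1)
    rwa [mul_inv_cancel_right] at h1
  rcases hx with rfl | rfl | rfl | rfl
  · left; rw [one_mul]; exact (mem_inf.mp hε).2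
  · right
    rw [← mul_assoc, D.e_sq, one_mul]
    exact (mem_inf.mp hε).2
  · exact absurd hx' D.a_nZ
  · exfalso
    apply D.a_nZ
    have h1 := mul_mem D.eZ hx'
    rwa [← mul_assoc, D.e_sq, one_mul] at h1

/-! ### (0)(a) -/

theorem NN_le_H : NN (S : Subgroup G) P H ≤ H := NN_le fun x hx => by
  have h1 := conj_le_iff (g := x).2 D.VH
  rwa [conj_eq_of_mem (Subgroup.le_normalizer hx)] at h1

theorem C_norm_NN : CZ (S : Subgroup G) ≤ normalizer (NN (S : Subgroup G) P H : Set G) :=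
  D.CH.trans (le_normalizer_NN _ _ _)

/-- **(0)(a)** `H = N C` -/
theorem le_sup : H ≤ NN (S : Subgroup G) P H ⊔ CZ (S : Subgroup G) := by
  by_contra hcon
  set H₁ := NN (S : Subgroup G) P H ⊔ CZ (S : Subgroup G) with hH1
  have hle : H₁ ≤ H := sup_le D.NN_le_H D.CH
  have hne : H₁ ≠ H := fun h => hcon (by rw [h])
  have hl : IsLong (S : Subgroup G) H₁ :=
    ⟨D.long.loc.of_le S ((le_CZ S).trans le_sup_right) hle, le_sup_right⟩
  have h1 := D.min H₁ hl hle hne
  have h2 : zl (S : Subgroup G) P ≤ o2 H₁ := le_o2_of_comm (D.data.low P D.par) hl h1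
  -- `V ≤ O₂(N) ≤ O₂(H)`
  have h3 : zl (S : Subgroup G) P ≤ o2 (NN (S : Subgroup G) P H) := by
    have h4 : o2 H₁ ⊓ NN (S : Subgroup G) P H ≤ o2 (NN (S : Subgroup G) P H) := by
      refine le_o2 inf_le_right ((o2_isPGroup _).to_le inf_le_left) ?_
      intro g hg
      have h5 := le_normalizer_o2 H₁ ((le_sup_left : NN (S : Subgroup G) P H ≤ H₁) hg)
      rw [mem_normalizer_iff] at h5 ⊢
      intro x
      rw [mem_inf, mem_inf, h5 x, mem_normalizer_iff.mp (Subgroup.le_normalizer hg) x]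
    exact (le_inf h2 (le_NN _ _ _)).trans h4
  have h6 : o2 (NN (S : Subgroup G) P H) ≤ o2 H := by
    refine le_o2 ((Cfsg.Agent.MinSimple.VModule.o2_le _).trans D.NN_le_H) (o2_isPGroup _) ?_
    refine (le_normalizer_NN (S : Subgroup G) P H).trans ?_
    exact Cfsg.Agent.Omega.normalizer_le_normalizer_o2' _
  have h7 : o2 H ≤ centralizer (zl (S : Subgroup G) H : Set G) :=
    Cfsg.Agent.MinSimple.VModule.o2_le_centralizer_zl D.long.loc.le S.isPGroup'
      (MinSimple.Basic.not_dvd_relIndex S D.long.loc.le) (D.long.loc.char2 S D.hc)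
  exact D.ne ((h3.trans h6).trans h7)

theorem exists_nc {h : G} (hh : h ∈ H) : ∃ n ∈ NN (S : Subgroup G) P H, ∃ c ∈ CZ (S : Subgroup G), h = n * c := by
  have h1 : h ∈ ((NN (S : Subgroup G) P H ⊔ CZ (S : Subgroup G) : Subgroup G) : Set G) := D.le_sup hh
  rw [coe_mul_of_right_le_normalizer_left _ _ D.C_norm_NN] at h1
  obtain ⟨n, hn, c, hc, rfl⟩ := Set.mem_mul.mp h1
  exact ⟨n, hn, c, hc, rfl⟩

omit D in
theorem C_cent {z c : G} (hz : z ∈ zc (S : Subgroup G)) (hc : c ∈ CZ (S : Subgroup G)) : c * z * c⁻¹ = z := by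
  rw [← mem_centralizer_iff.mp hc z hz, mul_inv_cancel_right]

theorem mem_PPt_iff {p : G} : p ∈ PPt H e ↔ ∃ n ∈ NN (S : Subgroup G) P H, p = n * e * n⁻¹ := by
  constructor
  · rintro ⟨h, hh, rfl⟩
    obtain ⟨n, hn, c, hc, rfl⟩ := D.exists_nc hh
    refine ⟨n, hn, ?_⟩
    have h1 : c * e * c⁻¹ = e := C_cent D.eZ hc
    calc n * c * e * (n * c)⁻¹ = n * (c * e * c⁻¹) * n⁻¹ := by group
      _ = n * e * n⁻¹ := by rw [h1]
  · rintro ⟨n, hn, rfl⟩
    exact ⟨n, D.NN_le_H hn, rfl⟩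

/-- **(0)(b)** : no `1 ≠ z ∈ E` is centralised by `N`. -/
theorem not_cent {z : G} (hz : z ∈ zc (S : Subgroup G)) (hzP : z ∈ centralizer (P : Set G))
    (hzN : z ∈ centralizer (NN (S : Subgroup G) P H : Set G)) : z = 1 := by
  by_contra hz1
  have hL : IsLong (S : Subgroup G) (centralizer ({z} : Set G)) := isLong S hz hz1
  have hHz : H ≤ centralizer ({z} : Set G) := by
    intro h hh
    obtain ⟨n, hn, c, hc, rfl⟩ := D.exists_nc hh
    refine mul_mem ?_ (hL.cz hc)
    rw [mem_centralizer_iff]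
    rintro _ rfl
    exact (mem_centralizer_iff.mp hzN n hn).symm
  have hPz : P ≤ centralizer ({z} : Set G) := by
    intro p hp
    rw [mem_centralizer_iff]
    rintro _ rfl
    exact (mem_centralizer_iff.mp hzP p hp).symm
  have h1 : zl (S : Subgroup G) P ≤ zl (S : Subgroup G) (centralizer ({z} : Set G)) :=
    zl_le (zc_le_zl _ _) (hPz.trans (le_normalizer_zl _ _))
  have h2 : zl (S : Subgroup G) H ≤ zl (S : Subgroup G) (centralizer ({z} : Set G)) :=
    zl_le (zc_le_zl _ _) (hHz.trans (le_normalizer_zl _ _))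
  exact D.ne (comm_mono (zl_abel D.hc S hL.loc).1 h1 h2)

/-! ### (0)(c) -/

theorem Ush_le : Ush H e ≤ zl (S : Subgroup G) H := by
  rw [Ush, closure_le]
  rintro _ ⟨h, hh, rfl⟩
  exact conj_mem_of_mem (le_normalizer_zl _ _ hh) (D.ZU D.eZ)

theorem Ush_comm {x y : G} (hx : x ∈ Ush H e) (hy : y ∈ Ush H e) : x * y = y * x :=
  D.commU (D.Ush_le hx) (D.Ush_le hy)

theorem Ush_sq {x : G} (hx : x ∈ Ush H e) : x * x = 1 := D.sqU (D.Ush_le hx)

/-- `N` centralises `U/U#` -/
theorem cm_N {n f : G} (hn : n ∈ NN (S : Subgroup G) P H) (hf : f ∈ zl (S : Subgroup G) H) :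
    cm n f ∈ Ush H e := by
  let K : Subgroup G :=
    { carrier := {h | h ∈ H ∧ ∀ f ∈ zl (S : Subgroup G) H, cm h f ∈ Ush H e}
      mul_mem' := by
        rintro x y ⟨hx, h1⟩ ⟨hy, h2⟩
        refine ⟨mul_mem hx hy, fun f hf => ?_⟩
        have e1 : cm (x * y) f = (x * cm y f * x⁻¹) * cm x f := by
          simp only [cm_def]; group
        rw [e1]
        exact mul_mem (conj_mem_of_mem (le_normalizer_Ush H e hx) (h2 f hf)) (h1 f hf)
      one_mem' := ⟨one_mem _, fun f _ => by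
        have e1 : cm (1 : G) f = 1 := by rw [cm_def]; group
        rw [e1]; exact one_mem _⟩
      inv_mem' := by
        rintro x ⟨hx, h1⟩
        refine ⟨inv_mem hx, fun f hf => ?_⟩
        have e1 : cm x⁻¹ f = x⁻¹ * (cm x f)⁻¹ * x⁻¹⁻¹ := by simp only [cm_def]; group
        rw [e1]
        exact conj_mem_of_mem (le_normalizer_Ush H e (inv_mem hx)) (inv_mem (h1 f hf)) }
  have hK : NN (S : Subgroup G) P H ≤ K := by
    refine NN_le fun h hh v' hv' => ?_
    rw [mem_conj] at hv'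
    refine ⟨?_, fun f hf => ?_⟩
    · have h1 := H.mul_mem (H.mul_mem hh (D.VH hv')) (H.inv_mem hh)
      have e1 : h * (h⁻¹ * v' * h) * h⁻¹ = v' := by group
      rwa [e1] at h1
    · have hf' : h⁻¹ * f * h ∈ zl (S : Subgroup G) H := by
        have h1 := conj_mem_of_mem (le_normalizer_zl (S : Subgroup G) H (inv_mem hh)) hf
        rwa [inv_inv] at h1
      have e1 : cm v' f = h * cm (h⁻¹ * v' * h) (h⁻¹ * f * h) * h⁻¹ := by simp only [cm_def]; group
      rw [e1]
      rcases D.VU hv' hf' with h2 | h2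
      · rw [h2, mul_one, mul_inv_cancel]; exact one_mem _
      · rw [h2]
        exact PPt_sub ⟨h, hh, rfl⟩
  exact (hK hn).2 f hf

/-- **(0)(c)** `U = U# Z` -/
theorem U_le : zl (S : Subgroup G) H ≤ Ush H e ⊔ zc (S : Subgroup G) := by
  refine zl_le le_sup_right (D.le_sup.trans (sup_le ?_ ?_))
  · have hgen : ∀ x ∈ Ush H e ⊔ zc (S : Subgroup G), x ∈ zl (S : Subgroup G) H :=
      fun x hx => (sup_le D.Ush_le D.ZU) hx
    refine le_normalizer_of fun n hn x hx => ?_
    have e1 : n * x * n⁻¹ = cm n x * x := (cm_mul n x).symm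
    rw [e1]
    exact mul_mem ((le_sup_left : Ush H e ≤ _) (D.cm_N hn (hgen x hx))) hx
  · refine le_normalizer_sup (D.CH.trans (le_normalizer_Ush H e)) (centralizer_le_normalizer _)

theorem exists_mulZ {f : G} (hf : f ∈ zl (S : Subgroup G) H) :
    ∃ x ∈ Ush H e, ∃ z ∈ zc (S : Subgroup G), f = x * z := by
  obtain ⟨x, hx, z, hz, h1⟩ := mem_sup_of_comm (A := Ush H e) (B := zc (S : Subgroup G)) (fun x hx => by
    rw [mem_centralizer_iff]
    intro z hz
    exact D.commU (D.ZU hz) (D.Ush_le hx)) (D.U_le hf)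
  exact ⟨x, hx, z, hz, h1.symm⟩

theorem exists_mulE {f : G} (hf : f ∈ zl (S : Subgroup G) H) :
    ∃ x ∈ Ush H e, ∃ ε ∈ zc (S : Subgroup G) ⊓ centralizer (P : Set G), f = x * ε := by
  obtain ⟨x, hx, z, hz, rfl⟩ := D.exists_mulZ hf
  rcases D.Z_or hz with h | h
  · exact ⟨x, hx, z, mem_inf.mpr ⟨hz, h⟩, rfl⟩
  · refine ⟨x * e, mul_mem hx (mem_Ush H e), e * z, mem_inf.mpr ⟨mul_mem D.eZ hz, h⟩, ?_⟩
    calc x * z = x * (e * e) * z := by rw [D.e_sq, mul_one]
      _ = x * e * (e * z) := by group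

/-- `[U#, V] ≠ 1` -/
theorem exists_u : ∃ u ∈ Ush H e, u ∉ centralizer (zl (S : Subgroup G) P : Set G) := by
  by_contra hcon
  push Not at hcon
  obtain ⟨f, hf, h1⟩ := D.a_not
  obtain ⟨x, hx, z, hz, rfl⟩ := D.exists_mulZ hf
  apply h1
  have h2 : a * x = x * a := mem_centralizer_iff.mp (hcon x hx) a D.aV
  have h3 : a * z = z * a := zcomm hz (D.VS D.aV)
  calc a * (x * z) = (a * x) * z := by group
    _ = x * (a * z) := by rw [h2]; group
    _ = x * z * a := by rw [h3]; group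

/-- `H` centralises `U/U#` -/
theorem cm_mem {h f : G} (hh : h ∈ H) (hf : f ∈ zl (S : Subgroup G) H) : cm h f ∈ Ush H e := by
  obtain ⟨n, hn, c, hc, rfl⟩ := D.exists_nc hh
  obtain ⟨x, hx, z, hz, rfl⟩ := D.exists_mulZ hf
  have hcz : c * z * c⁻¹ = z := C_cent hz hc
  have hx' : c * x * c⁻¹ ∈ Ush H e := conj_mem_of_mem (le_normalizer_Ush H e (D.CH hc)) hx
  have e1 : cm (n * c) (x * z) = (n * (c * x * c⁻¹) * n⁻¹) * (cm n z) * x⁻¹ := by
    have h1 : cm (n * c) (x * z) = (n * (c * x * c⁻¹) * n⁻¹) * (n * (c * z * c⁻¹) * n⁻¹) * z⁻¹ * x⁻¹ := by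
      simp only [cm_def]; group
    rw [h1, hcz]
    simp only [cm_def]; group
  rw [e1]
  exact mul_mem (mul_mem (conj_mem_of_mem (le_normalizer_Ush H e (D.NN_le_H hn)) hx') (D.cm_N hn (D.ZU hz)))
    (inv_mem hx)

omit D in
theorem norm_inf_cent {A : Subgroup G} (hA : H ≤ normalizer (A : Set G)) :
    H ≤ normalizer ((H ⊓ centralizer (A : Set G) : Subgroup G) : Set G) := by
  refine le_normalizer_of fun h hh x hx => mem_inf.mpr ⟨mul_mem (mul_mem hh (mem_inf.mp hx).1) (inv_mem hh), ?_⟩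
  rw [mem_centralizer_iff]
  intro y hy
  have hy' : h⁻¹ * y * h ∈ A := by
    have h1 := conj_mem_of_mem (hA (inv_mem hh)) hy
    rwa [inv_inv] at h1
  have h1 := mem_centralizer_iff.mp (mem_inf.mp hx).2 _ hy'
  calc y * (h * x * h⁻¹) = h * ((h⁻¹ * y * h) * x) * h⁻¹ := by group
    _ = h * (x * (h⁻¹ * y * h)) * h⁻¹ := by rw [h1]
    _ = h * x * h⁻¹ * y := by group

/-- **(0)(c)** `C_H(U#) ≤ C(U)` -/
theorem cent_U : H ⊓ centralizer (Ush H e : Set G) ≤ centralizer (zl (S : Subgroup G) H : Set G) := by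
  set M₀ := H ⊓ centralizer (Ush H e : Set G) with hM0
  have hM₀n : H ≤ normalizer (M₀ : Set G) := norm_inf_cent (le_normalizer_Ush H e)
  have h1 := le_sup_inf S (H := H) (M₀ := M₀) (K₀ := H ⊓ centralizer (zl (S : Subgroup G) H : Set G)) D.SH
    inf_le_left hM₀n inf_le_left (norm_inf_cent (le_normalizer_zl _ _)) (by
      intro x hx
      refine mem_inf.mpr ⟨pow_mem (mem_inf.mp hx).1 2, ?_⟩
      rw [mem_centralizer_iff]
      intro f hf
      have h2 := D.cm_mem (mem_inf.mp hx).1 hf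
      have h3 : x * cm x f = cm x f * x := (mem_centralizer_iff.mp (mem_inf.mp hx).2 _ h2).symm
      have h4 := D.Ush_sq h2
      have h5 : x * f = cm x f * f * x := by rw [cm_def]; group
      calc f * x ^ 2 = (cm x f * cm x f) * f * x * x := by rw [h4, pow_two]; group
        _ = cm x f * (cm x f * f * x) * x := by group
        _ = cm x f * (x * f) * x := by rw [← h5]
        _ = (cm x f * x) * f * x := by group
        _ = x * (cm x f * f * x) := by rw [← h3]; group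
        _ = x * (x * f) := by rw [← h5]
        _ = x ^ 2 * f := by rw [pow_two]; group)
  -- `M₀` centralises `Z`
  have h2 : M₀ ≤ centralizer (zc (S : Subgroup G) : Set G) := by
    refine h1.trans (sup_le (inf_le_right.trans (centralizer_le D.ZU)) (inf_le_left.trans (le_CZ S)))
  have h3 : zl (S : Subgroup G) H ≤ centralizer (M₀ : Set G) := by
    refine zl_le (comm_symm h2) ?_
    refine le_normalizer_of fun h hh x hx => ?_
    rw [mem_centralizer_iff] at hx ⊢
    intro m hm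
    have hm' : h⁻¹ * m * h ∈ M₀ := by
      have h4 := conj_mem_of_mem (hM₀n (inv_mem hh)) hm
      rwa [inv_inv] at h4
    have h4 := hx _ hm'
    calc m * (h * x * h⁻¹) = h * ((h⁻¹ * m * h) * x) * h⁻¹ := by group
      _ = h * (x * (h⁻¹ * m * h)) * h⁻¹ := by rw [h4]
      _ = h * x * h⁻¹ * m := by group
  exact comm_symm h3

/-- **(0)(d)** -/
theorem triv {I : Subgroup G} (hI : I ≤ Ush H e) (hHI : H ≤ normalizer (I : Set G)) {h : G} (hh : h ∈ H)
    (h1 : ∀ x ∈ Ush H e, cm h x ∈ I) (h2 : ∀ x ∈ I, cm h x = 1) : ∀ x ∈ Ush H e, cm h x = 1 := by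
  let M₀ : Subgroup G :=
    { carrier := {h | h ∈ H ∧ (∀ x ∈ Ush H e, cm h x ∈ I) ∧ ∀ x ∈ I, cm h x = 1}
      mul_mem' := by
        rintro x y ⟨hx, h1, h2⟩ ⟨hy, h3, h4⟩
        refine ⟨mul_mem hx hy, fun f hf => ?_, fun f hf => ?_⟩
        · have e1 : cm (x * y) f = (x * cm y f * x⁻¹) * cm x f := by simp only [cm_def]; group
          rw [e1]
          exact mul_mem (conj_mem_of_mem (hHI hx) (h3 f hf)) (h1 f hf)
        · have e1 : cm (x * y) f = (x * cm y f * x⁻¹) * cm x f := by simp only [cm_def]; group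
          rw [e1, h4 f hf, h2 f hf]; group
      one_mem' := ⟨one_mem _, fun f _ => by
        have e1 : cm (1 : G) f = 1 := by rw [cm_def]; group
        rw [e1]; exact one_mem _, fun f _ => by rw [cm_def]; group⟩
      inv_mem' := by
        rintro x ⟨hx, h1, h2⟩
        refine ⟨inv_mem hx, fun f hf => ?_, fun f hf => ?_⟩
        · have e1 : cm x⁻¹ f = x⁻¹ * (cm x f)⁻¹ * x⁻¹⁻¹ := by simp only [cm_def]; group
          rw [e1]
          exact conj_mem_of_mem (hHI (inv_mem hx)) (inv_mem (h1 f hf))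
        · have e1 : cm x⁻¹ f = x⁻¹ * (cm x f)⁻¹ * x⁻¹⁻¹ := by simp only [cm_def]; group
          rw [e1, h2 f hf]; group }
  have hconj : ∀ {k x y : G}, cm (k * x * k⁻¹) y = k * cm x (k⁻¹ * y * k) * k⁻¹ := by
    intro k x y; simp only [cm_def]; group
  have hM₀n : H ≤ normalizer (M₀ : Set G) := by
    refine le_normalizer_of fun k hk x hx => ?_
    obtain ⟨hx, h3, h4⟩ := hx
    refine ⟨mul_mem (mul_mem hk hx) (inv_mem hk), fun f hf => ?_, fun f hf => ?_⟩
    · rw [hconj]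
      refine conj_mem_of_mem (hHI hk) (h3 _ ?_)
      have h5 := conj_mem_of_mem (le_normalizer_Ush H e (inv_mem hk)) hf
      rwa [inv_inv] at h5
    · rw [hconj, h4 _ (by
        have h5 := conj_mem_of_mem (hHI (inv_mem hk)) hf
        rwa [inv_inv] at h5)]
      group
  have hle := le_sup_inf S (H := H) (M₀ := M₀) (K₀ := H ⊓ centralizer (Ush H e : Set G)) D.SH
    (fun x hx => hx.1) hM₀n inf_le_left (norm_inf_cent (le_normalizer_Ush H e)) (by
      rintro x ⟨hx, h3, h4⟩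
      refine mem_inf.mpr ⟨pow_mem hx 2, ?_⟩
      rw [mem_centralizer_iff]
      intro f hf
      have h5 := h3 f hf
      have h6 : cm x (cm x f) = 1 := h4 _ h5
      have h7 : x * cm x f = cm x f * x := by
        have h8 : cm x (cm x f) * (cm x f * x) = x * cm x f := by simp only [cm_def]; group
        rw [← h8, h6, one_mul]
      have h9 := D.Ush_sq (hI h5)
      have h10 : x * f = cm x f * f * x := by rw [cm_def]; group
      calc f * x ^ 2 = (cm x f * cm x f) * f * x * x := by rw [h9, pow_two]; group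
        _ = cm x f * (cm x f * f * x) * x := by group
        _ = cm x f * (x * f) * x := by rw [← h10]
        _ = (cm x f * x) * f * x := by group
        _ = x * (cm x f * f * x) := by rw [← h7]; group
        _ = x * (x * f) := by rw [← h10]
        _ = x ^ 2 * f := by rw [pow_two]; group)
  have hMe : ∀ x ∈ M₀, x * e = e * x := by
    intro x hx
    have h3 : M₀ ≤ centralizer ({e} : Set G) := by
      refine hle.trans (sup_le (inf_le_right.trans (centralizer_le ?_)) (inf_le_left.trans ?_))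
      · rintro _ rfl; exact mem_Ush H _
      · exact le_centralizer_of_mem_zc D.eZ
    exact (mem_centralizer_iff.mp (h3 hx) e rfl).symm
  have hMU : M₀ ≤ centralizer (Ush H e : Set G) := by
    rw [Ush, centralizer_closure]
    intro x hx
    rw [mem_centralizer_iff]
    rintro _ ⟨k, hk, rfl⟩
    have hx' : k⁻¹ * x * k ∈ M₀ := by
      have h5 := conj_mem_of_mem (hM₀n (inv_mem hk)) hx
      rwa [inv_inv] at h5
    have h6 := hMe _ hx'
    calc k * e * k⁻¹ * x = k * (e * (k⁻¹ * x * k)) * k⁻¹ := by group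
      _ = k * ((k⁻¹ * x * k) * e) * k⁻¹ := by rw [h6]
      _ = x * (k * e * k⁻¹) := by group
  intro x hx
  have h3 := mem_centralizer_iff.mp (hMU ⟨hh, h1, h2⟩) x hx
  rw [cm_def, ← h3]
  group

/-! ### (0)(e) -/

/-- `K = C_H(e)` -/
theorem isLong_K : IsLong (S : Subgroup G) (H ⊓ centralizer ({e} : Set G)) := by
  have h1 := isLong S D.eZ D.e1
  refine ⟨h1.loc.of_le S (le_inf D.SH (le_centralizer_of_mem_zc D.eZ)) inf_le_right, le_inf D.CH h1.cz⟩

theorem K_ne : H ⊓ centralizer ({e} : Set G) ≠ H := by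
  intro h
  have h1 : H ≤ centralizer ({e} : Set G) := inf_eq_left.mp h
  have h2 : Ush H e ≤ zc (S : Subgroup G) := by
    rw [Ush, closure_le]
    rintro _ ⟨k, hk, rfl⟩
    have h3 : k * e * k⁻¹ = e := by
      rw [← mem_centralizer_iff.mp (h1 hk) e rfl, mul_inv_cancel_right]
    rw [h3]
    exact D.eZ
  obtain ⟨u, hu, hu1⟩ := D.exists_u
  apply hu1
  rw [mem_centralizer_iff]
  intro v hv
  exact zcomm (h2 hu) (D.VS hv)

/-- **(0)(e)** `V ≤ O₂(K)` -/
theorem V_le_o2 : zl (S : Subgroup G) P ≤ o2 (H ⊓ centralizer ({e} : Set G)) :=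
  le_o2_of_comm (D.data.low P D.par) D.isLong_K (D.min _ D.isLong_K inf_le_left D.K_ne)

theorem conjV_le_o2 {k : G} (hk : k ∈ H ⊓ centralizer ({e} : Set G)) :
    MulAut.conj k • zl (S : Subgroup G) P ≤ o2 (H ⊓ centralizer ({e} : Set G)) := by
  have h1 := (conj_le_iff (g := k)).2 D.V_le_o2
  rwa [conj_eq_of_mem (le_normalizer_o2 _ hk)] at h1

theorem exists_par : ∃ P₁, IsParS (S : Subgroup G) P₁ ∧ P₁ ≤ H := by
  by_contra hcon
  push Not at hcon
  have h1 : H ≤ normalizer (zc (S : Subgroup G) : Set G) := by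
    refine D.long.loc.le_of_forall S (inf_le_right.trans (normalizer_le_normalizer_zc _)) fun P₁ hP hPH => ?_
    by_contra h2
    exact hcon P₁ ⟨hP, h2⟩ hPH
  have h2 : zl (S : Subgroup G) H ≤ zc (S : Subgroup G) := zl_le le_rfl h1
  obtain ⟨f, hf, h3⟩ := D.a_not
  exact h3 (zcomm (h2 hf) (D.VS D.aV))

omit [Finite G] D in
theorem line_le_Wl {P₁ : Subgroup G} (h1 : IsParS (S : Subgroup G) P₁) (h2 : P₁ ≤ H) {k : G}
    (hk : k ∈ H ⊓ centralizer ({e} : Set G)) : MulAut.conj k • zl (S : Subgroup G) P₁ ≤ Wl (S : Subgroup G) H e :=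
  NoFF.Lines.line_le (Z := zc (S : Subgroup G)) (C := H ⊓ centralizer ({e} : Set G))
    (F := {P | IsParS (S : Subgroup G) P ∧ P ≤ H}) ⟨h1, h2⟩ hk

omit [Finite G] D in
theorem Wl_le {A : Subgroup G} (h : ∀ P₁, IsParS (S : Subgroup G) P₁ → P₁ ≤ H →
    ∀ k ∈ H ⊓ centralizer ({e} : Set G), MulAut.conj k • zl (S : Subgroup G) P₁ ≤ A) :
    Wl (S : Subgroup G) H e ≤ A := NoFF.Lines.W_le fun P hP c hc => h P hP.1 hP.2 c hc

theorem Z_le_Wl : zc (S : Subgroup G) ≤ Wl (S : Subgroup G) H e := by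
  obtain ⟨P₁, h1, h2⟩ := D.exists_par
  have h3 := line_le_Wl (S := S) (H := H) (e := e) h1 h2 (one_mem _)
  rw [map_one, one_smul] at h3
  exact (zc_le_zl _ _).trans h3

theorem e_mem_Wl : e ∈ Wl (S : Subgroup G) H e := D.Z_le_Wl D.eZ

omit [Finite G] D in
theorem K_norm_Wl : H ⊓ centralizer ({e} : Set G) ≤ normalizer (Wl (S : Subgroup G) H e : Set G) :=
  NoFF.Lines.C_le_normalizer_W

theorem line_le_U {P₁ : Subgroup G} (h2 : P₁ ≤ H) {k : G} (hk : k ∈ H) :
    MulAut.conj k • zl (S : Subgroup G) P₁ ≤ zl (S : Subgroup G) H := by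
  have h3 : zl (S : Subgroup G) P₁ ≤ zl (S : Subgroup G) H :=
    zl_le (zc_le_zl _ _) (h2.trans (le_normalizer_zl _ _))
  have h4 := (conj_le_iff (g := k)).2 h3
  rwa [conj_eq_of_mem (le_normalizer_zl _ _ hk)] at h4

theorem Wl_le_U : Wl (S : Subgroup G) H e ≤ zl (S : Subgroup G) H :=
  Wl_le fun _ _ h2 _ hk => D.line_le_U h2 (mem_inf.mp hk).1

/-- `U` normalises `V^k`, `k ∈ K` -/
theorem U_norm {k : G} (hk : k ∈ H ⊓ centralizer ({e} : Set G)) :
    zl (S : Subgroup G) H ≤ normalizer ((MulAut.conj k • zl (S : Subgroup G) P : Subgroup G) : Set G) := by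
  have h1 : zl (S : Subgroup G) H ≤ normalizer (zl (S : Subgroup G) P : Set G) :=
    D.US.trans (D.SP.trans (le_normalizer_zl _ _))
  have h2 := conj_le_normalizer (g := k) h1
  rwa [conj_eq_of_mem (le_normalizer_zl _ _ (mem_inf.mp hk).1)] at h2

/-- **no mutual pair**, in the form used here -/
theorem noff' {P₁ P₂ : Subgroup G} (h₁ : IsParS (S : Subgroup G) P₁) (h₂ : IsParS (S : Subgroup G) P₂) {g h : G}
    (m₁ : MulAut.conj g • zl (S : Subgroup G) P₁ ≤
      normalizer ((MulAut.conj h • zl (S : Subgroup G) P₂ : Subgroup G) : Set G))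
    (m₂ : MulAut.conj h • zl (S : Subgroup G) P₂ ≤
      normalizer ((MulAut.conj g • zl (S : Subgroup G) P₁ : Subgroup G) : Set G)) :
    MulAut.conj g • zl (S : Subgroup G) P₁ ≤
      centralizer ((MulAut.conj h • zl (S : Subgroup G) P₂ : Subgroup G) : Set G) := by
  by_contra hcon
  refine D.data.noff ⟨P₁, P₂, g⁻¹ * h, h₁, h₂, ?_, ?_, ?_⟩
  · have h1 := conj_le_normalizer (g := g⁻¹) m₁
    rwa [conj_conj, conj_conj, inv_mul_cancel, map_one, one_smul] at h1
  · have h1 := conj_le_normalizer (g := g⁻¹) m₂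
    rwa [conj_conj, conj_conj, inv_mul_cancel, map_one, one_smul] at h1
  · intro h0
    rw [commutator_eq_bot_iff_le_centralizer] at h0
    have h1 := conj_le_centralizer (g := g) h0
    rw [conj_conj, mul_inv_cancel_left] at h1
    exact hcon h1

/-- **(0)(e)** `[V^k, W] = 1` for `k ∈ K` -/
theorem Wl_cent {k : G} (hk : k ∈ H ⊓ centralizer ({e} : Set G)) :
    Wl (S : Subgroup G) H e ≤ centralizer ((MulAut.conj k • zl (S : Subgroup G) P : Subgroup G) : Set G) := by
  refine Wl_le fun P₁ h1 h2 k₁ hk₁ => ?_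
  refine D.noff' h1 D.par ?_ ?_
  · exact (D.line_le_U h2 (mem_inf.mp hk₁).1).trans (D.U_norm hk)
  · -- `V^k ≤ O₂(K) ≤ S^k₁`
    have h3 : o2 (H ⊓ centralizer ({e} : Set G)) ≤ normalizer (zl (S : Subgroup G) P₁ : Set G) :=
      (D.isLong_K.loc.o2_le S).trans (h1.le.trans (le_normalizer_zl _ _))
    have h4 := conj_le_normalizer (g := k₁) h3
    rw [conj_eq_of_mem (le_normalizer_o2 _ hk₁)] at h4
    exact (D.conjV_le_o2 hk).trans h4

theorem Wl_cent_V : Wl (S : Subgroup G) H e ≤ centralizer (zl (S : Subgroup G) P : Set G) := by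
  have h := D.Wl_cent (one_mem _)
  rwa [map_one, one_smul] at h

/-- **(2), (6)**: `W` contains a point `≠ e`. -/
theorem exists_ne : ∃ p ∈ PPt H e, p ∈ Wl (S : Subgroup G) H e ∧ p ≠ e := by
  by_contra hcon
  push Not at hcon
  apply D.K_ne
  rw [inf_eq_left]
  have h0 : ∀ h ∈ H, h * e * h⁻¹ = e → h ∈ centralizer ({e} : Set G) := by
    intro h _ h1
    rw [mem_centralizer_iff]
    intro y hy
    rw [Set.mem_singleton_iff.mp hy]
    calc e * h = h * e * h⁻¹ * h := by rw [h1]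
      _ = h * e := by group
  refine D.long.loc.le_of_forall S ?_ fun P₁ hP hPH => ?_
  · intro n hn
    refine h0 n (mem_inf.mp hn).1 (hcon _ ⟨n, (mem_inf.mp hn).1, rfl⟩ (D.Z_le_Wl ?_))
    exact conj_mem_of_mem (normalizer_le_normalizer_zc _ (mem_inf.mp hn).2) D.eZ
  · by_cases hs : IsParS (S : Subgroup G) P₁
    · intro p hp
      refine h0 p (hPH hp) (hcon _ ⟨p, hPH hp, rfl⟩ ?_)
      have h3 := line_le_Wl (S := S) (H := H) (e := e) hs hPH (one_mem _)
      rw [map_one, one_smul] at h3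
      exact h3 (conj_mem_of_mem (le_normalizer_zl _ _ hp) (zc_le_zl _ _ D.eZ))
    · exact (par_le_CZ S hP hs).trans (centralizer_le (Set.singleton_subset_iff.2 D.eZ))

end HypA

end Cfsg.Agent.Omega.NOThreeL.RTools
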