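import Cfsg.Agent.Omega.NOThreeL.Basic

/-!
# NO-3L, box R, case (A), `q = 2`, `k = 1` (#17122, helper858): the frame hypotheses

`HypA S P H e a` : `P ∈ P*(S)`, `H` long and minimal with `[V_P, U_H] ≠ 1`, `V_P = {1, e, a, ea} × C_Z(P)` with
`P` transitive on `{e, a, ea}`, `e ∈ Z`.
`SpA` : moreover all `V_P^k`, `k ∈ H ∩ C(e)`, have the same axis `C_{U_H}(V_P)` (the symplectic case, `|Φ_e| = 2`).
-/

set_option autoImplicit false

namespace Cfsg.Agent.Omega.NOThreeL.RTools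

open Subgroup Cfsg Cfsg.Agent.ZN Cfsg.Agent.Omega.MinPar
open Cfsg.Agent.Omega.Node.NO3L Cfsg.Agent.Omega.NOThreeL.Basic
open scoped Pointwise

universe u

variable {G : Type u} [Group G]

/-- The frame hypotheses of `R ∩ (A)`, `q = 2`, one natural factor. -/
structure HypA [Finite G] (S : Sylow 2 G) (P H : Subgroup G) (e a : G) : Prop where
  hc : IsCharacteristicTwoType G
  data : Data (S : Subgroup G)
  par : IsParS (S : Subgroup G) P
  long : IsLong (S : Subgroup G) H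
  ne : ¬ zl (S : Subgroup G) P ≤ centralizer (zl (S : Subgroup G) H : Set G)
  min : ∀ H₁ : Subgroup G, IsLong (S : Subgroup G) H₁ → H₁ ≤ H → H₁ ≠ H →
    zl (S : Subgroup G) P ≤ centralizer (zl (S : Subgroup G) H₁ : Set G)
  eZ : e ∈ zc (S : Subgroup G)
  e1 : e ≠ 1
  aV : a ∈ zl (S : Subgroup G) P
  /-- `V_P = {1, e, a, ea} C_Z(P)` -/
  cov : ∀ v ∈ zl (S : Subgroup G) P, ∃ x, (x = 1 ∨ x = e ∨ x = a ∨ x = e * a) ∧
    ∃ ε ∈ zc (S : Subgroup G) ⊓ centralizer (P : Set G), v = x * ε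
  /-- `P` normalises `{1, e, a, ea}` -/
  inve : ∀ p ∈ P, p * e * p⁻¹ = e ∨ p * e * p⁻¹ = a ∨ p * e * p⁻¹ = e * a
  inva : ∀ p ∈ P, p * a * p⁻¹ = e ∨ p * a * p⁻¹ = a ∨ p * a * p⁻¹ = e * a
  tr : ∃ p ∈ P, p * e * p⁻¹ = a

/-- The symplectic case. -/
structure SpA [Finite G] (S : Sylow 2 G) (P H : Subgroup G) (e a : G) : Prop extends HypA S P H e a where
  axis : ∀ k ∈ H, k * e * k⁻¹ = e →
    MulAut.conj k • (zl (S : Subgroup G) H ⊓ centralizer (zl (S : Subgroup G) P : Set G)) =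
      zl (S : Subgroup G) H ⊓ centralizer (zl (S : Subgroup G) P : Set G)

/-- The points `e^H`. -/
def PPt (H : Subgroup G) (e : G) : Set G := {x | ∃ h ∈ H, x = h * e * h⁻¹}

/-- `U# = ⟨e^H⟩`. -/
def Ush (H : Subgroup G) (e : G) : Subgroup G := closure (PPt H e)

end Cfsg.Agent.Omega.NOThreeL.RTools
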