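import Mathlib

/-!
# NO-3L, box R, case (A) (#17122, helper858), (3): the form of the symplectic case (helper401)

`U` an elementary abelian group normalised by `H`, generated by the points `e^H`; `Y` a subgroup of index 2 of `U`
containing `e`, normalised by `C_H(e)`; `a ∈ H` acts on `U` as the transvection with axis `Y` and centre `e`.

* `Tr.sym` : `p' ∈ Y_p` iff `p ∈ Y_p'`, for two points;
* `Tr.exists_form` : there is an `H`-invariant alternating form `B : G → G → ℤˣ` on `U`, with `Y = e^⊥`;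
* `Tr.conn` : the points of `U` are connected by 'not perpendicular' (if `⟨a^H⟩` is transitive).
-/

set_option autoImplicit false

namespace Cfsg.Agent.Omega.NOThreeL.RTools.SpForm

open Subgroup

universe u

variable {G : Type u} [Group G]

/-- the points -/
def Pt (e : G) (H : Subgroup G) : Set G := {x | ∃ h ∈ H, x = h * e * h⁻¹}

/-- one transvection `a`, centre `e`, axis `Y`, on `U = ⟨e^H⟩` -/
structure Tr (e a : G) (U Y H : Subgroup G) : Prop where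
  sq : ∀ x ∈ U, x * x = 1
  comm : ∀ x ∈ U, ∀ y ∈ U, x * y = y * x
  nU : ∀ h ∈ H, ∀ x ∈ U, h * x * h⁻¹ ∈ U
  YU : Y ≤ U
  eY : e ∈ Y
  nY : ∀ k ∈ H, k * e = e * k → ∀ y ∈ Y, k * y * k⁻¹ ∈ Y
  aH : a ∈ H
  a1 : ∀ y ∈ Y, a * y = y * a
  a2 : ∀ x ∈ U, x ∉ Y → a * x * a⁻¹ = x * e
  idx : ∀ x ∈ U, ∀ y ∈ U, x ∉ Y → y ∉ Y → x * y ∈ Y
  gen : U ≤ closure (Pt e H)
  /-- `Y ≠ U` -/
  ne : ∃ x ∈ U, x ∉ Y

open Classical in
/-- the character of `Y` -/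
noncomputable def chi (Y : Subgroup G) (v : G) : ℤˣ := if v ∈ Y then 1 else -1

theorem chi_of_mem {Y : Subgroup G} {v : G} (h : v ∈ Y) : chi Y v = 1 := if_pos h

theorem chi_of_not {Y : Subgroup G} {v : G} (h : v ∉ Y) : chi Y v = -1 := if_neg h

theorem neg_ne : (-1 : ℤˣ) ≠ 1 := by decide

theorem chi_eq_one {Y : Subgroup G} {v : G} : chi Y v = 1 ↔ v ∈ Y := by
  refine ⟨fun h => ?_, chi_of_mem⟩
  by_contra h1
  rw [chi_of_not h1] at h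
  exact neg_ne h

theorem unit_mul_self (x : ℤˣ) : x * x = 1 := by
  rcases Int.units_eq_one_or x with h | h <;> rw [h] <;> decide

namespace Tr

variable {e a : G} {U Y H : Subgroup G} (t : Tr e a U Y H)
include t

theorem eU : e ∈ U := t.YU t.eY

theorem invU {x : G} (hx : x ∈ U) : x⁻¹ = x := inv_eq_of_mul_eq_one_left (t.sq x hx)

theorem ptU {h : G} (hh : h ∈ H) : h * e * h⁻¹ ∈ U := t.nU h hh e t.eU

theorem nU' {h : G} (hh : h ∈ H) {x : G} (hx : x ∈ U) : h⁻¹ * x * h ∈ U := by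
  have := t.nU h⁻¹ (H.inv_mem hh) x hx
  rwa [inv_inv] at this

theorem nU_iff {h : G} (hh : h ∈ H) {x : G} : h * x * h⁻¹ ∈ U ↔ x ∈ U := by
  refine ⟨fun h1 => ?_, t.nU h hh x⟩
  have h2 := t.nU' hh h1
  have e1 : h⁻¹ * (h * x * h⁻¹) * h = x := by group
  rwa [e1] at h2

/-- index 2 -/
theorem mul_mem_iff {x y : G} (hx : x ∈ U) (hy : y ∈ U) : x * y ∈ Y ↔ (x ∈ Y ↔ y ∈ Y) := by
  constructor
  · intro h
    constructor
    · intro h1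
      have := Y.mul_mem (Y.inv_mem h1) h
      rwa [inv_mul_cancel_left] at this
    · intro h1
      have := Y.mul_mem h (Y.inv_mem h1)
      rwa [mul_inv_cancel_right] at this
  · intro h
    by_cases h1 : x ∈ Y
    · exact Y.mul_mem h1 (h.mp h1)
    · exact t.idx x hx y hy h1 fun h2 => h1 (h.mpr h2)

theorem chi_mul {x y : G} (hx : x ∈ U) (hy : y ∈ U) : chi Y (x * y) = chi Y x * chi Y y := by
  have h := t.mul_mem_iff hx hy
  by_cases h1 : x ∈ Y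
  · by_cases h2 : y ∈ Y
    · rw [chi_of_mem h1, chi_of_mem h2, chi_of_mem (h.mpr (iff_of_true h1 h2)), one_mul]
    · rw [chi_of_mem h1, chi_of_not h2, chi_of_not (fun h3 => h2 ((h.mp h3).mp h1)), one_mul]
  · by_cases h2 : y ∈ Y
    · rw [chi_of_not h1, chi_of_mem h2, chi_of_not (fun h3 => h1 ((h.mp h3).mpr h2)), mul_one]
    · rw [chi_of_not h1, chi_of_not h2, chi_of_mem (h.mpr (iff_of_false h1 h2))]
      decide

/-- `a x a⁻¹` -/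
theorem a_conj {x : G} (hx : x ∈ U) : (x ∈ Y ∧ a * x * a⁻¹ = x) ∨ (x ∉ Y ∧ a * x * a⁻¹ = x * e) := by
  by_cases h : x ∈ Y
  · left; exact ⟨h, by rw [t.a1 x h, mul_inv_cancel_right]⟩
  · right; exact ⟨h, t.a2 x hx h⟩

/-- `C_H(e)` normalises `Y` -/
theorem nY_iff {k : G} (hk : k ∈ H) (hke : k * e = e * k) {y : G} : k * y * k⁻¹ ∈ Y ↔ y ∈ Y := by
  refine ⟨fun h1 => ?_, t.nY k hk hke y⟩
  have hke' : k⁻¹ * e = e * k⁻¹ := by
    rw [inv_mul_eq_iff_eq_mul, ← mul_assoc, hke, mul_inv_cancel_right]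
  have h2 := t.nY k⁻¹ (H.inv_mem hk) hke' _ h1
  have e1 : k⁻¹ * (k * y * k⁻¹) * k⁻¹⁻¹ = y := by group
  rwa [e1] at h2

/-- `Y_p` depends on the point only -/
theorem dep {h k : G} (hh : h ∈ H) (hk : k ∈ H) (e1 : h * e * h⁻¹ = k * e * k⁻¹) {x : G} :
    h⁻¹ * x * h ∈ Y ↔ k⁻¹ * x * k ∈ Y := by
  have h2 : (k⁻¹ * h) * e = e * (k⁻¹ * h) := by
    have h3 : (k⁻¹ * h) * e * (k⁻¹ * h)⁻¹ = e := by
      calc (k⁻¹ * h) * e * (k⁻¹ * h)⁻¹ = k⁻¹ * (h * e * h⁻¹) * k := by group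
        _ = e := by rw [e1]; group
    exact mul_inv_eq_iff_eq_mul.1 h3
  have h4 := t.nY_iff (H.mul_mem (H.inv_mem hk) hh) h2 (y := h⁻¹ * x * h)
  have e3 : (k⁻¹ * h) * (h⁻¹ * x * h) * (k⁻¹ * h)⁻¹ = k⁻¹ * x * k := by group
  rw [e3] at h4
  exact h4.symm

/-- **(3)**: perpendicularity of points is symmetric (one direction): `h e h⁻¹ ∈ Y ⇒ e ∈ h Y h⁻¹` -/
theorem sym_aux {h : G} (hh : h ∈ H) (h1 : h * e * h⁻¹ ∈ Y) : h⁻¹ * e * h ∈ Y := by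
  by_contra h2
  -- `a` fixes `p' = h e h⁻¹`
  have ha : (h⁻¹ * a * h) * e = e * (h⁻¹ * a * h) := by
    have h3 := t.a1 _ h1
    calc (h⁻¹ * a * h) * e = h⁻¹ * (a * (h * e * h⁻¹)) * h := by group
      _ = h⁻¹ * ((h * e * h⁻¹) * a) * h := by rw [h3]
      _ = e * (h⁻¹ * a * h) := by group
  have haH : h⁻¹ * a * h ∈ H := H.mul_mem (H.mul_mem (H.inv_mem hh) t.aH) hh
  -- the hyperplane of `p'` is contained in `Y`
  have h4 : ∀ x ∈ U, h⁻¹ * x * h ∈ Y → x ∈ Y := by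
    intro x hx h5
    by_contra h6
    have h7 := t.nY _ haH ha _ h5
    have e1 : (h⁻¹ * a * h) * (h⁻¹ * x * h) * (h⁻¹ * a * h)⁻¹ = h⁻¹ * (a * x * a⁻¹) * h := by group
    rw [e1, t.a2 x hx h6] at h7
    have e2 : h⁻¹ * (x * e) * h = (h⁻¹ * x * h) * (h⁻¹ * e * h) := by group
    rw [e2, t.mul_mem_iff (t.nU' hh hx) (t.nU' hh t.eU)] at h7
    exact h2 (h7.mp h5)
  -- so they are equal
  obtain ⟨v, hv, hvY⟩ := t.ne
  have h5 : h⁻¹ * (e * v) * h ∈ Y := by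
    have e2 : h⁻¹ * (e * v) * h = (h⁻¹ * e * h) * (h⁻¹ * v * h) := by group
    rw [e2, t.mul_mem_iff (t.nU' hh t.eU) (t.nU' hh hv)]
    exact iff_of_false h2 fun h6 => hvY (h4 v hv h6)
  have h6 := h4 _ (U.mul_mem t.eU hv) h5
  exact hvY (((t.mul_mem_iff t.eU hv).mp h6).mp t.eY)

theorem sym {h : G} (hh : h ∈ H) : h * e * h⁻¹ ∈ Y ↔ h⁻¹ * e * h ∈ Y := by
  refine ⟨t.sym_aux hh, fun h1 => ?_⟩
  have h2 := t.sym_aux (H.inv_mem hh) (by rwa [inv_inv])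
  rwa [inv_inv] at h2

/-- symmetry for two points `h e h⁻¹`, `k e k⁻¹` -/
theorem sym2 {h k : G} (hh : h ∈ H) (hk : k ∈ H) :
    chi Y (h⁻¹ * (k * e * k⁻¹) * h) = chi Y (k⁻¹ * (h * e * h⁻¹) * k) := by
  have h1 := t.sym (H.mul_mem (H.inv_mem hh) hk)
  have e1 : (h⁻¹ * k) * e * (h⁻¹ * k)⁻¹ = h⁻¹ * (k * e * k⁻¹) * h := by group
  have e2 : (h⁻¹ * k)⁻¹ * e * (h⁻¹ * k) = k⁻¹ * (h * e * h⁻¹) * k := by group
  rw [e1, e2] at h1
  by_cases h2 : h⁻¹ * (k * e * k⁻¹) * h ∈ Y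
  · rw [chi_of_mem h2, chi_of_mem (h1.mp h2)]
  · rw [chi_of_not h2, chi_of_not (fun h3 => h2 (h1.mpr h3))]

theorem ext_hom {f g : G → ℤˣ} (hf : ∀ u ∈ U, ∀ v ∈ U, f (u * v) = f u * f v)
    (hg : ∀ u ∈ U, ∀ v ∈ U, g (u * v) = g u * g v) (h : ∀ k ∈ H, f (k * e * k⁻¹) = g (k * e * k⁻¹)) :
    ∀ u ∈ U, f u = g u := by
  have h1 : ∀ u ∈ closure (Pt e H), u ∈ U ∧ f u = g u := by
    intro u hu
    refine closure_induction (p := fun u _ => u ∈ U ∧ f u = g u) ?_ ?_ ?_ ?_ hu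
    · rintro x ⟨k, hk, rfl⟩
      exact ⟨t.ptU hk, h k hk⟩
    · refine ⟨U.one_mem, ?_⟩
      have h2 := hf 1 U.one_mem 1 U.one_mem
      have h3 := hg 1 U.one_mem 1 U.one_mem
      rw [mul_one, unit_mul_self] at h2 h3
      rw [h2, h3]
    · rintro x y _ _ ⟨hx, hx'⟩ ⟨hy, hy'⟩
      exact ⟨U.mul_mem hx hy, by rw [hf x hx y hy, hg x hx y hy, hx', hy']⟩
    · rintro x _ ⟨hx, hx'⟩
      rw [t.invU hx]
      exact ⟨hx, hx'⟩
  exact fun u hu => (h1 u (t.gen hu)).2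

/-- **the `H`-invariant alternating form on `U`, `Y = e^⊥`** -/
theorem exists_form : ∃ B : G → G → ℤˣ,
    (∀ u ∈ U, ∀ v ∈ U, ∀ v' ∈ U, B u (v * v') = B u v * B u v') ∧
    (∀ u ∈ U, ∀ v ∈ U, B u v = B v u) ∧
    (∀ u ∈ U, B u u = 1) ∧
    (∀ h ∈ H, ∀ u ∈ U, ∀ v ∈ U, B (h * u * h⁻¹) (h * v * h⁻¹) = B u v) ∧
    (∀ v ∈ U, B e v = chi Y v) := by
  have hmul : ∀ l ∈ H, ∀ u ∈ U, ∀ v ∈ U, chi Y (l⁻¹ * (u * v) * l) = chi Y (l⁻¹ * u * l) * chi Y (l⁻¹ * v * l) := by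
    intro l hl u hu v hv
    rw [← t.chi_mul (t.nU' hl hu) (t.nU' hl hv)]
    congr 1
    group
  have hex : ∀ u, u ∈ U → ∃ φ : G → ℤˣ, (∀ v ∈ U, ∀ v' ∈ U, φ (v * v') = φ v * φ v') ∧
      ∀ k ∈ H, φ (k * e * k⁻¹) = chi Y (k⁻¹ * u * k) := by
    intro u hu
    have h1 : u ∈ U ∧ ∃ φ : G → ℤˣ, (∀ v ∈ U, ∀ v' ∈ U, φ (v * v') = φ v * φ v') ∧
      ∀ k ∈ H, φ (k * e * k⁻¹) = chi Y (k⁻¹ * u * k) := by
      refine closure_induction (p := fun u _ => u ∈ U ∧ ∃ φ : G → ℤˣ,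
        (∀ v ∈ U, ∀ v' ∈ U, φ (v * v') = φ v * φ v') ∧
        ∀ k ∈ H, φ (k * e * k⁻¹) = chi Y (k⁻¹ * u * k)) ?_ ?_ ?_ ?_ (t.gen hu)
      · rintro x ⟨l, hl, rfl⟩
        exact ⟨t.ptU hl, fun v => chi Y (l⁻¹ * v * l), hmul l hl, fun k hk => (t.sym2 hl hk)⟩
      · refine ⟨U.one_mem, fun _ => 1, fun _ _ _ _ => (one_mul _).symm, fun k _ => ?_⟩
        rw [mul_one, inv_mul_cancel]
        exact (chi_eq_one.2 Y.one_mem).symm
      · rintro x y _ _ ⟨hx, φ, h1, h2⟩ ⟨hy, ψ, h3, h4⟩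
        refine ⟨U.mul_mem hx hy, fun v => φ v * ψ v, fun v hv v' hv' => ?_, fun k hk => ?_⟩
        · simp only [h1 v hv v' hv', h3 v hv v' hv']
          exact mul_mul_mul_comm _ _ _ _
        · show φ (k * e * k⁻¹) * ψ (k * e * k⁻¹) = _
          rw [h2 k hk, h4 k hk, hmul k hk x hx y hy]
      · rintro x _ ⟨hx, h⟩
        rw [t.invU hx]
        exact ⟨hx, h⟩
    exact h1.2
  choose! B hB1 hB2 using hex
  have hpt : ∀ k ∈ H, ∀ v ∈ U, B (k * e * k⁻¹) v = chi Y (k⁻¹ * v * k) := by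
    intro k hk
    refine t.ext_hom (hB1 _ (t.ptU hk)) (hmul k hk) fun l hl => ?_
    rw [hB2 _ (t.ptU hk) l hl]
    exact t.sym2 hl hk
  have hadd : ∀ u ∈ U, ∀ u' ∈ U, ∀ v ∈ U, B (u * u') v = B u v * B u' v := by
    intro u hu u' hu'
    refine t.ext_hom (hB1 _ (U.mul_mem hu hu')) ?_ fun l hl => ?_
    · intro v hv v' hv'
      rw [hB1 u hu v hv v' hv', hB1 u' hu' v hv v' hv']
      exact mul_mul_mul_comm _ _ _ _
    · rw [hB2 _ (U.mul_mem hu hu') l hl, hB2 _ hu l hl, hB2 _ hu' l hl]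
      exact hmul l hl u hu u' hu'
  have hsym : ∀ u ∈ U, ∀ v ∈ U, B u v = B v u := by
    intro u hu
    refine t.ext_hom (hB1 u hu) (fun v hv v' hv' => hadd v hv v' hv' u hu) fun k hk => ?_
    rw [hB2 u hu k hk, hpt k hk u hu]
  have he : ∀ v ∈ U, B e v = chi Y v := by
    intro v hv
    have := hpt 1 H.one_mem v hv
    simpa using this
  refine ⟨B, hB1, hsym, ?_, ?_, he⟩
  · refine t.ext_hom ?_ (fun _ _ _ _ => (one_mul 1).symm) fun k hk => ?_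
    · intro u hu v hv
      rw [hadd u hu v hv _ (U.mul_mem hu hv), hB1 u hu u hu v hv, hB1 v hv u hu v hv, hsym v hv u hu]
      calc B u u * B u v * (B u v * B v v) = B u u * (B u v * B u v) * B v v := by group
        _ = B u u * B v v := by rw [unit_mul_self, mul_one]
    · rw [hpt k hk _ (t.ptU hk)]
      have e1 : k⁻¹ * (k * e * k⁻¹) * k = e := by group
      rw [e1, chi_of_mem t.eY]
  · intro h hh u hu
    refine t.ext_hom ?_ (hB1 u hu) fun k hk => ?_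
    · intro v hv v' hv'
      have h1 : h * (v * v') * h⁻¹ = (h * v * h⁻¹) * (h * v' * h⁻¹) := by group
      rw [h1]
      exact hB1 _ (t.nU h hh u hu) _ (t.nU h hh v hv) _ (t.nU h hh v' hv')
    · have h1 : h * (k * e * k⁻¹) * h⁻¹ = (h * k) * e * (h * k)⁻¹ := by group
      rw [h1, hB2 _ (t.nU h hh u hu) _ (H.mul_mem hh hk), hB2 u hu k hk]
      congr 1
      group

omit t in
theorem pt_self : e ∈ Pt e H := ⟨1, H.one_mem, by group⟩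

theorem pt_le {x : G} (hx : x ∈ Pt e H) : x ∈ U := by
  obtain ⟨h, hh, rfl⟩ := hx
  exact t.ptU hh

omit t in
theorem pt_conj {x h : G} (hx : x ∈ Pt e H) (hh : h ∈ H) : h * x * h⁻¹ ∈ Pt e H := by
  obtain ⟨k, hk, rfl⟩ := hx
  exact ⟨h * k, H.mul_mem hh hk, by group⟩

section form

variable {B : G → G → ℤˣ}

/-- the transvection at the point `h e h⁻¹` is induced by `h a h⁻¹` -/
theorem tr_act (hi : ∀ h ∈ H, ∀ u ∈ U, ∀ v ∈ U, B (h * u * h⁻¹) (h * v * h⁻¹) = B u v)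
    (he : ∀ v ∈ U, B e v = chi Y v) {h : G} (hh : h ∈ H) {x : G} (hx : x ∈ U) :
    (B (h * e * h⁻¹) x = 1 ∧ (h * a * h⁻¹) * x * (h * a * h⁻¹)⁻¹ = x) ∨
    (B (h * e * h⁻¹) x = -1 ∧ (h * a * h⁻¹) * x * (h * a * h⁻¹)⁻¹ = x * (h * e * h⁻¹)) := by
  have h1 : B (h * e * h⁻¹) x = chi Y (h⁻¹ * x * h) := by
    rw [← he _ (t.nU' hh hx), ← hi h hh e t.eU _ (t.nU' hh hx)]
    congr 1
    group
  have e1 : (h * a * h⁻¹) * x * (h * a * h⁻¹)⁻¹ = h * (a * (h⁻¹ * x * h) * a⁻¹) * h⁻¹ := by group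
  rcases t.a_conj (t.nU' hh hx) with ⟨h2, h3⟩ | ⟨h2, h3⟩
  · left
    rw [h1, chi_of_mem h2, e1, h3]
    exact ⟨rfl, by group⟩
  · right
    rw [h1, chi_of_not h2, e1, h3]
    exact ⟨rfl, by group⟩

/-- `p p'` is a point if `p`, `p'` are not perpendicular -/
theorem pt_mul (hi : ∀ h ∈ H, ∀ u ∈ U, ∀ v ∈ U, B (h * u * h⁻¹) (h * v * h⁻¹) = B u v)
    (he : ∀ v ∈ U, B e v = chi Y v) {p q : G} (hp : p ∈ Pt e H) (hq : q ∈ Pt e H) (h : B p q = -1) :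
    p * q ∈ Pt e H := by
  obtain ⟨k, hk, rfl⟩ := hp
  rcases t.tr_act hi he hk (t.pt_le hq) with ⟨h1, -⟩ | ⟨-, h1⟩
  · rw [h1] at h; exact absurd h.symm neg_ne
  · rw [t.comm _ (t.ptU hk) _ (t.pt_le hq), ← h1]
    exact pt_conj hq (H.mul_mem (H.mul_mem hk t.aH) (H.inv_mem hk))

/-- **the points are connected by 'not perpendicular'** -/
theorem conn (hs : ∀ u ∈ U, ∀ v ∈ U, B u v = B v u)
    (hm : ∀ u ∈ U, ∀ v ∈ U, ∀ v' ∈ U, B u (v * v') = B u v * B u v') (h0 : ∀ u ∈ U, B u u = 1)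
    (hi : ∀ h ∈ H, ∀ u ∈ U, ∀ v ∈ U, B (h * u * h⁻¹) (h * v * h⁻¹) = B u v)
    (he : ∀ v ∈ U, B e v = chi Y v)
    (htr : ∀ p ∈ Pt e H, ∃ n ∈ closure {x | ∃ h ∈ H, x = h * a * h⁻¹}, p = n * e * n⁻¹)
    {A : Set G} (hA : A ⊆ Pt e H) (hne : A.Nonempty) (hcl : ∀ p ∈ A, ∀ q ∈ Pt e H, B p q = -1 → q ∈ A) :
    A = Pt e H := by
  -- `A` is invariant under the transvections
  have h1 : ∀ h ∈ H, ∀ p ∈ A, (h * a * h⁻¹) * p * (h * a * h⁻¹)⁻¹ ∈ A := by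
    intro h hh p hp
    have hpP := hA hp
    rcases t.tr_act hi he hh (t.pt_le hpP) with ⟨-, h2⟩ | ⟨h2, h3⟩
    · rw [h2]; exact hp
    · have h4 : h * e * h⁻¹ ∈ A := hcl p hp _ ⟨h, hh, rfl⟩ (by
        rw [hs _ (t.pt_le hpP) _ (t.ptU hh)]; exact h2)
      have h5 : p * (h * e * h⁻¹) ∈ Pt e H :=
        t.pt_mul hi he hpP ⟨h, hh, rfl⟩ (by rw [hs _ (t.pt_le hpP) _ (t.ptU hh)]; exact h2)
      rw [h3]
      refine hcl _ h4 _ h5 ?_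
      rw [hm _ (t.ptU hh) _ (t.pt_le hpP) _ (t.ptU hh), h2, h0 _ (t.ptU hh), mul_one]
  -- and by inverses
  have haH : ∀ h ∈ H, h * a * h⁻¹ ∈ H := fun h hh => H.mul_mem (H.mul_mem hh t.aH) (H.inv_mem hh)
  have h1' : ∀ h ∈ H, ∀ p ∈ A, (h * a * h⁻¹)⁻¹ * p * (h * a * h⁻¹) ∈ A := by
    intro h hh p hp
    have hpP := hA hp
    have h2 : (h * a * h⁻¹) * ((h * a * h⁻¹) * p * (h * a * h⁻¹)⁻¹) * (h * a * h⁻¹)⁻¹ = p := by
      rcases t.tr_act hi he hh (t.pt_le hpP) with ⟨-, h2⟩ | ⟨h2, h3⟩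
      · rw [h2, h2]
      · have h4 : B (h * e * h⁻¹) (p * (h * e * h⁻¹)) = -1 := by
          rw [hm _ (t.ptU hh) _ (t.pt_le hpP) _ (t.ptU hh), h2, h0 _ (t.ptU hh), mul_one]
        rw [h3]
        rcases t.tr_act hi he hh (U.mul_mem (t.pt_le hpP) (t.ptU hh)) with ⟨h5, -⟩ | ⟨-, h5⟩
        · rw [h5] at h4; exact absurd h4.symm neg_ne
        · rw [h5, mul_assoc, t.sq _ (t.ptU hh), mul_one]
    have h3 : (h * a * h⁻¹)⁻¹ * p * (h * a * h⁻¹) = (h * a * h⁻¹) * p * (h * a * h⁻¹)⁻¹ := by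
      conv_lhs => rw [← h2]
      group
    rw [h3]
    exact h1 h hh p hp
  have h2 : ∀ n ∈ closure {x | ∃ h ∈ H, x = h * a * h⁻¹}, ∀ p ∈ A, n * p * n⁻¹ ∈ A ∧ n⁻¹ * p * n ∈ A := by
    intro n hn
    refine closure_induction (p := fun n _ => ∀ p ∈ A, n * p * n⁻¹ ∈ A ∧ n⁻¹ * p * n ∈ A) ?_ ?_ ?_ ?_ hn
    · rintro x ⟨h, hh, rfl⟩ p hp
      exact ⟨h1 h hh p hp, h1' h hh p hp⟩
    · intro p hp
      simpa using hp
    · intro x y _ _ hx hy p hp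
      constructor
      · have e1 : x * y * p * (x * y)⁻¹ = x * (y * p * y⁻¹) * x⁻¹ := by group
        rw [e1]; exact (hx _ (hy p hp).1).1
      · have e1 : (x * y)⁻¹ * p * (x * y) = y⁻¹ * (x⁻¹ * p * x) * y := by group
        rw [e1]; exact (hy _ (hx p hp).2).2
    · intro x _ hx p hp
      rw [inv_inv]
      exact ⟨(hx p hp).2, (hx p hp).1⟩
  apply Set.Subset.antisymm hA
  intro q hq
  obtain ⟨p, hp⟩ := hne
  obtain ⟨n, hn, rfl⟩ := htr p (hA hp)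
  obtain ⟨m, hm', rfl⟩ := htr q hq
  have h3 := (h2 n hn _ hp).2
  have e1 : n⁻¹ * (n * e * n⁻¹) * n = e := by group
  rw [e1] at h3
  exact (h2 m hm' _ h3).1

end form

end Tr

end Cfsg.Agent.Omega.NOThreeL.RTools.SpForm
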