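import Cfsg.Agent.Omega.NOThreeL.IndepTwo

/-!
# NO-3L, box R, case (A), `q = 2`: the case SL (helper858, #17122 (2))

`X` (`= N = ⟨V'^H⟩`) acts on the finite `F_2`-space `M` (`= U#`), `I` is the set of fixed points, `e ∈ M`.
Results: `Dat.stab`, `Dat.trans`, `Dat.final`.
-/

set_option autoImplicit false

namespace Cfsg.Agent.Omega.NOThreeL.SLCase

open Cfsg.Agent.Omega.NOThreeL.ThmL Cfsg.Agent.Omega.NOThreeL.IndepTwo

attribute [local instance] dAct

variable {X M : Type*} [Group X] [AddCommGroup M] [Module (ZMod 2) M] [DistribMulAction X M]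

variable (X M) in
omit [Module (ZMod 2) M] in
/-- The fixed points. -/
def Fx : AddSubgroup M where
  carrier := {m | ∀ x : X, x • m = m}
  zero_mem' x := smul_zero x
  add_mem' ha hb x := by rw [smul_add, ha x, hb x]
  neg_mem' ha x := by rw [smul_neg, ha x]

omit [Module (ZMod 2) M] in
theorem mem_Fx {m : M} : m ∈ Fx X M ↔ ∀ x : X, x • m = m := Iff.rfl

variable (X M) in
/-- The functionals killing the fixed points. -/
def LL : Submodule (ZMod 2) (M →+ ZMod 2) where
  carrier := {φ | ∀ i ∈ Fx X M, φ i = 0}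
  zero_mem' _ _ := rfl
  add_mem' ha hb i hi := by rw [AddMonoidHom.add_apply, ha i hi, hb i hi, add_zero]
  smul_mem' c φ hφ i hi := by
    rcases z2 c with rfl | rfl
    · rw [zero_smul]; rfl
    · rw [one_smul]; exact hφ i hi

instance finLL [Finite M] : Finite ↥(LL X M) :=
  Finite.of_injective (fun g : ↥(LL X M) => ((g : M →+ ZMod 2) : M → ZMod 2))
    (fun _ _ h => Subtype.ext (DFunLike.coe_injective h))

omit [Module (ZMod 2) M] in
theorem act_mem_LL (x : X) {φ : M →+ ZMod 2} (h : φ ∈ LL X M) : act x φ ∈ LL X M := fun i hi => by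
  rw [act_apply, hi x⁻¹]
  exact h i hi

instance instAct : DistribMulAction X ↥(LL X M) where
  smul x φ := ⟨act x (φ : M →+ ZMod 2), act_mem_LL x φ.2⟩
  one_smul φ := by
    apply Subtype.ext
    change act (1 : X) (φ : M →+ ZMod 2) = φ
    ext u; simp
  mul_smul x y φ := by
    apply Subtype.ext
    change act (x * y) (φ : M →+ ZMod 2) = act x (act y φ)
    ext u; simp [mul_smul]
  smul_zero x := by
    apply Subtype.ext
    change act x (0 : M →+ ZMod 2) = 0
    ext u; simp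
  smul_add x φ ψ := by
    apply Subtype.ext
    change act x ((φ : M →+ ZMod 2) + (ψ : M →+ ZMod 2)) = act x (φ : M →+ ZMod 2) + act x (ψ : M →+ ZMod 2)
    ext u; simp

omit [Module (ZMod 2) M] in
theorem coe_smul' (x : X) (φ : ↥(LL X M)) : ((x • φ : ↥(LL X M)) : M →+ ZMod 2) = act x (φ : M →+ ZMod 2) :=
  rfl

variable (X) in
/-- Evaluation at `m`. -/
def evL (m : M) : ↥(LL X M) →+ ZMod 2 where
  toFun φ := (φ : M →+ ZMod 2) m
  map_zero' := rfl
  map_add' _ _ := rfl

omit [Module (ZMod 2) M] in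
@[simp] theorem evL_apply (m : M) (φ : ↥(LL X M)) : evL X m φ = (φ : M →+ ZMod 2) m := rfl

omit [Module (ZMod 2) M] in
theorem evL_add (a b : M) : evL X (a + b) = evL X a + evL X b := by
  ext φ
  exact map_add (φ : M →+ ZMod 2) a b

omit [Module (ZMod 2) M] in
theorem evL_act (x : X) (m : M) : act x (evL X m) = evL X (x • m) := by
  ext φ
  rw [act_apply, evL_apply, evL_apply, coe_smul', act_apply, inv_inv]

/-- separation -/
theorem exists_LL {m : M} (hm : m ∉ Fx X M) : ∃ φ ∈ LL X M, φ m = 1 := by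
  have hp : m ∉ (AddSubgroup.toZModSubmodule 2 (Fx X M)) := hm
  obtain ⟨φ, hφm, hφp⟩ := Submodule.exists_dual_map_eq_bot_of_notMem hp inferInstance
  refine ⟨φ.toAddMonoidHom, fun i hi => ?_, (z2 _).resolve_left hφm⟩
  have : φ i ∈ (AddSubgroup.toZModSubmodule 2 (Fx X M)).map φ := ⟨i, hi, rfl⟩
  rw [hφp] at this
  exact (Submodule.mem_bot _).mp this

theorem mem_Fx_of {m : M} (h : ∀ φ ∈ LL X M, φ m = 0) : m ∈ Fx X M := by
  by_contra hm
  obtain ⟨φ, hφ, h1⟩ := exists_LL hm
  rw [h φ hφ] at h1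
  exact absurd h1 (by decide)

theorem evL_eq {a b : M} : evL X a = evL X b ↔ a - b ∈ Fx X M := by
  constructor
  · intro h
    refine mem_Fx_of fun φ hφ => ?_
    rw [map_sub, sub_eq_zero]
    exact DFunLike.congr_fun h ⟨φ, hφ⟩
  · intro h
    ext φ
    have := φ.2 _ h
    rw [map_sub, sub_eq_zero] at this
    exact this

/-- `Y` of the dual: transvections of `M / I`. -/
theorem mem_YL {e : M} {f : ↥(LL X M)} :
    f ∈ Y X (evL X e) ↔ (f : M →+ ZMod 2) e = 0 ∧
      ∃ x : X, ∀ u : M, x • u - (u + (f : M →+ ZMod 2) u • e) ∈ Fx X M := by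
  have aux : ∀ (φ : M →+ ZMod 2) (u : M), φ (u + (f : M →+ ZMod 2) u • e) = φ u + φ e * (f : M →+ ZMod 2) u := by
    intro φ u
    rw [map_add]
    rcases z2 ((f : M →+ ZMod 2) u) with h | h <;> simp [h]
  constructor
  · rintro ⟨h0, x, hx⟩
    refine ⟨h0, x⁻¹, fun u => mem_Fx_of fun φ hφ => ?_⟩
    have h1 := congrArg (fun ψ : ↥(LL X M) => (ψ : M →+ ZMod 2) u) (hx ⟨φ, hφ⟩)
    simp only [coe_smul', act_apply, evL_apply, Submodule.coe_add, Submodule.coe_smul,
      AddMonoidHom.add_apply, AddMonoidHom.smul_apply, smul_eq_mul] at h1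
    rw [map_sub, aux, h1, sub_self]
  · rintro ⟨h0, x, hx⟩
    refine ⟨h0, x⁻¹, fun φ => ?_⟩
    apply Subtype.ext
    ext u
    have h1 := φ.2 _ (hx u)
    rw [map_sub, aux, sub_eq_zero] at h1
    rw [coe_smul', act_apply, inv_inv, h1]
    rfl

/-- The data of the case SL. -/
structure Dat (X : Type*) [Group X] {M : Type*} [AddCommGroup M] [Module (ZMod 2) M] [DistribMulAction X M]
    (e : M) : Prop where
  ne : e ≠ 0
  span : AddSubgroup.closure {m : M | ∃ x : X, x • e = m} = ⊤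
  gen : Subgroup.closure {x : X | ∃ (y : X) (f : M →+ ZMod 2), ∀ u : M, x • u = u + f u • (y • e)} = ⊤
  d : ∀ x : X, (∀ u : M, x • u - u ∈ Fx X M) → ∀ u : M, x • u = u
  four : ∃ f1 f2 : M →+ ZMod 2, e ∈ Y X f1 ∧ e ∈ Y X f2 ∧ f1 ≠ 0 ∧ f2 ≠ 0 ∧ f1 ≠ f2
  syl : ∃ T : Sylow 2 X, ∀ t ∈ (T : Subgroup X), t • e = e

namespace Dat

variable {e : M} (D : Dat X e)
include D

theorem mem_LL_of {f : M →+ ZMod 2} (h : e ∈ Y X f) : f ∈ LL X M := by
  obtain ⟨h0, x, hx⟩ := h
  intro i hi
  have h1 := hx i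
  rw [hi x] at h1
  rcases z2 (f i) with h2 | h2
  · exact h2
  · rw [h2, one_smul] at h1
    exact absurd (left_eq_add.mp h1) D.ne

theorem e_not_mem : e ∉ Fx X M := by
  intro h
  have hall : ∀ m : M, m ∈ Fx X M := by
    intro m
    have hm : m ∈ AddSubgroup.closure {m : M | ∃ x : X, x • e = m} := by rw [D.span]; trivial
    refine (AddSubgroup.closure_le _).mpr ?_ hm
    rintro _ ⟨x, rfl⟩
    rw [h x]
    exact h
  obtain ⟨f1, -, ⟨-, x, hx⟩, -, hf1, -⟩ := D.four
  apply hf1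
  ext u
  have h1 := hx u
  rw [hall u x] at h1
  rcases z2 (f1 u) with h2 | h2
  · exact h2
  · rw [h2, one_smul] at h1
    exact absurd (left_eq_add.mp h1) D.ne

theorem orbit_not_mem (x : X) : x • e ∉ Fx X M := fun h => D.e_not_mem (by
  have h1 := h x⁻¹
  rw [inv_smul_smul] at h1
  rwa [h1])

theorem smul_ne (x : X) : x • e ≠ 0 := fun h => D.orbit_not_mem x (h ▸ (Fx X M).zero_mem)

/-- generators: the functional vanishes at the centre and on the fixed points -/
theorem gen_spec {x y : X} {f : M →+ ZMod 2} (h : ∀ u : M, x • u = u + f u • (y • e)) :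
    f ∈ LL X M ∧ f (y • e) = 0 := by
  constructor
  · intro i hi
    have h1 := h i
    rw [hi x] at h1
    rcases z2 (f i) with h2 | h2
    · exact h2
    · rw [h2, one_smul] at h1
      exact absurd (left_eq_add.mp h1) (D.smul_ne y)
  · rcases z2 (f (y • e)) with h2 | h2
    · exact h2
    · have h1 := h (y • e)
      rw [h2, one_smul, add_self] at h1
      have h3 : y • e = 0 := by
        rwa [smul_eq_zero_iff_eq] at h1
      exact absurd h3 (D.smul_ne y)

/-- submodules -/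
theorem sub_or {N : AddSubgroup M} (hN : ∀ (x : X), ∀ n ∈ N, x • n ∈ N) : N ≤ Fx X M ∨ N = ⊤ := by
  by_cases h : N ≤ Fx X M
  · exact Or.inl h
  right
  obtain ⟨m, hm, hmI⟩ := Set.not_subset.mp h
  -- a generator moves `m`
  have h1 : ∃ x ∈ {x : X | ∃ (y : X) (f : M →+ ZMod 2), ∀ u : M, x • u = u + f u • (y • e)}, x • m ≠ m := by
    by_contra hcon
    push Not at hcon
    apply hmI
    have h2 : Subgroup.closure {x : X | ∃ (y : X) (f : M →+ ZMod 2), ∀ u : M, x • u = u + f u • (y • e)} ≤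
        MulAction.stabilizer X m := (Subgroup.closure_le _).mpr fun x hx => hcon x hx
    rw [D.gen] at h2
    intro x
    exact h2 (Subgroup.mem_top x)
  obtain ⟨x, ⟨y, f, hx⟩, hne⟩ := h1
  have h2 : f m = 1 := by
    rcases z2 (f m) with h3 | h3
    · exact absurd (by rw [hx, h3, zero_smul, add_zero]) hne
    · exact h3
  have h3 : y • e ∈ N := by
    have h4 := N.sub_mem (hN x m hm) hm
    rwa [hx, h2, one_smul, add_sub_cancel_left] at h4
  rw [eq_top_iff, ← D.span, AddSubgroup.closure_le]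
  rintro _ ⟨w, rfl⟩
  have h5 := hN (w * y⁻¹) _ h3
  rwa [mul_smul, inv_smul_smul] at h5

theorem irr [Finite M] (N : AddSubgroup ↥(LL X M)) (hN : ∀ (x : X), ∀ n ∈ N, x • n ∈ N) : N = ⊥ ∨ N = ⊤ := by
  classical
  let K : AddSubgroup M :=
    { carrier := {m | ∀ f ∈ N, (f : M →+ ZMod 2) m = 0}
      zero_mem' := fun f _ => map_zero _
      add_mem' := fun {a b} ha hb f hf => by rw [map_add, ha f hf, hb f hf, add_zero]
      neg_mem' := fun {a} ha f hf => by rw [map_neg, ha f hf, neg_zero] }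
  have hK : ∀ (x : X), ∀ n ∈ K, x • n ∈ K := by
    intro x n hn f hf
    have h1 := hn _ (hN x⁻¹ f hf)
    rw [coe_smul', act_apply, inv_inv] at h1
    exact h1
  rcases D.sub_or hK with h | h
  · right
    rw [eq_top_iff]
    intro φ _
    let W : Submodule (ZMod 2) (Module.Dual (ZMod 2) M) :=
      { carrier := {g | ∃ f ∈ N, (f : M →+ ZMod 2) = g.toAddMonoidHom}
        zero_mem' := ⟨0, N.zero_mem, rfl⟩
        add_mem' := by
          rintro a b ⟨f, hf, hfa⟩ ⟨g, hg, hgb⟩
          exact ⟨f + g, N.add_mem hf hg, by rw [Submodule.coe_add, hfa, hgb]; rfl⟩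
        smul_mem' := by
          rintro c g ⟨f, hf, hfg⟩
          rcases z2 c with rfl | rfl
          · exact ⟨0, N.zero_mem, by rw [zero_smul]; rfl⟩
          · exact ⟨f, hf, by rw [one_smul, hfg]⟩ }
    have hW : W.dualCoannihilator.dualAnnihilator = W := Subspace.dualCoannihilator_dualAnnihilator_eq
    have h1 : ((φ : M →+ ZMod 2).toZModLinearMap 2 : Module.Dual (ZMod 2) M) ∈ W := by
      rw [← hW, Submodule.mem_dualAnnihilator]
      intro m hm
      rw [Submodule.mem_dualCoannihilator] at hm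
      have h2 : m ∈ K := fun f hf => hm ((f : M →+ ZMod 2).toZModLinearMap 2) ⟨f, hf, rfl⟩
      exact φ.2 _ (h h2)
    obtain ⟨f, hf, hfφ⟩ := h1
    have h2 : f = φ := Subtype.ext hfφ
    rwa [← h2]
  · left
    rw [eq_bot_iff]
    intro f hf
    rw [AddSubgroup.mem_bot]
    apply Subtype.ext
    ext m
    have : m ∈ K := by rw [h]; trivial
    exact this f hf

theorem evL_ne (x : X) : evL X (x • e) ≠ 0 := by
  intro h
  apply D.orbit_not_mem x
  refine mem_Fx_of fun φ hφ => ?_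
  exact DFunLike.congr_fun h (⟨φ, hφ⟩ : ↥(LL X M))

/-- THEOREM L's data on the dual of `M / I`. -/
theorem data [Finite M] : Data (X := X) {φ : ↥(LL X M) →+ ZMod 2 | ∃ x : X, φ = evL X (x • e)} where
  inv := by
    rintro x φ ⟨y, rfl⟩
    exact ⟨x * y, by rw [evL_act, mul_smul]⟩
  trans := by
    rintro φ ⟨x, rfl⟩ ψ ⟨y, rfl⟩
    exact ⟨y * x⁻¹, by rw [evL_act, mul_smul, inv_smul_smul]⟩
  ne := by
    rintro φ ⟨x, rfl⟩
    exact D.evL_ne x
  nonempty := ⟨_, 1, rfl⟩
  irr := D.irr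
  four := by
    rintro φ ⟨x, rfl⟩
    obtain ⟨f1, f2, h1, h2, h10, h20, h12⟩ := D.four
    have hY : ∀ {f : M →+ ZMod 2} (h : e ∈ Y X f), (⟨f, D.mem_LL_of h⟩ : ↥(LL X M)) ∈ Y X (evL X e) := by
      rintro f ⟨h0, y, hy⟩
      rw [mem_YL]
      refine ⟨h0, y, fun u => ?_⟩
      rw [hy, sub_self]
      exact (Fx X M).zero_mem
    refine ⟨x • ⟨f1, D.mem_LL_of h1⟩, ?_, x • ⟨f2, D.mem_LL_of h2⟩, ?_, ?_, ?_, ?_⟩
    · rw [← evL_act]; exact smul_mem_Y (hY h1) x
    · rw [← evL_act]; exact smul_mem_Y (hY h2) x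
    · rw [smul_ne_zero_iff_ne]
      exact fun h => h10 (congrArg Subtype.val h)
    · rw [smul_ne_zero_iff_ne]
      exact fun h => h20 (congrArg Subtype.val h)
    · exact fun h => h12 (congrArg Subtype.val (MulAction.injective x h))

/-- one component -/
theorem comp [Finite M] (x y : X) :
    Data.Comp X {φ : ↥(LL X M) →+ ZMod 2 | ∃ x : X, φ = evL X (x • e)} (evL X (y • e)) (evL X (x • y • e)) := by
  have E := D.data
  have hmem : x ∈ Subgroup.closure {x : X | ∃ (y : X) (f : M →+ ZMod 2), ∀ u : M, x • u = u + f u • (y • e)} := by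
    rw [D.gen]; trivial
  -- a generator
  have step : ∀ (x w : X), x ∈ {x : X | ∃ (y : X) (f : M →+ ZMod 2), ∀ u : M, x • u = u + f u • (y • e)} →
      Data.Comp X {φ : ↥(LL X M) →+ ZMod 2 | ∃ x : X, φ = evL X (x • e)} (evL X (w • e)) (evL X (x • w • e)) := by
    rintro x w ⟨v, f, hx⟩
    obtain ⟨hf, hfv⟩ := D.gen_spec hx
    rw [hx]
    rcases z2 (f (w • e)) with h1 | h1
    · rw [h1, zero_smul, add_zero]
      exact Data.Comp.refl ⟨w, rfl⟩
    · rw [h1, one_smul, add_comm, evL_add]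
      have h2 : Data.Comp X {φ : ↥(LL X M) →+ ZMod 2 | ∃ x : X, φ = evL X (x • e)} (evL X (w • e))
          (evL X (v • e)) := by
        refine ⟨⟨v, rfl⟩, Or.inr ⟨⟨f, hf⟩, mem_YL.mpr ⟨hfv, x, fun u => ?_⟩, h1⟩⟩
        change x • u - (u + f u • v • e) ∈ Fx X M
        rw [hx, sub_self]
        exact (Fx X M).zero_mem
      refine Data.comp_add E ⟨w, rfl⟩ h2 ?_
      intro h3
      have h4 := DFunLike.congr_fun h3 (⟨f, hf⟩ : ↥(LL X M))
      rw [evL_apply, evL_apply] at h4
      change f (w • e) = f (v • e) at h4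
      rw [h1, hfv] at h4
      exact absurd h4 (by decide)
  induction hmem using Subgroup.closure_induction generalizing y with
  | mem x hx => exact step x y hx
  | one => rw [one_smul]; exact Data.Comp.refl ⟨y, rfl⟩
  | mul a b _ _ ha hb =>
    have h1 := hb y
    have h2 := ha (b * y)
    rw [mul_smul] at h2
    have h3 := E.comp_trans ⟨y, rfl⟩ h1 h2
    rwa [← mul_smul a b] at h3
  | inv a _ ha =>
    have h1 := ha (a⁻¹ * y)
    rw [mul_smul, smul_inv_smul] at h1
    exact E.comp_symm ⟨a⁻¹ * y, by rw [mul_smul]⟩ h1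

theorem CC_bot [Finite M] :
    Data.CC X {φ : ↥(LL X M) →+ ZMod 2 | ∃ x : X, φ = evL X (x • e)} (evL X e) = ⊥ := by
  unfold Data.CC
  rw [eq_bot_iff, AddSubgroup.closure_le]
  rintro m ⟨k, ⟨x, rfl⟩, hk, -⟩
  exfalso
  apply hk
  have := D.comp x 1
  rwa [one_smul] at this

/-- every nonzero vector of `M / I` is in the orbit -/
theorem exists_orbit [Finite M] {m : M} (hm : m ∉ Fx X M) : ∃ x : X, m - x • e ∈ Fx X M := by
  have E := D.data
  have h1 : evL X m ≠ 0 := by
    intro h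
    exact hm (mem_Fx_of fun φ hφ => DFunLike.congr_fun h (⟨φ, hφ⟩ : ↥(LL X M)))
  have h2 := E.comp_of_CC (f := evL X e) ⟨1, by rw [one_smul]⟩ h1 (fun φ hφ => by
    rw [D.CC_bot] at hφ
    rw [AddSubgroup.mem_bot.mp hφ, map_zero])
  obtain ⟨x, hx⟩ := h2.1
  exact ⟨x, evL_eq.mp hx⟩

/-- all transvections of `M / I` are induced -/
theorem exists_tr [Finite M] {m : M} (hm : m ∉ Fx X M) {f : M →+ ZMod 2} (hf : f ∈ LL X M) (h0 : f m = 0) :
    ∃ x : X, ∀ u : M, x • u - (u + f u • m) ∈ Fx X M := by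
  have E := D.data
  obtain ⟨w, hw⟩ := D.exists_orbit hm
  have hmw : evL X m = evL X (w • e) := evL_eq.mpr hw
  have key : ∀ g : ↥(LL X M), (g : M →+ ZMod 2) e = 0 → g ∈ Y X (evL X e) := by
    intro g hg
    refine E.mem_Y_of_MM ⟨1, by rw [one_smul]⟩ ?_ hg
    obtain ⟨a, ha, b, hb, hab⟩ := E.exists_add g (evL X e)
    rw [D.CC_bot] at hb
    rw [hab, AddSubgroup.mem_bot.mp hb, add_zero]
    exact ha
  have h1 := key (w⁻¹ • ⟨f, hf⟩) (by
    rw [coe_smul', act_apply, inv_inv]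
    have h2 := hf _ hw
    rw [map_sub, h0, zero_sub, neg_eq_zero] at h2
    exact h2)
  have h2 := smul_mem_Y h1 w
  rw [smul_inv_smul, evL_act, ← hmw] at h2
  exact (mem_YL.mp h2).2

omit D [Module (ZMod 2) M] in
theorem mem_inv {b : X} {m : M} (h : b • m - m ∈ Fx X M) : b⁻¹ • m - m ∈ Fx X M := by
  have h1 := h b⁻¹
  rw [smul_sub, inv_smul_smul] at h1
  have h2 : b⁻¹ • m - m = -(b • m - m) := by rw [← h1]; abel
  rw [h2]
  exact (Fx X M).neg_mem h

/-- (F2) a 2-element fixing `e + I` fixes `e`. -/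
theorem fix_of_two [Finite X] {b : X} (hb : b • e - e ∈ Fx X M) {n : ℕ} (hn : ∀ u : M, (b ^ (2 ^ n)) • u = u) :
    b • e = e := by
  classical
  obtain ⟨T, hT⟩ := D.syl
  let B : Subgroup X :=
    { carrier := {b | b • e - e ∈ Fx X M}
      one_mem' := by
        change (1 : X) • e - e ∈ Fx X M
        rw [one_smul, sub_self]; exact (Fx X M).zero_mem
      mul_mem' := by
        intro a c ha hc
        change (a * c) • e - e ∈ Fx X M
        have h1 : (a * c) • e - e = (a • e - e) + a • (c • e - e) := by rw [mul_smul, smul_sub]; abel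
        rw [h1, hc a]
        exact (Fx X M).add_mem ha hc
      inv_mem' := fun {a} ha => mem_inv ha }
  have hTB : (T : Subgroup X) ≤ B := fun t ht => by
    change t • e - e ∈ Fx X M
    rw [hT t ht, sub_self]; exact (Fx X M).zero_mem
  -- the 2-part of `b`
  obtain ⟨k, m, hm, hk⟩ := Nat.exists_eq_two_pow_mul_odd (orderOf_pos b).ne'
  set c := b ^ m with hc
  have hcB : c ∈ B := B.pow_mem (show b ∈ B from hb) m
  have hc2 : c ^ (2 ^ k) = 1 := by rw [hc, ← pow_mul, mul_comm m, ← hk, pow_orderOf_eq_one]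
  -- it is conjugate in `B` to an element of `T`
  let T' : Sylow 2 ↥B := T.subtype hTB
  have hP : IsPGroup 2 (Subgroup.zpowers (⟨c, hcB⟩ : ↥B)) := by
    refine IsPGroup.of_card_dvd_pow (n := k) ?_
    rw [Nat.card_zpowers]
    exact orderOf_dvd_of_pow_eq_one (Subtype.ext hc2)
  obtain ⟨Q, hQ⟩ := hP.exists_le_sylow
  obtain ⟨g, hg⟩ := MulAction.exists_smul_eq ↥B T' Q
  have h1 : (⟨c, hcB⟩ : ↥B) ∈ (Q : Subgroup ↥B) := hQ (Subgroup.mem_zpowers _)
  rw [← hg, Sylow.coe_subgroup_smul, Subgroup.mem_pointwise_smul_iff_inv_smul_mem] at h1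
  have h2 : (g : X)⁻¹ * c * (g : X) ∈ (T : Subgroup X) := by
    have h3 : ((MulAut.conj g)⁻¹ • (⟨c, hcB⟩ : ↥B) : ↥B) ∈ (T' : Subgroup ↥B) := h1
    have h4 : (((MulAut.conj g)⁻¹ • (⟨c, hcB⟩ : ↥B) : ↥B) : X) ∈ (T : Subgroup X) := h3
    simpa using h4
  have h3 := hT _ h2
  have h4 : c • (g : X) • e = (g : X) • e := by
    rw [mul_smul, mul_smul, inv_smul_eq_iff] at h3
    exact h3
  have h5 : (g : X) • e - e ∈ Fx X M := g.2
  have h6 : c • e = e := by
    have h7 := h5 c
    rw [smul_sub, h4] at h7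
    exact sub_right_injective h7
  have h7 : MulAction.period b e ∣ m := MulAction.pow_smul_eq_iff_period_dvd.mp h6
  have h8 : MulAction.period b e ∣ 2 ^ n := MulAction.pow_smul_eq_iff_period_dvd.mp (hn e)
  have h9 : MulAction.period b e ∣ 1 := by
    have h10 : Nat.Coprime m (2 ^ n) := Nat.Coprime.pow_right n (Nat.coprime_two_right.mpr hm)
    have h11 := Nat.dvd_gcd h7 h8
    rwa [h10] at h11
  have h10 : (b ^ 1) • e = e := MulAction.pow_smul_eq_iff_period_dvd.mpr h9
  rwa [pow_one] at h10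

omit D in
/-- `j` induces the transvection `u ↦ u + g(u) e` on `M / I`. -/
def Ind (X : Type*) [Group X] {M : Type*} [AddCommGroup M] [Module (ZMod 2) M] [DistribMulAction X M]
    (e : M) (g : M →+ ZMod 2) (j : X) : Prop := ∀ u : M, j • u - (u + g u • e) ∈ Fx X M

/-- (F3) -/
theorem fix_of_ind [Finite X] {g : M →+ ZMod 2} (hg : g ∈ LL X M) (h0 : g e = 0) {j : X} (hj : Ind X e g j) :
    j • e = e := by
  have hje : j • e - e ∈ Fx X M := by
    have := hj e
    rwa [h0, zero_smul, add_zero] at this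
  -- `j² u = u + g(u) r`
  set r := j • e - e with hr
  have e3 : j • e = e + r := by rw [hr]; abel
  have key : ∀ u : M, j • j • u = u + g u • r := by
    intro u
    have hi := hj u
    set i := j • u - (u + g u • e) with hdef
    have e1 : j • u = u + g u • e + i := by rw [hdef]; abel
    rw [e1, smul_add, smul_add, smul_zmod, hi j, e1, e3, smul_add]
    have e4 : u + g u • e + i + (g u • e + g u • r) + i = u + g u • r + (g u • e + g u • e) + (i + i) := by abel
    rw [e4, add_self, add_self, add_zero, add_zero]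
  have h4 : ∀ u : M, (j ^ (2 ^ 2)) • u = u := by
    intro u
    have h5 : (j ^ (2 ^ 2)) • u = j • j • j • j • u := by
      rw [show 2 ^ 2 = 4 from rfl, pow_succ, pow_succ, pow_succ, pow_one, mul_smul, mul_smul, mul_smul]
    rw [h5, key u, key (u + g u • r), map_add]
    have h6 : g (g u • r) = 0 := by
      rcases z2 (g u) with h | h
      · rw [h, zero_smul, map_zero]
      · rw [h, one_smul]; exact hg r hje
    rw [h6, add_zero, add_assoc, add_self, add_zero]
  exact D.fix_of_two hje h4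

/-- `j` is unique -/
theorem ind_unique {g : M →+ ZMod 2} {j j' : X} (hj : Ind X e g j) (hj' : Ind X e g j') (u : M) :
    j • u = j' • u := by
  have h1 : ∀ u : M, (j'⁻¹ * j) • u - u ∈ Fx X M := by
    intro u
    have h2 : (j'⁻¹ * j) • u - u = j'⁻¹ • ((j • u - (u + g u • e)) - (j' • u - (u + g u • e))) := by
      rw [sub_sub_sub_cancel_right, mul_smul, smul_sub, inv_smul_smul]
    have h3 := (Fx X M).sub_mem (hj u) (hj' u)
    rw [h2, h3]
    exact h3
  have h2 := D.d _ h1 u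
  rwa [mul_smul, inv_smul_eq_iff] at h2

/-- the predicate `P(g, r)`: `u ↦ u + g(u) (e + r)` is induced -/
def PP (X : Type*) [Group X] {M : Type*} [AddCommGroup M] [Module (ZMod 2) M] [DistribMulAction X M]
    (e : M) (g : M →+ ZMod 2) (r : M) : Prop := r ∈ Fx X M ∧ ∃ j : X, ∀ u : M, j • u = u + g u • (e + r)

omit D in
theorem ind_of {g : M →+ ZMod 2} {r : M} (hr : r ∈ Fx X M) {j : X} (hj : ∀ u : M, j • u = u + g u • (e + r)) :
    Ind X e g j := by
  intro u
  rw [hj, smul_add]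
  have h1 : u + (g u • e + g u • r) - (u + g u • e) = g u • r := by abel
  rw [h1]
  rcases z2 (g u) with h | h
  · rw [h, zero_smul]; exact (Fx X M).zero_mem
  · rw [h, one_smul]; exact hr

theorem r_unique {g : M →+ ZMod 2} (hg0 : g ≠ 0) {r r' : M} (h : PP X e g r) (h' : PP X e g r') : r = r' := by
  obtain ⟨hr, j, hj⟩ := h
  obtain ⟨hr', j', hj'⟩ := h'
  obtain ⟨u, hu⟩ : ∃ u, g u = 1 := by
    by_contra hcon
    push Not at hcon
    exact hg0 (by ext u; exact (z2 _).resolve_right (hcon u))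
  have h1 := D.ind_unique (ind_of hr hj) (ind_of hr' hj') u
  rw [hj, hj', hu, one_smul, one_smul] at h1
  exact add_left_cancel (add_left_cancel h1)

/-- (F4) -/
theorem conj {f : M →+ ZMod 2} {b : X} {r s : M} (h : PP X e f s) (hb : b • e = e + r)
    (hr : r ∈ Fx X M) : PP X e (act b f) (r + s) := by
  obtain ⟨hs, j, hj⟩ := h
  refine ⟨(Fx X M).add_mem hr hs, b * j * b⁻¹, fun u => ?_⟩
  rw [mul_smul, mul_smul, hj, smul_add, smul_inv_smul, smul_zmod, smul_add, hb, hs b, act_apply, add_assoc e]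

theorem exists_both {f g : M →+ ZMod 2} (hf : f ≠ 0) (hg : g ≠ 0) : ∃ v, f v = 1 ∧ g v = 1 := by
  have ex : ∀ {f : M →+ ZMod 2}, f ≠ 0 → ∃ u, f u = 1 := by
    intro f hf
    by_contra hcon
    push Not at hcon
    exact hf (by ext u; exact (z2 _).resolve_right (hcon u))
  obtain ⟨a, ha⟩ := ex hf
  obtain ⟨c, hc⟩ := ex hg
  rcases z2 (g a) with h1 | h1
  · rcases z2 (f c) with h2 | h2
    · exact ⟨a + c, by rw [map_add, ha, h2, add_zero], by rw [map_add, h1, hc, zero_add]⟩
    · exact ⟨c, h2, hc⟩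
  · exact ⟨a, ha, h1⟩

/-- (F5) -/
theorem move [Finite M] {f g : M →+ ZMod 2} (hf : f ∈ LL X M) (hg : g ∈ LL X M) (hf0 : f ≠ 0) (hg0 : g ≠ 0)
    (hfe : f e = 0) (hge : g e = 0) : ∃ b : X, b • e - e ∈ Fx X M ∧ act b f = g := by
  obtain ⟨v, hfv, hgv⟩ := D.exists_both hf0 hg0
  have hv : v ∉ Fx X M := fun h => by
    rw [hf v h] at hfv
    exact absurd hfv (by decide)
  obtain ⟨x, hx⟩ := D.exists_tr hv (f := f + g) ((LL X M).add_mem hf hg)
    (by rw [AddMonoidHom.add_apply, hfv, hgv]; decide)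
  refine ⟨x⁻¹, mem_inv ?_, ?_⟩
  · have h1 := hx e
    rwa [AddMonoidHom.add_apply, hfe, hge, add_zero, zero_smul, add_zero] at h1
  · ext u
    rw [act_apply, inv_inv]
    have h1 := hf _ (hx u)
    rw [map_sub, sub_eq_zero, map_add] at h1
    rw [h1, AddMonoidHom.add_apply]
    have h2 : f ((f u + g u) • v) = f u + g u := by
      rcases z2 (f u + g u) with h | h
      · rw [h, zero_smul, map_zero]
      · rw [h, one_smul, hfv]
    rw [h2, ← add_assoc, CharTwo.add_self_eq_zero, zero_add]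

/-- additivity -/
theorem add_r [Finite M] {g g' : M →+ ZMod 2} {r r' r'' : M} (h : PP X e g r) (h' : PP X e g' r')
    (h'' : PP X e (g + g') r'') (hg : g e = 0) (hgL : g ∈ LL X M) (hne : g ≠ g')
    (hg0 : g ≠ 0) (hg0' : g' ≠ 0) : r = r'' := by
  obtain ⟨hr, j, hj⟩ := h
  obtain ⟨hr', j', hj'⟩ := h'
  obtain ⟨hr'', j'', hj''⟩ := h''
  have e1 : ∀ u : M, (j * j') • u = u + g u • (e + r) + g' u • (e + r') := by
    intro u
    rw [mul_smul, hj' u, smul_add, smul_zmod, hj u]
    have h1 : j • (e + r') = e + r' := by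
      rw [smul_add, hr' j, hj e, hg, zero_smul, add_zero]
    rw [h1]
  have h1 : Ind X e (g + g') (j * j') := by
    intro u
    rw [e1, AddMonoidHom.add_apply, add_smul, smul_add, smul_add]
    have h2 : u + (g u • e + g u • r) + (g' u • e + g' u • r') - (u + (g u • e + g' u • e)) =
        g u • r + g' u • r' := by abel
    rw [h2]
    have h3 : ∀ (a : ZMod 2) {i : M}, i ∈ Fx X M → a • i ∈ Fx X M := by
      intro a i hi
      rcases z2 a with h | h
      · rw [h, zero_smul]; exact (Fx X M).zero_mem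
      · rw [h, one_smul]; exact hi
    exact (Fx X M).add_mem (h3 _ hr) (h3 _ hr')
  -- a vector with `g u = 1`, `g' u = 0`
  obtain ⟨u, hu, hu'⟩ : ∃ u, g u = 1 ∧ (g + g') u = 1 := by
    refine D.exists_both hg0 fun h0 => hne ?_
    ext u
    have h2 := DFunLike.congr_fun h0 u
    rw [AddMonoidHom.add_apply, AddMonoidHom.zero_apply] at h2
    rcases z2 (g u) with h3 | h3 <;> rcases z2 (g' u) with h4 | h4 <;> rw [h3, h4] at h2 ⊢
    · exact absurd h2 (by decide)
    · exact absurd h2 (by decide)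
  have hg'u : g' u = 0 := by
    rw [AddMonoidHom.add_apply, hu] at hu'
    rcases z2 (g' u) with h3 | h3
    · exact h3
    · rw [h3] at hu'; exact absurd hu' (by decide)
  have h2 := D.ind_unique h1 (ind_of hr'' hj'') u
  rw [e1, hj'', hu, hg'u, hu', zero_smul, add_zero, one_smul, one_smul] at h2
  exact add_left_cancel (add_left_cancel h2)

/-- (F6) all transvections with centre `e` are induced, with `r = 0` -/
theorem exact [Finite X] [Finite M] {g : M →+ ZMod 2} (hg : g ∈ LL X M) (hg0 : g ≠ 0) (hge : g e = 0) :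
    PP X e g 0 := by
  obtain ⟨f, -, hfY, -, hf0, -, -⟩ := D.four
  have hf : f ∈ LL X M := D.mem_LL_of hfY
  have hPf : PP X e f 0 := by
    obtain ⟨h0, x, hx⟩ := hfY
    exact ⟨(Fx X M).zero_mem, x, fun u => by rw [add_zero]; exact hx u⟩
  have hfe : f e = 0 := apply_eq_zero hfY
  have ex : ∀ {g : M →+ ZMod 2}, g ∈ LL X M → g ≠ 0 → g e = 0 → ∃ r, PP X e g r := by
    intro g hg hg0 hge
    obtain ⟨b, hb, rfl⟩ := D.move hf hg hf0 hg0 hfe hge
    exact ⟨_, D.conj hPf (by abel : b • e = e + (b • e - e)) hb⟩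
  obtain ⟨r, hr⟩ := ex hg hg0 hge
  by_cases hne : g = f
  · rwa [hne]
  · have hs0 : f + g ≠ 0 := by
      intro h0
      apply hne
      ext u
      have h2 := DFunLike.congr_fun h0 u
      rw [AddMonoidHom.add_apply, AddMonoidHom.zero_apply] at h2
      rcases z2 (f u) with h3 | h3 <;> rcases z2 (g u) with h4 | h4 <;> rw [h3, h4] at h2 ⊢
      · exact absurd h2 (by decide)
      · exact absurd h2 (by decide)
    obtain ⟨s, hs⟩ := ex ((LL X M).add_mem hf hg) hs0 (by rw [AddMonoidHom.add_apply, hfe, hge, add_zero])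
    have h1 : (0 : M) = s := D.add_r hPf hr hs hfe hf (fun h => hne h.symm) hf0 hg0
    have h2 : r = s := D.add_r hr hPf (by rwa [add_comm]) hge hg hne hg0 hf0
    rwa [h2, ← h1] at hr

/-- **(F7)** the stabiliser of `e + I` fixes `e`. -/
theorem stab [Finite X] [Finite M] {b : X} (hb : b • e - e ∈ Fx X M) : b • e = e := by
  obtain ⟨f, -, hfY, -, hf0, -, -⟩ := D.four
  have hf : f ∈ LL X M := D.mem_LL_of hfY
  have hfe : f e = 0 := apply_eq_zero hfY
  have hne : act b f ≠ 0 := by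
    intro h0
    apply hf0
    have h1 := congrArg (act b⁻¹) h0
    rw [Data.act_inv_act] at h1
    rw [h1]
    ext u; simp
  have hbe : act b f e = 0 := by
    rw [act_apply]
    have h1 := hf _ (mem_inv hb)
    rw [map_sub, hfe, sub_zero] at h1
    exact h1
  have h1 := D.conj (D.exact hf hf0 hfe) (by abel : b • e = e + (b • e - e)) hb
  have h2 := D.exact (act_mem_LL b hf) hne hbe
  have h3 := D.r_unique hne h1 h2
  rw [add_zero, sub_eq_zero] at h3
  exact h3

/-- **(F8)** -/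
theorem trans [Finite X] [Finite M] {f g : M →+ ZMod 2} (hf : f ∈ LL X M) (hg : g ∈ LL X M) (hf0 : f ≠ 0)
    (hg0 : g ≠ 0) (hfe : f e = 0) (hge : g e = 0) : ∃ b : X, b • e = e ∧ act b f = g := by
  obtain ⟨b, hb, h⟩ := D.move hf hg hf0 hg0 hfe hge
  exact ⟨b, D.stab hb, h⟩

omit D in
/-- (F9) -/
theorem mem_of {w : M} (h : ∀ g ∈ LL X M, g e = 0 → g w = 0) : w ∈ Fx X M ∨ w - e ∈ Fx X M := by
  let p : Submodule (ZMod 2) M := AddSubgroup.toZModSubmodule 2 (Fx X M) ⊔ Submodule.span (ZMod 2) {e}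
  by_cases hw : w ∈ p
  · obtain ⟨i, hi, m, hm, rfl⟩ := Submodule.mem_sup.mp hw
    obtain ⟨a, rfl⟩ := Submodule.mem_span_singleton.mp hm
    rcases z2 a with h1 | h1
    · left
      rw [h1, zero_smul, add_zero]
      exact hi
    · right
      rw [h1, one_smul, add_sub_cancel_right]
      exact hi
  · exfalso
    obtain ⟨φ, hφ, hφp⟩ := Submodule.exists_dual_map_eq_bot_of_notMem hw inferInstance
    have hker : ∀ m ∈ p, φ m = 0 := by
      intro m hm
      have : φ m ∈ p.map φ := ⟨m, hm, rfl⟩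
      rw [hφp] at this
      exact (Submodule.mem_bot _).mp this
    apply hφ
    exact h φ.toAddMonoidHom
      (fun i hi => hker i ((le_sup_left : AddSubgroup.toZModSubmodule 2 (Fx X M) ≤ p) hi))
      (hker e ((le_sup_right : Submodule.span (ZMod 2) {e} ≤ p) (Submodule.mem_span_singleton_self e)))

/-- **The end of the case SL.** -/
theorem final [Finite X] [Finite M] {Φ : Set (M →+ ZMod 2)}
    (hΦ : ∀ x : X, x • e = e → ∀ f ∈ Φ, act x f ∈ Φ) {f : M →+ ZMod 2} (hfΦ : f ∈ Φ) (hf0 : f ≠ 0)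
    (hf : f ∈ LL X M) (hfe : f e = 0) {W : Set M} (hW : ∀ g ∈ Φ, ∀ w ∈ W, g w = 0) {x : X} (hx : x • e ∈ W) :
    x • e = e := by
  have h1 : ∀ g ∈ LL X M, g e = 0 → g (x • e) = 0 := by
    intro g hg hge
    by_cases hg0 : g = 0
    · rw [hg0, AddMonoidHom.zero_apply]
    · obtain ⟨b, hb, rfl⟩ := D.trans hf hg hf0 hg0 hfe hge
      exact hW _ (hΦ b hb f hfΦ) _ hx
  rcases mem_of h1 with h2 | h2
  · exact absurd h2 (D.orbit_not_mem x)
  · exact D.stab h2

end Dat

end Cfsg.Agent.Omega.NOThreeL.SLCase
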