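import Cfsg.Agent.Omega.NOThreeL.RTools.Symp
import Cfsg.Agent.Omega.NOThreeL.RTools.SpForm

/-!
# NO-3L, box R, case (A), `q = 2`, `k = 1`, the symplectic case (#17122, helper858): (8), (9), (10) (helper401)

`Glue` : the facts (0) - (6) of the text which are used in (8) - (10):
* `U1 = U^# = ⟨e^H⟩`, `Y = U^# ∩ C(V')`, `a ∈ V'`, (`SpForm.Tr`: one transvection at each point: `|Φ_e| = 2`);
* `U = U_H`, `Z`, `E = C_Z(P')`, `X = ⟨U_e, U_a⟩`, `T = U_e ∩ U_a`, `g ∈ X` with `e^g = a`, `Ya = Y^g`, `u ∈ U^# - Y`;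
* `W = ⟨V_P^k⟩`, `UE = U_{C_G(e)}`.

`Glue.false` : contradiction.
-/

set_option autoImplicit false
set_option linter.unusedSectionVars false
set_option linter.unusedVariables false

namespace Cfsg.Agent.Omega.NOThreeL.RTools.SpGlue

open Subgroup Cfsg.Agent.Omega.NOThreeL.RTools.SpForm Cfsg.Agent.Omega.NOThreeL.RTools.Symp

universe u

variable {G : Type u} [Group G]

/-- The configuration. -/
structure Glue (e a g u : G) (U1 Y H U Z E X T Ya W UE : Subgroup G) : Prop extends Tr e a U1 Y H where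
  /-- `PP = e^⟨a^H⟩` -/
  htr : ∀ p ∈ Pt e H, ∃ n ∈ closure {x | ∃ h ∈ H, x = h * a * h⁻¹}, p = n * e * n⁻¹
  /-- (0)(d): an element of `H` which is trivial on `U^#/I` and on `I`, `I = C_{U^#}(a^H)`, is trivial on `U^#` -/
  faith : ∀ h ∈ H, (∀ x ∈ U1, ∀ k ∈ H, (k * a * k⁻¹) * (h * x * h⁻¹ * x⁻¹) = (h * x * h⁻¹ * x⁻¹) * (k * a * k⁻¹)) →
    (∀ x ∈ U1, (∀ k ∈ H, (k * a * k⁻¹) * x = x * (k * a * k⁻¹)) → h * x = x * h) → ∀ x ∈ U1, h * x = x * h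
  ga : g * e * g⁻¹ = a
  gX : g ∈ X
  /-- `X` centralises `T` and `E` -/
  XT : ∀ x ∈ X, ∀ t ∈ T, x * t = t * x
  XE : ∀ x ∈ X, ∀ t ∈ E, x * t = t * x
  XH : ¬ X ≤ H
  TY : T ≤ Y
  eT : e ∉ T
  YaH : Ya ≤ H
  /-- `Ya = Y^g` -/
  gY : ∀ y ∈ Y, g * y * g⁻¹ ∈ Ya
  gY' : ∀ y' ∈ Ya, ∃ y ∈ Y, y' = g * y * g⁻¹
  uU : u ∈ U1
  uY : u ∉ Y
  /-- (4): `Y = [u, Ya] T` -/
  star : ∀ y ∈ Y, ∃ y' ∈ Ya, ∃ s ∈ T, y'⁻¹ * u * y' = u * y * s
  /-- (4): `[u, y^g] ∈ y T` -/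
  sharp : ∀ y ∈ Y, ∃ s ∈ T, (g * y * g⁻¹)⁻¹ * u * (g * y * g⁻¹) = u * y * s
  /-- (5) -/
  WW : ∀ x ∈ W, ∀ y ∈ W, x * (g * y * g⁻¹) = (g * y * g⁻¹) * x
  Wa : ∀ x ∈ W, a * x = x * a
  /-- `C_H(e)` normalises `W` -/
  nW : ∀ k ∈ H, k * e = e * k → ∀ x ∈ W, k * x * k⁻¹ ∈ W
  eW : e ∈ W
  /-- (6) -/
  hne : ∃ p ∈ Pt e H, p ∈ W ∧ p ≠ e
  U1U : U1 ≤ U
  UU : ∀ x ∈ U, ∀ y ∈ U, x * y = y * x
  nUU : ∀ h ∈ H, ∀ x ∈ U, h * x * h⁻¹ ∈ U
  ZU : Z ≤ U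
  EU : E ≤ U
  /-- `C_G(Z) ≤ H` -/
  CH : ∀ x, (∀ z ∈ Z, x * z = z * x) → x ∈ H
  /-- `C_U(V') = Y E` -/
  split : ∀ x ∈ U, a * x = x * a → ∃ y ∈ Y, ∃ t ∈ E, x = y * t
  aU : ∀ x ∈ U, a * x ≠ x * a → a * x * a⁻¹ = x * e
  /-- `U_{C_G(e)}` -/
  ZUE : Z ≤ UE
  UEU : ∀ x ∈ UE, ∀ y ∈ UE, x * y = y * x
  nUE : ∀ m, m * e = e * m → ∀ x ∈ UE, m * x * m⁻¹ ∈ UE

theorem ne_of' {s : ℤˣ} (h : ¬ s = 1) : s = -1 := (Int.units_eq_one_or s).resolve_left h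

namespace Glue

variable {e a g u : G} {U1 Y H U Z E X T Ya W UE : Subgroup G} (c : Glue e a g u U1 Y H U Z E X T Ya W UE)
include c

/-- all the properties of the form -/
theorem exists_B : ∃ B : G → G → ℤˣ, Form U1 (Pt e H) B ∧
    (∀ h ∈ H, ∀ x ∈ U1, ∀ y ∈ U1, B (h * x * h⁻¹) (h * y * h⁻¹) = B x y) ∧ (∀ y ∈ U1, B e y = chi Y y) := by
  obtain ⟨B, hm, hs, h0, hi, he⟩ := c.exists_form
  refine ⟨B, ⟨c.sq, c.comm, fun p hp => c.pt_le hp, c.gen, hm, hs, h0, ?_, ?_⟩, hi, he⟩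
  · intro p hp q hq h
    exact c.pt_mul hi he hp hq h
  · intro A hA hne hcl
    exact c.conn hs hm h0 hi he c.htr hA hne hcl

section withB

variable {B : G → G → ℤˣ} (F : Form U1 (Pt e H) B)
  (hi : ∀ h ∈ H, ∀ x ∈ U1, ∀ y ∈ U1, B (h * x * h⁻¹) (h * y * h⁻¹) = B x y) (he : ∀ y ∈ U1, B e y = chi Y y)
include F hi he

omit F hi in
theorem mem_Y {y : G} (hy : y ∈ U1) : y ∈ Y ↔ B e y = 1 := by rw [he y hy, chi_eq_one]

/-- the radical of the form is centralised by the `k a k⁻¹` -/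
theorem rad_comm {x : G} (hx : x ∈ U1) (h : ∀ y ∈ U1, B x y = 1) {k : G} (hk : k ∈ H) :
    (k * a * k⁻¹) * x = x * (k * a * k⁻¹) := by
  rcases c.tr_act hi he hk hx with ⟨-, h1⟩ | ⟨h1, -⟩
  · exact mul_inv_eq_iff_eq_mul.1 h1
  · exfalso
    rw [F.symm _ (c.ptU hk) _ hx, h _ (c.ptU hk)] at h1
    exact neg_ne h1.symm

/-- an element of `U^#` centralised by the `k a k⁻¹` is in the radical -/
theorem comm_rad {x : G} (hx : x ∈ U1) (h : ∀ k ∈ H, (k * a * k⁻¹) * x = x * (k * a * k⁻¹)) :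
    ∀ y ∈ U1, B x y = 1 := by
  have h1 : ∀ p ∈ Pt e H, B x p = 1 := by
    rintro p ⟨k, hk, rfl⟩
    rcases c.tr_act hi he hk hx with ⟨h1, -⟩ | ⟨-, h2⟩
    · rw [F.symm _ hx _ (c.ptU hk)]; exact h1
    · exfalso
      rw [h k hk, mul_inv_cancel_right] at h2
      have h3 : k * e * k⁻¹ = 1 := (mul_eq_left.1 h2.symm)
      have h4 : e = 1 := by
        have : e = k⁻¹ * (k * e * k⁻¹) * k := by group
        rw [this, h3]; group
      exact c.eT (by rw [h4]; exact one_mem _)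
  intro y hy
  exact (F.eq_one_of_closure (A := Pt e H) (fun p hp => c.pt_le hp) hx h1 (c.gen hy)).2

/-- (0)(d) for the form -/
theorem faith' {h : G} (hh : h ∈ H) (h1 : ∀ x ∈ U1, ∀ y ∈ U1, B (h * x * h⁻¹ * x⁻¹) y = 1)
    (h2 : ∀ x ∈ U1, (∀ y ∈ U1, B x y = 1) → h * x = x * h) : ∀ x ∈ U1, h * x = x * h :=
  c.faith h hh
    (fun x hx k hk => c.rad_comm F hi he (U1.mul_mem (c.nU h hh x hx) (U1.inv_mem hx)) (h1 x hx) hk)
    fun x hx h3 => h2 x hx (c.comm_rad F hi he hx h3)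

/-- (3)(c) -/
theorem hc : ∀ p ∈ Pt e H, (∀ y ∈ U1, B (p * e) y = 1) → p = e := by
  rintro p ⟨k, hk, rfl⟩ h
  have hp := c.ptU hk
  have hee := c.eU
  -- the two transvections have the same axis
  have key : ∀ x ∈ U1, B (k * e * k⁻¹) x = B e x := by
    intro x hx
    have h1 := h x hx
    rw [F.mul_left hp hee hx] at h1
    rcases Int.units_eq_one_or (B e x) with h2 | h2
    · rw [h2, mul_one] at h1; rw [h1, h2]
    · rw [h2] at h1
      rcases Int.units_eq_one_or (B (k * e * k⁻¹) x) with h3 | h3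
      · rw [h3] at h1; exact absurd h1 (by decide)
      · rw [h3, h2]
  have h1e : (1 : G) ∈ H := H.one_mem
  have act1 : ∀ x ∈ U1, (B e x = 1 ∧ a * x * a⁻¹ = x) ∨ (B e x = -1 ∧ a * x * a⁻¹ = x * e) := by
    intro x hx
    rcases c.a_conj hx with ⟨h2, h3⟩ | ⟨h2, h3⟩
    · left; exact ⟨(c.mem_Y he hx).1 h2, h3⟩
    · right; exact ⟨ne_of' fun h4 => h2 ((c.mem_Y he hx).2 h4), h3⟩
  have hH : (k * a * k⁻¹) * a ∈ H := H.mul_mem (H.mul_mem (H.mul_mem hk c.aH) (H.inv_mem hk)) c.aH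
  -- the action of the product
  have act : ∀ x ∈ U1, (B e x = 1 ∧ ((k * a * k⁻¹) * a) * x * ((k * a * k⁻¹) * a)⁻¹ = x) ∨
      (B e x = -1 ∧ ((k * a * k⁻¹) * a) * x * ((k * a * k⁻¹) * a)⁻¹ = x * (k * e * k⁻¹ * e)) := by
    intro x hx
    have e1 : ∀ x : G, ((k * a * k⁻¹) * a) * x * ((k * a * k⁻¹) * a)⁻¹ =
        (k * a * k⁻¹) * (a * x * a⁻¹) * (k * a * k⁻¹)⁻¹ := fun x => by group
    rcases act1 x hx with ⟨h2, h3⟩ | ⟨h2, h3⟩
    · left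
      refine ⟨h2, ?_⟩
      rw [e1, h3]
      rcases c.tr_act hi he hk hx with ⟨-, h4⟩ | ⟨h4, -⟩
      · exact h4
      · rw [key x hx, h2] at h4; exact absurd h4.symm neg_ne
    · right
      refine ⟨h2, ?_⟩
      rw [e1, h3]
      have hxe : x * e ∈ U1 := U1.mul_mem hx hee
      have h5 : B (k * e * k⁻¹) (x * e) = -1 := by
        rw [key _ hxe, F.mul e hee x hx e hee, h2, F.self e hee, mul_one]
      rcases c.tr_act hi he hk hxe with ⟨h4, -⟩ | ⟨-, h4⟩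
      · rw [h5] at h4; exact absurd h4 neg_ne
      · rw [h4, mul_assoc, c.comm e hee _ hp]
  have h3 : ∀ x ∈ U1, ((k * a * k⁻¹) * a) * x = x * ((k * a * k⁻¹) * a) := by
    refine c.faith' F hi he hH ?_ ?_
    · intro x hx y hy
      rcases act x hx with ⟨-, h4⟩ | ⟨-, h4⟩
      · rw [h4, mul_inv_cancel]; exact F.one_left hy
      · rw [h4]
        have e2 : x * (k * e * k⁻¹ * e) * x⁻¹ = k * e * k⁻¹ * e := by
          rw [c.comm x hx _ (U1.mul_mem hp hee), mul_inv_cancel_right]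
        rw [e2]; exact h y hy
    · intro x hx h4
      rcases act x hx with ⟨-, h5⟩ | ⟨h5, -⟩
      · exact mul_inv_eq_iff_eq_mul.1 h5
      · rw [F.symm e hee x hx, h4 e hee] at h5; exact absurd h5.symm neg_ne
  obtain ⟨x, hx, hxY⟩ := c.ne
  rcases act x hx with ⟨h4, -⟩ | ⟨-, h4⟩
  · exact absurd ((c.mem_Y he hx).2 h4) hxY
  · rw [h3 x hx, mul_inv_cancel_right] at h4
    have h5 : k * e * k⁻¹ * e = 1 := mul_eq_left.1 h4.symm
    have h6 := eq_inv_of_mul_eq_one_left h5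
    rw [h6, c.invU hee]

/-! ### (8) -/

/-- an element of `Ya` commutes with `Y` if `Y ≤ W` -/
theorem Ya_comm (hY : ∀ y ∈ Y, y ∈ W) {y y' : G} (hy : y ∈ Y) (hy' : y' ∈ Ya) : y' * y = y * y' := by
  obtain ⟨y2, hy2, rfl⟩ := c.gY' y' hy'
  exact (c.WW y (hY y hy) y2 (hY y2 hy2)).symm

/-- `[u, y'] ∈ U^#` -/
theorem cmt_mem {y' : G} (hy' : y' ∈ Ya) : u⁻¹ * (y'⁻¹ * u * y') ∈ U1 :=
  U1.mul_mem (U1.inv_mem c.uU) (c.nU' (c.YaH hy') c.uU)

/-- `[u, y']` is perpendicular to `Y` -/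
theorem cmt_perp (hY : ∀ y ∈ Y, y ∈ W) {y' : G} (hy' : y' ∈ Ya) {y : G} (hy : y ∈ U1) (hyY : B e y = 1) :
    B (u⁻¹ * (y'⁻¹ * u * y')) y = 1 := by
  have h1 := hi y'⁻¹ (H.inv_mem (c.YaH hy')) u c.uU y hy
  rw [inv_inv] at h1
  have h2 : y'⁻¹ * y * y' = y := by
    rw [mul_assoc, ← c.Ya_comm F hi he hY ((c.mem_Y he hy).2 hyY) hy', inv_mul_cancel_left]
  rw [h2] at h1
  rw [F.mul_left (U1.inv_mem c.uU) (c.nU' (c.YaH hy') c.uU) hy, h1, F.symm _ (U1.inv_mem c.uU) _ hy,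
    F.inv_right c.uU, F.symm _ hy _ c.uU]
  exact unit_mul_self _

/-- `[u, y'] ∈ Rad` or `[u, y'] e ∈ Rad` -/
theorem cmt_dich (hY : ∀ y ∈ Y, y ∈ W) {y' : G} (hy' : y' ∈ Ya) :
    (∀ y ∈ U1, B (u⁻¹ * (y'⁻¹ * u * y')) y = 1) ∨ ∀ y ∈ U1, B (u⁻¹ * (y'⁻¹ * u * y') * e) y = 1 :=
  F.rad_or c.eU (c.cmt_mem F hi he hy') fun _ hy hyY => c.cmt_perp F hi he hY hy' hy hyY

omit F hi he in
/-- `U^# = Y ∪ u Y` -/
theorem split_u {x : G} (hx : x ∈ U1) : x ∈ Y ∨ ∃ y ∈ Y, x = u * y := by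
  by_cases h : x ∈ Y
  · exact Or.inl h
  · refine Or.inr ⟨u * x, c.idx u c.uU x hx c.uY h, ?_⟩
    rw [← mul_assoc, c.sq u c.uU, one_mul]

/-- an element `k ∈ H` trivial on `Y` with `[u, k] ∈ Rad` is trivial on `U^#` -/
theorem triv_of {k : G} (hk : k ∈ H) (hkY : ∀ y ∈ Y, k * y = y * k)
    (hr : ∀ y ∈ U1, B (k * u * k⁻¹ * u⁻¹) y = 1) : k * u = u * k := by
  refine c.faith' F hi he hk ?_ ?_ u c.uU
  · intro x hx y hy
    rcases c.split_u hx with h1 | ⟨y1, hy1, rfl⟩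
    · rw [hkY x h1, mul_inv_cancel_right, mul_inv_cancel]; exact F.one_left hy
    · have e1 : k * (u * y1) * k⁻¹ * (u * y1)⁻¹ = (k * u * k⁻¹) * (k * y1 * k⁻¹) * y1⁻¹ * u⁻¹ := by group
      rw [e1, hkY y1 hy1, mul_inv_cancel_right, mul_inv_cancel_right]
      exact hr y hy
  · intro x hx h1
    apply hkY
    rw [c.mem_Y he hx, F.symm e c.eU x hx]
    exact h1 e c.eU

/-- `[u, y'] ∈ Rad` implies `[u, y'] = 1` -/
theorem cmt_one (hY : ∀ y ∈ Y, y ∈ W) {y' : G} (hy' : y' ∈ Ya)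
    (h : ∀ y ∈ U1, B (u⁻¹ * (y'⁻¹ * u * y')) y = 1) : u⁻¹ * (y'⁻¹ * u * y') = 1 := by
  have h1 : y'⁻¹ * u = u * y'⁻¹ := by
    refine c.triv_of F hi he (H.inv_mem (c.YaH hy')) ?_ ?_
    · intro y hy
      rw [inv_mul_eq_iff_eq_mul, ← mul_assoc, c.Ya_comm F hi he hY hy hy', mul_inv_cancel_right]
    · intro y hy
      have e1 : y'⁻¹ * u * y'⁻¹⁻¹ * u⁻¹ = u * (u⁻¹ * (y'⁻¹ * u * y')) * u⁻¹ := by group
      rw [e1, c.comm u c.uU _ (c.cmt_mem F hi he hy'), mul_inv_cancel_right]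
      exact h y hy
  rw [h1]; group

/-- `[u, y' y''] = [u, y'] [u, y'']` -/
theorem cmt_mul (hY : ∀ y ∈ Y, y ∈ W) {y' y'' : G} (hy' : y' ∈ Ya) (hy'' : y'' ∈ Ya) :
    u⁻¹ * ((y' * y'')⁻¹ * u * (y' * y'')) =
      (u⁻¹ * (y'⁻¹ * u * y')) * (u⁻¹ * (y''⁻¹ * u * y'')) := by
  have h1 := c.cmt_mem F hi he hy'
  have h2 : B e (u⁻¹ * (y'⁻¹ * u * y')) = 1 := by
    rw [F.symm e c.eU _ h1]
    exact c.cmt_perp F hi he hY hy' c.eU (F.self e c.eU)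
  have h3 := c.Ya_comm F hi he hY ((c.mem_Y he h1).2 h2) hy''
  set w := u⁻¹ * (y'⁻¹ * u * y') with hw
  have e1 : u⁻¹ * ((y' * y'')⁻¹ * u * (y' * y'')) = u⁻¹ * (y''⁻¹ * u * (w * y'')) := by rw [hw]; group
  rw [e1, ← h3]
  have e2 : u⁻¹ * (y''⁻¹ * u * (y'' * w)) = (u⁻¹ * (y''⁻¹ * u * y'')) * w := by group
  rw [e2, c.comm _ (c.cmt_mem F hi he hy'') _ h1]

/-- (8) -/
theorem eight (hY : ∀ y ∈ Y, y ∈ W) {y : G} (hy : y ∈ U1) (hyY : B e y = 1) : y ∈ T ∨ y * e ∈ T := by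
  obtain ⟨y', hy', s, hs, h1⟩ := c.star y ((c.mem_Y he hy).2 hyY)
  have hsU : s ∈ U1 := c.YU (c.TY hs)
  have e1 : u⁻¹ * (y'⁻¹ * u * y') = y * s := by rw [h1]; group
  rcases c.cmt_dich F hi he hY hy' with h2 | h2
  · left
    have h3 := c.cmt_one F hi he hY hy' h2
    rw [e1] at h3
    rw [eq_inv_of_mul_eq_one_left h3]
    exact inv_mem hs
  · right
    obtain ⟨y'', hy'', s', hs', h3⟩ := c.star e c.eY
    have hs'U : s' ∈ U1 := c.YU (c.TY hs')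
    have e2 : u⁻¹ * (y''⁻¹ * u * y'') = e * s' := by rw [h3]; group
    rcases c.cmt_dich F hi he hY hy'' with h4 | h4
    · exfalso
      have h5 := c.cmt_one F hi he hY hy'' h4
      rw [e2] at h5
      apply c.eT
      rw [eq_inv_of_mul_eq_one_left h5]
      exact inv_mem hs'
    · -- `[u, y' y''] ∈ Rad`
      have h5 := c.cmt_one F hi he hY (Ya.mul_mem hy' hy'') (by
        intro x hx
        rw [c.cmt_mul F hi he hY hy' hy'']
        have h6 := h2 x hx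
        have h7 := h4 x hx
        have m1 := c.cmt_mem F hi he hy'
        have m2 := c.cmt_mem F hi he hy''
        rw [F.mul_left m1 c.eU hx] at h6
        rw [F.mul_left m2 c.eU hx] at h7
        rw [F.mul_left m1 m2 hx]
        rcases Int.units_eq_one_or (B e x) with h8 | h8
        · rw [h8, mul_one] at h6 h7; rw [h6, h7, mul_one]
        · rw [h8] at h6 h7
          have g1 := ne_of' (s := B (u⁻¹ * (y'⁻¹ * u * y')) x) fun g => by
            rw [g] at h6; exact absurd h6 (by decide)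
          have g2 := ne_of' (s := B (u⁻¹ * (y''⁻¹ * u * y'')) x) fun g => by
            rw [g] at h7; exact absurd h7 (by decide)
          rw [g1, g2]; decide)
      rw [c.cmt_mul F hi he hY hy' hy'', e1, e2] at h5
      have h6 : y * e = s⁻¹ * s'⁻¹ := by
        have h7 : y * s * (e * s') = (y * e) * (s * s') := by
          rw [mul_assoc, ← mul_assoc s e s', c.comm s hsU e c.eU]; group
        rw [h7] at h5
        rw [eq_inv_of_mul_eq_one_left h5, mul_inv_rev]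
        exact c.comm _ (U1.inv_mem hs'U) _ (U1.inv_mem hsU)
      rw [h6]
      exact mul_mem (inv_mem hs) (inv_mem hs')

/-! ### (9) -/

/-- (9): there is no point in `T` -/
theorem nine (hY : ∀ y ∈ Y, y ∈ W) : ∀ p ∈ Pt e H, p ∉ T := by
  rintro p ⟨h, hh, rfl⟩ hpT
  set p := h * e * h⁻¹ with hp
  have hpP : p ∈ Pt e H := ⟨h, hh, rfl⟩
  have hpU : p ∈ U1 := c.pt_le hpP
  have hpY : p ∈ Y := c.TY hpT
  -- conjugation by an element centralising `p` normalises `UM = UE^(h⁻¹)`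
  have hM : ∀ m, m * p = p * m → ∀ x, h⁻¹ * x * h ∈ UE → h⁻¹ * (m * x * m⁻¹) * h ∈ UE := by
    intro m hm x hx
    have h1 : (h⁻¹ * m * h) * e = e * (h⁻¹ * m * h) := by
      calc (h⁻¹ * m * h) * e = h⁻¹ * (m * p) * h := by rw [hp]; group
        _ = h⁻¹ * (p * m) * h := by rw [hm]
        _ = e * (h⁻¹ * m * h) := by rw [hp]; group
    have h2 := c.nUE _ h1 _ hx
    have e1 : (h⁻¹ * m * h) * (h⁻¹ * x * h) * (h⁻¹ * m * h)⁻¹ = h⁻¹ * (m * x * m⁻¹) * h := by group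
    rwa [e1] at h2
  have hMm : ∀ x y, h⁻¹ * x * h ∈ UE → h⁻¹ * y * h ∈ UE → h⁻¹ * (x * y) * h ∈ UE := by
    intro x y hx hy
    have e1 : h⁻¹ * (x * y) * h = (h⁻¹ * x * h) * (h⁻¹ * y * h) := by group
    rw [e1]; exact UE.mul_mem hx hy
  have hMi : ∀ x, h⁻¹ * x * h ∈ UE → h⁻¹ * x⁻¹ * h ∈ UE := by
    intro x hx
    have e1 : h⁻¹ * x⁻¹ * h = (h⁻¹ * x * h)⁻¹ := by group
    rw [e1]; exact UE.inv_mem hx
  have hMc : ∀ x y, h⁻¹ * x * h ∈ UE → h⁻¹ * y * h ∈ UE → x * y = y * x := by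
    intro x y hx hy
    have h1 := c.UEU _ hx _ hy
    calc x * y = h * ((h⁻¹ * x * h) * (h⁻¹ * y * h)) * h⁻¹ := by group
      _ = h * ((h⁻¹ * y * h) * (h⁻¹ * x * h)) * h⁻¹ := by rw [h1]
      _ = y * x := by group
  have hap : a * p = p * a := c.a1 p hpY
  have hgp : g * p = p * g := c.XT g c.gX p hpT
  -- claim A
  have hA : ∀ f ∈ U, h⁻¹ * f * h ∈ UE → a * f = f * a := by
    intro f hf hfE
    by_contra hcon
    have h1 := c.aU f hf hcon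
    have h2 := hM a hap f hfE
    rw [h1] at h2
    have h3 : h⁻¹ * e * h ∈ UE := by
      have e1 : h⁻¹ * e * h = (h⁻¹ * f * h)⁻¹ * (h⁻¹ * (f * e) * h) := by group
      rw [e1]; exact UE.mul_mem (UE.inv_mem hfE) h2
    have h4 := hM g hgp e h3
    rw [c.ga] at h4
    exact hcon (hMc a f h4 hfE)
  -- claim B
  obtain ⟨z, hz, x, hx, hxz⟩ : ∃ z ∈ Z, ∃ x ∈ X, x * (h * z * h⁻¹) ≠ (h * z * h⁻¹) * x := by
    by_contra hcon
    push Not at hcon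
    apply c.XH
    intro x hx
    have h1 : h⁻¹ * x * h ∈ H := c.CH _ fun z hz => by
      have h2 := hcon z hz x hx
      calc h⁻¹ * x * h * z = h⁻¹ * (x * (h * z * h⁻¹)) * h := by group
        _ = h⁻¹ * ((h * z * h⁻¹) * x) * h := by rw [h2]
        _ = z * (h⁻¹ * x * h) := by group
    have e1 : x = h * (h⁻¹ * x * h) * h⁻¹ := by group
    rw [e1]
    exact H.mul_mem (H.mul_mem hh h1) (H.inv_mem hh)
  have hzU : h * z * h⁻¹ ∈ U := c.nUU h hh z (c.ZU hz)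
  have hzE : h⁻¹ * (h * z * h⁻¹) * h ∈ UE := by
    have e1 : h⁻¹ * (h * z * h⁻¹) * h = z := by group
    rw [e1]; exact c.ZUE hz
  obtain ⟨y1, hy1, w, hw, h1⟩ := c.split _ hzU (hA _ hzU hzE)
  have hy1T : y1 ∉ T := by
    intro h2
    apply hxz
    rw [h1, ← mul_assoc, c.XT x hx y1 h2, mul_assoc, c.XE x hx w hw, mul_assoc]
  -- `z' = z^g`
  have hz' := hM g hgp _ hzE
  have e1 : g * (h * z * h⁻¹) * g⁻¹ = (g * y1 * g⁻¹) * w := by
    rw [h1]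
    calc g * (y1 * w) * g⁻¹ = (g * y1 * g⁻¹) * (g * w * g⁻¹) := by group
      _ = (g * y1 * g⁻¹) * w := by rw [c.XE g c.gX w hw, mul_inv_cancel_right]
  rw [e1] at hz'
  set y' := g * y1 * g⁻¹ with hy'
  have hy'Ya : y' ∈ Ya := c.gY y1 hy1
  obtain ⟨s, hs, h2⟩ := c.sharp y1 hy1
  rw [← hy'] at h2
  have hsU : s ∈ U1 := c.YU (c.TY hs)
  have hy1U : y1 ∈ U1 := c.YU hy1
  have e2 : u⁻¹ * (y'⁻¹ * u * y') = y1 * s := by rw [h2]; group
  have hu1 := c.nU' (c.YaH hy'Ya) c.uU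
  -- `[u, z'] = [u, y']`
  have e3 : u⁻¹ * (((y' * w)⁻¹) * u * (y' * w)) = y1 * s := by
    have e4 : (y' * w)⁻¹ * u * (y' * w) = w⁻¹ * (y'⁻¹ * u * y') * w := by group
    have e5 : w⁻¹ * (y'⁻¹ * u * y') * w = y'⁻¹ * u * y' := by
      rw [mul_assoc, c.UU _ (c.U1U hu1) _ (c.EU hw), inv_mul_cancel_left]
    rw [e4, e5, e2]
  have hup : u * p = p * u := c.comm u c.uU p hpU
  have hup' : u⁻¹ * p = p * u⁻¹ := by
    rw [inv_mul_eq_iff_eq_mul, ← mul_assoc, hup, mul_inv_cancel_right]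
  have hsE : h⁻¹ * (y1 * s) * h ∈ UE := by
    rw [← e3]
    have e4 : u⁻¹ * ((y' * w)⁻¹ * u * (y' * w)) = (u⁻¹ * (y' * w)⁻¹ * u⁻¹⁻¹) * (y' * w) := by group
    rw [e4]
    exact hMm _ _ (hM _ hup' _ (hMi _ hz')) hz'
  -- `y1 s = e`
  have hes : y1 * s = e := by
    have hys : y1 * s ∈ U1 := U1.mul_mem hy1U hsU
    have hysY : y1 * s ∈ Y := Y.mul_mem hy1 (c.TY hs)
    rcases c.cmt_dich F hi he hY hy'Ya with h3 | h3
    · exfalso
      have h4 := c.cmt_one F hi he hY hy'Ya h3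
      rw [e2] at h4
      apply hy1T
      rw [eq_inv_of_mul_eq_one_left h4]
      exact inv_mem hs
    · rw [e2] at h3
      -- `a y'⁻¹` is trivial on `U^#`
      have h4 : y'⁻¹ * u * y' = u * (y1 * s) := by rw [← e2]; group
      have e5 : (a * y'⁻¹) * u * (a * y'⁻¹)⁻¹ = u * e * (y1 * s) := by
        have e6 : (a * y'⁻¹) * u * (a * y'⁻¹)⁻¹ = a * (y'⁻¹ * u * y') * a⁻¹ := by group
        rw [e6, h4]
        calc a * (u * (y1 * s)) * a⁻¹ = (a * u * a⁻¹) * (a * (y1 * s) * a⁻¹) := by group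
          _ = u * e * (y1 * s) := by
            rw [c.a2 u c.uU c.uY, c.a1 _ hysY, mul_inv_cancel_right]
      have h5 : (a * y'⁻¹) * u = u * (a * y'⁻¹) := by
        refine c.triv_of F hi he (H.mul_mem c.aH (H.inv_mem (c.YaH hy'Ya))) ?_ ?_
        · intro y hy
          have h6 : y'⁻¹ * y = y * y'⁻¹ := by
            rw [inv_mul_eq_iff_eq_mul, ← mul_assoc, c.Ya_comm F hi he hY hy hy'Ya, mul_inv_cancel_right]
          rw [mul_assoc, h6, ← mul_assoc, c.a1 y hy, mul_assoc]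
        · intro x hx
          have e6 : u * e * (y1 * s) * u⁻¹ = y1 * s * e := by
            rw [mul_assoc u, c.comm u c.uU _ (U1.mul_mem c.eU hys), mul_inv_cancel_right,
              c.comm e c.eU _ hys]
          rw [e5, e6]
          exact h3 x hx
      rw [h5, mul_inv_cancel_right] at e5
      have h6 : e * (y1 * s) = 1 := by
        rw [mul_assoc] at e5
        exact mul_eq_left.1 e5.symm
      rw [← c.invU hys]
      exact (eq_inv_of_mul_eq_one_left h6).symm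
  rw [hes] at hsE
  -- the conjugates of `e` under `C_H(p)` are in `Y`
  have h5 : ∀ k ∈ H, k * p = p * k → k * e * k⁻¹ ∈ Y := by
    intro k hk hkp
    have h6 := hA _ (c.U1U (c.ptU hk)) (hM k hkp e hsE)
    by_contra h7
    have h8 := c.a2 _ (c.ptU hk) h7
    rw [h6, mul_inv_cancel_right] at h8
    have h9 : e = 1 := mul_eq_left.1 h8.symm
    exact c.eT (by rw [h9]; exact one_mem _)
  -- the subgroup `A0`
  set S0 : Set G := {x | ∃ k ∈ H, k * p = p * k ∧ x = k * e * k⁻¹} with hS0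
  have hS0U : ∀ x ∈ S0, x ∈ U1 := by
    rintro x ⟨k, hk, -, rfl⟩; exact c.ptU hk
  have hA0U : ∀ x ∈ closure S0, x ∈ U1 := fun x hx => (closure_le U1).2 hS0U hx
  have hpe : B p e = 1 := by
    rw [F.symm p hpU e c.eU]; exact (c.mem_Y he hpU).1 hpY
  have hiso1 : ∀ x ∈ S0, ∀ y ∈ S0, B x y = 1 := by
    rintro x ⟨k, hk, hkp, rfl⟩ y ⟨l, hl, hlp, rfl⟩
    have h7 : l * e * l⁻¹ = k * ((k⁻¹ * l) * e * (k⁻¹ * l)⁻¹) * k⁻¹ := by group
    have hkl : (k⁻¹ * l) * p = p * (k⁻¹ * l) := by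
      have h8 : k⁻¹ * p = p * k⁻¹ := by
        rw [inv_mul_eq_iff_eq_mul, ← mul_assoc, hkp, mul_inv_cancel_right]
      rw [mul_assoc, hlp, ← mul_assoc, h8, mul_assoc]
    have hklH := H.mul_mem (H.inv_mem hk) hl
    rw [h7, hi k hk e c.eU _ (c.ptU hklH)]
    exact (c.mem_Y he (c.ptU hklH)).1 (h5 _ hklH hkl)
  have hiso : ∀ x ∈ closure S0, ∀ y ∈ closure S0, B x y = 1 := by
    have h6 : ∀ x ∈ S0, ∀ y ∈ closure S0, B x y = 1 := fun x hx y hy =>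
      (F.eq_one_of_closure hS0U (hS0U x hx) (hiso1 x hx) hy).2
    intro x hx y hy
    rw [F.symm x (hA0U x hx) y (hA0U y hy)]
    refine (F.eq_one_of_closure hS0U (hA0U y hy) (fun z hz => ?_) hx).2
    rw [F.symm y (hA0U y hy) z (hS0U z hz)]
    exact h6 z hz y hy
  have hperp : ∀ x ∈ closure S0, B p x = 1 := by
    intro x hx
    refine (F.eq_one_of_closure hS0U hpU ?_ hx).2
    rintro y ⟨k, hk, hkp, rfl⟩
    have h6 : k * p * k⁻¹ = p := by rw [hkp, mul_inv_cancel_right]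
    have h7 := hi k hk p hpU e c.eU
    rw [h6] at h7
    rw [h7, hpe]
  -- `C_H(p)` normalises `A0`
  have hnA : ∀ k ∈ H, k * p = p * k → ∀ x ∈ closure S0, k * x * k⁻¹ ∈ closure S0 := by
    intro k hk hkp x hx
    refine closure_induction (p := fun x _ => k * x * k⁻¹ ∈ closure S0) ?_ ?_ ?_ ?_ hx
    · rintro x ⟨l, hl, hlp, rfl⟩
      refine subset_closure ⟨k * l, H.mul_mem hk hl, ?_, by group⟩
      rw [mul_assoc, hlp, ← mul_assoc, hkp, mul_assoc]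
    · rw [mul_one, mul_inv_cancel]; exact one_mem _
    · intro x y _ _ hx hy
      have e6 : k * (x * y) * k⁻¹ = (k * x * k⁻¹) * (k * y * k⁻¹) := by group
      rw [e6]; exact mul_mem hx hy
    · intro x _ hx
      have e6 : k * x⁻¹ * k⁻¹ = (k * x * k⁻¹)⁻¹ := by group
      rw [e6]; exact inv_mem hx
  have habs : ∀ q ∈ Pt e H, B p q = 1 → (∃ x ∈ closure S0, B q x = -1) → q ∈ closure S0 := by
    rintro q ⟨l, hl, rfl⟩ hpq ⟨x, hx, hqx⟩
    have hlH : l * a * l⁻¹ ∈ H := H.mul_mem (H.mul_mem hl c.aH) (H.inv_mem hl)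
    have h6 : (l * a * l⁻¹) * p = p * (l * a * l⁻¹) := by
      rcases c.tr_act hi he hl hpU with ⟨-, h7⟩ | ⟨h7, -⟩
      · exact mul_inv_eq_iff_eq_mul.1 h7
      · rw [F.symm _ (c.ptU hl) _ hpU, hpq] at h7; exact absurd h7.symm neg_ne
    have h7 := hnA _ hlH h6 x hx
    rcases c.tr_act hi he hl (hA0U x hx) with ⟨h8, -⟩ | ⟨-, h8⟩
    · rw [hqx] at h8; exact absurd h8 neg_ne
    · rw [h8] at h7
      have e6 : l * e * l⁻¹ = x⁻¹ * (x * (l * e * l⁻¹)) := by group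
      rw [e6]; exact mul_mem (inv_mem hx) h7
  have heS : e ∈ closure S0 := subset_closure ⟨1, H.one_mem, by group, by group⟩
  rcases F.iso_le hpP hA0U habs hiso heS with h6 | h6
  · obtain ⟨x, hx, hxY⟩ := c.ne
    exact hxY ((c.mem_Y he hx).2 (h6 x hx))
  · have h7 := c.hc F hi he p hpP (by rw [c.comm p hpU e c.eU]; exact h6)
    exact c.eT (by rw [← h7]; exact hpT)

end withB

/-- **(8) - (10)**: the symplectic case does not occur. -/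
theorem false : False := by
  obtain ⟨B, F, hi, he⟩ := c.exists_B
  set B0 : Subgroup G := closure {p | p ∈ Pt e H ∧ p ∈ W} with hB0
  have hsub : ∀ x ∈ B0, x ∈ Y := by
    intro x hx
    refine (closure_le Y).2 ?_ hx
    rintro p ⟨hp, hpW⟩
    have hpU := c.pt_le hp
    by_contra h
    have h1 := c.a2 p hpU h
    rw [c.Wa p hpW, mul_inv_cancel_right] at h1
    have h2 : e = 1 := mul_eq_left.1 h1.symm
    exact c.eT (by rw [h2]; exact one_mem _)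
  have hBW : ∀ x ∈ B0, x ∈ W := fun x hx => (closure_le W).2 (fun p hp => hp.2) hx
  have habs : ∀ p ∈ Pt e H, B e p = 1 → (∃ b ∈ B0, B p b = -1) → p ∈ B0 := by
    rintro p ⟨l, hl, rfl⟩ hep ⟨b, hb, hpb⟩
    have hpU := c.ptU hl
    have hlH : l * a * l⁻¹ ∈ H := H.mul_mem (H.mul_mem hl c.aH) (H.inv_mem hl)
    have h6 : (l * a * l⁻¹) * e = e * (l * a * l⁻¹) := by
      rcases c.tr_act hi he hl c.eU with ⟨-, h7⟩ | ⟨h7, -⟩
      · exact mul_inv_eq_iff_eq_mul.1 h7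
      · rw [F.symm _ hpU _ c.eU, hep] at h7; exact absurd h7.symm neg_ne
    have h7 : (l * a * l⁻¹) * b * (l * a * l⁻¹)⁻¹ ∈ B0 := by
      refine closure_induction (p := fun b _ => (l * a * l⁻¹) * b * (l * a * l⁻¹)⁻¹ ∈ B0) ?_ ?_ ?_ ?_ hb
      · rintro q ⟨hq, hqW⟩
        exact subset_closure ⟨Tr.pt_conj hq hlH, c.nW _ hlH h6 q hqW⟩
      · rw [mul_one, mul_inv_cancel]; exact one_mem _
      · intro x y _ _ hx hy
        have e6 : (l * a * l⁻¹) * (x * y) * (l * a * l⁻¹)⁻¹ =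
            ((l * a * l⁻¹) * x * (l * a * l⁻¹)⁻¹) * ((l * a * l⁻¹) * y * (l * a * l⁻¹)⁻¹) := by group
        rw [e6]; exact mul_mem hx hy
      · intro x _ hx
        have e6 : (l * a * l⁻¹) * x⁻¹ * (l * a * l⁻¹)⁻¹ = ((l * a * l⁻¹) * x * (l * a * l⁻¹)⁻¹)⁻¹ := by group
        rw [e6]; exact inv_mem hx
    rcases c.tr_act hi he hl (c.YU (hsub b hb)) with ⟨h8, -⟩ | ⟨-, h8⟩
    · rw [hpb] at h8; exact absurd h8 neg_ne
    · rw [h8] at h7
      have e6 : l * e * l⁻¹ = b⁻¹ * (b * (l * e * l⁻¹)) := by group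
      rw [e6]; exact mul_mem (inv_mem hb) h7
  have hc := c.hc F hi he
  have heB : e ∈ B0 := subset_closure ⟨Tr.pt_self, c.eW⟩
  have hB : ∀ b ∈ B0, b ∈ U1 ∧ B e b = 1 := fun b hb =>
    ⟨c.YU (hsub b hb), (c.mem_Y he (c.YU (hsub b hb))).1 (hsub b hb)⟩
  have hgen : B0 ≤ closure {p | p ∈ Pt e H ∧ p ∈ B0} :=
    closure_mono fun p hp => ⟨hp.1, subset_closure hp⟩
  obtain ⟨p0, hp0, hp0W, hp0e⟩ := c.hne
  have hne : ∃ p ∈ Pt e H, p ∈ B0 ∧ p ≠ e := ⟨p0, hp0, subset_closure ⟨hp0, hp0W⟩, hp0e⟩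
  by_cases hfull : ∀ y ∈ U1, B e y = 1 → y ∈ B0
  · have hY : ∀ y ∈ Y, y ∈ W := fun y hy => hBW y (hfull y (c.YU hy) ((c.mem_Y he (c.YU hy)).1 hy))
    exact F.absurd' Tr.pt_self hc heB hB hgen habs hne (c.nine F hi he hY)
      fun _ y hy h1 => c.eight F hi he hY hy h1
  · refine F.absurd' Tr.pt_self hc heB hB hgen habs hne (T := ⊥) ?_ fun h => absurd h hfull
    rintro p ⟨k, hk, rfl⟩ h1
    rw [mem_bot] at h1
    have h2 : e = 1 := by
      have : e = k⁻¹ * (k * e * k⁻¹) * k := by group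
      rw [this, h1]; group
    exact c.eT (by rw [h2]; exact one_mem _)

end Glue

end Cfsg.Agent.Omega.NOThreeL.RTools.SpGlue
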