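import Mathlib

/-!
# NO-3L, box R, `q = 2`, `k = 1`: the symplectic form (#17122 (3)(a)-(d'), (6), (7), (10)), pure algebra

`U` an elementary abelian 2-subgroup, `PP ⊆ U` a generating set of points, `B : G → G → ℤˣ` an alternating form on
`U` such that `p * p' ∈ PP` for non-perpendicular `p, p' ∈ PP` and the graph "not perpendicular" on `PP` is
connected.

* `Form.mem_closure` : (b) `e^⊥` is generated by `PP ∩ e^⊥`;
* `Form.rad_or` : a vector perpendicular to `e^⊥` is in `⟨e⟩ Rad`;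
* `Form.iso_le` : (d') a totally isotropic subgroup of `e^⊥` which absorbs the points of `e^⊥` is in `⟨e⟩ Rad`;
* `Form.full` : (7) a subgroup of `e^⊥` generated by points, absorbing the points of `e^⊥`, not totally isotropic,
  is `e^⊥`;
* `Form.perp_of_T` : (10) if `e^⊥ = ⟨e⟩T` and `T` contains no point then the points of `e^⊥` are perpendicular;
* `Form.absurd'` : the end.
-/

set_option autoImplicit false

namespace Cfsg.Agent.Omega.NOThreeL.RTools.Symp

open Subgroup

variable {G : Type*} [Group G]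

theorem units_mul_self (a : ℤˣ) : a * a = 1 := by
  rcases Int.units_eq_one_or a with h | h <;> simp [h]

/-- An alternating form with a connected set of points. -/
structure Form (U : Subgroup G) (PP : Set G) (B : G → G → ℤˣ) : Prop where
  sq : ∀ u ∈ U, u * u = 1
  comm : ∀ u ∈ U, ∀ v ∈ U, u * v = v * u
  sub : ∀ p ∈ PP, p ∈ U
  gen : U ≤ closure PP
  mul : ∀ u ∈ U, ∀ v ∈ U, ∀ v' ∈ U, B u (v * v') = B u v * B u v'
  symm : ∀ u ∈ U, ∀ v ∈ U, B u v = B v u
  self : ∀ u ∈ U, B u u = 1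
  tr : ∀ p ∈ PP, ∀ p' ∈ PP, B p p' = -1 → p * p' ∈ PP
  conn : ∀ A : Set G, A ⊆ PP → A.Nonempty → (∀ p ∈ A, ∀ p' ∈ PP, B p p' = -1 → p' ∈ A) → A = PP

namespace Form

variable {U : Subgroup G} {PP : Set G} {B : G → G → ℤˣ} (F : Form U PP B)
include F

theorem inv {u : G} (hu : u ∈ U) : u⁻¹ = u := inv_eq_of_mul_eq_one_left (F.sq u hu)

theorem one_right {u : G} (hu : u ∈ U) : B u 1 = 1 := by
  have h := F.mul u hu 1 U.one_mem 1 U.one_mem
  rw [mul_one, units_mul_self] at h
  exact h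

theorem one_left {u : G} (hu : u ∈ U) : B 1 u = 1 := by
  rw [F.symm 1 U.one_mem u hu, F.one_right hu]

theorem mul_left {u v w : G} (hu : u ∈ U) (hv : v ∈ U) (hw : w ∈ U) : B (u * v) w = B u w * B v w := by
  rw [F.symm _ (U.mul_mem hu hv) w hw, F.mul w hw u hu v hv, F.symm w hw u hu, F.symm w hw v hv]

theorem inv_right {u v : G} (hv : v ∈ U) : B u v⁻¹ = B u v := by rw [F.inv hv]

omit F in
theorem ne_of {a : ℤˣ} (h : ¬ a = 1) : a = -1 := (Int.units_eq_one_or a).resolve_left h

/-- a condition `B u = 1` on generators extends -/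
theorem eq_one_of_closure {A : Set G} (hA : ∀ a ∈ A, a ∈ U) {u : G} (hu : u ∈ U) (h : ∀ a ∈ A, B u a = 1) {x : G}
    (hx : x ∈ closure A) : x ∈ U ∧ B u x = 1 := by
  refine closure_induction (p := fun x _ => x ∈ U ∧ B u x = 1) ?_ ?_ ?_ ?_ hx
  · exact fun a ha => ⟨hA a ha, h a ha⟩
  · exact ⟨U.one_mem, F.one_right hu⟩
  · rintro x y _ _ ⟨hx, h1⟩ ⟨hy, h2⟩
    exact ⟨U.mul_mem hx hy, by rw [F.mul u hu x hx y hy, h1, h2, mul_one]⟩
  · rintro x _ ⟨hx, h1⟩
    exact ⟨U.inv_mem hx, by rw [F.inv_right hx, h1]⟩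

/-- (b): `e^⊥` is generated by the points in it. -/
theorem mem_closure {e : G} (he : e ∈ PP) {u : G} (hu : u ∈ U) (h : B e u = 1) :
    u ∈ closure {p | p ∈ PP ∧ B e p = 1} := by
  have heU := F.sub e he
  by_cases hex : ∃ p ∈ PP, B e p = -1
  · obtain ⟨p, hp, hp1⟩ := hex
    have hpU := F.sub p hp
    have heL : e ∈ closure {p | p ∈ PP ∧ B e p = 1} := subset_closure ⟨he, F.self e heU⟩
    -- the claim for two points
    have key : ∀ x ∈ PP, B e x = -1 → x * p ∈ closure {p | p ∈ PP ∧ B e p = 1} := by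
      intro x hx hx1
      have hxU := F.sub x hx
      by_cases hxp : B x p = 1
      · have h1 : B x e = -1 := by rw [F.symm x hxU e heU, hx1]
        have h2 : x * e ∈ PP := F.tr x hx e he h1
        have h3 : B (x * e) p = -1 := by rw [F.mul_left hxU heU hpU, hxp, hp1, one_mul]
        have h4 : x * e * p ∈ PP := F.tr _ h2 p hp h3
        have h5 : B e (x * e * p) = 1 := by
          rw [F.mul e heU _ (U.mul_mem hxU heU) p hpU, F.mul e heU x hxU e heU, hx1, F.self e heU, hp1]
          decide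
        have h6 : x * p = x * e * p * e := by
          have : e * p * e = p := by rw [F.comm e heU p hpU, mul_assoc, F.sq e heU, mul_one]
          rw [mul_assoc x e p, mul_assoc, this]
        rw [h6]
        exact mul_mem (subset_closure ⟨h4, h5⟩) heL
      · have h1 := ne_of hxp
        exact subset_closure ⟨F.tr x hx p hp h1, by
          rw [F.mul e heU x hxU p hpU, hx1, hp1]; decide⟩
    have main : ∀ x ∈ closure PP, x ∈ U ∧ (B e x = 1 → x ∈ closure {p | p ∈ PP ∧ B e p = 1}) ∧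
        (B e x = -1 → x * p ∈ closure {p | p ∈ PP ∧ B e p = 1}) := by
      intro x hx
      refine closure_induction (p := fun x _ => x ∈ U ∧ (B e x = 1 → x ∈ closure {p | p ∈ PP ∧ B e p = 1}) ∧
        (B e x = -1 → x * p ∈ closure {p | p ∈ PP ∧ B e p = 1})) ?_ ?_ ?_ ?_ hx
      · exact fun x hx => ⟨F.sub x hx, fun h => subset_closure ⟨hx, h⟩, key x hx⟩
      · refine ⟨U.one_mem, fun _ => one_mem _, fun h => ?_⟩
        rw [F.one_right heU] at h
        exact absurd h (by decide)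
      · rintro x y _ _ ⟨hx, hx1, hx2⟩ ⟨hy, hy1, hy2⟩
        refine ⟨U.mul_mem hx hy, fun h => ?_, fun h => ?_⟩
        · rw [F.mul e heU x hx y hy] at h
          by_cases h1 : B e x = 1
          · rw [h1, one_mul] at h
            exact mul_mem (hx1 h1) (hy1 h)
          · have h2 := ne_of h1
            have h3 : B e y = -1 := by
              rw [h2] at h
              rcases Int.units_eq_one_or (B e y) with h4 | h4
              · rw [h4] at h; exact absurd h (by decide)
              · exact h4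
            have h5 := mul_mem (hx2 h2) (hy2 h3)
            have h6 : x * p * (y * p) = x * y := by
              rw [F.comm y hy p hpU, mul_assoc x p, ← mul_assoc p p y, F.sq p hpU, one_mul]
            rwa [h6] at h5
        · rw [F.mul e heU x hx y hy] at h
          by_cases h1 : B e x = 1
          · rw [h1, one_mul] at h
            rw [mul_assoc]
            exact mul_mem (hx1 h1) (hy2 h)
          · have h2 := ne_of h1
            have h3 : B e y = 1 := by
              rw [h2] at h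
              rcases Int.units_eq_one_or (B e y) with h4 | h4
              · exact h4
              · rw [h4] at h; exact absurd h (by decide)
            have h5 := mul_mem (hx2 h2) (hy1 h3)
            have h6 : x * p * y = x * y * p := by
              rw [mul_assoc, F.comm p hpU y hy, mul_assoc]
            rwa [h6] at h5
      · rintro x _ ⟨hx, h⟩
        rw [F.inv hx]
        exact ⟨hx, h⟩
    exact (main u (F.gen hu)).2.1 h
  · push Not at hex
    refine closure_mono (fun p hp => ?_) (F.gen hu)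
    refine ⟨hp, ?_⟩
    rcases Int.units_eq_one_or (B e p) with h4 | h4
    · exact h4
    · exact absurd h4 (hex p hp)

/-- `e^{⊥⊥} = ⟨e⟩ Rad`. -/
theorem rad_or {e x : G} (he : e ∈ U) (hx : x ∈ U) (h : ∀ y ∈ U, B e y = 1 → B x y = 1) :
    (∀ y ∈ U, B x y = 1) ∨ ∀ y ∈ U, B (x * e) y = 1 := by
  by_cases h0 : ∀ y ∈ U, B x y = 1
  · exact Or.inl h0
  · right
    push Not at h0
    obtain ⟨y0, hy0, h1⟩ := h0
    have h1 := ne_of h1
    have h2 : B e y0 = -1 := ne_of fun h3 => by
      rw [h y0 hy0 h3] at h1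
      exact absurd h1 (by decide)
    intro y hy
    rw [F.mul_left hx he hy]
    by_cases h3 : B e y = 1
    · rw [h3, h y hy h3, one_mul]
    · have h3 := ne_of h3
      have h4 := h (y * y0) (U.mul_mem hy hy0) (by rw [F.mul e he y hy y0 hy0, h3, h2]; decide)
      rw [F.mul x hx y hy y0 hy0, h1] at h4
      have h5 : B x y = -1 := ne_of fun h6 => by rw [h6] at h4; exact absurd h4 (by decide)
      rw [h5, h3]
      decide

/-- points of `e^⊥` perpendicular to `x` ⟹ `x ∈ ⟨e⟩ Rad`. -/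
theorem rad_or' {e x : G} (he : e ∈ PP) (hx : x ∈ U) (h : ∀ p ∈ PP, B e p = 1 → B x p = 1) :
    (∀ y ∈ U, B x y = 1) ∨ ∀ y ∈ U, B (x * e) y = 1 :=
  F.rad_or (F.sub e he) hx fun y hy h1 =>
    (F.eq_one_of_closure (A := {p | p ∈ PP ∧ B e p = 1}) (fun a ha => F.sub a ha.1) hx
      (fun a ha => h a ha.1 ha.2) (F.mem_closure he hy h1)).2

/-- (d') -/
theorem iso_le {e : G} (he : e ∈ PP) {A : Subgroup G} (hA : ∀ a ∈ A, a ∈ U)
    (habs : ∀ p ∈ PP, B e p = 1 → (∃ a ∈ A, B p a = -1) → p ∈ A) (hiso : ∀ a ∈ A, ∀ b ∈ A, B a b = 1)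
    {a : G} (ha : a ∈ A) : (∀ y ∈ U, B a y = 1) ∨ ∀ y ∈ U, B (a * e) y = 1 := by
  refine F.rad_or' he (hA a ha) fun p hp h1 => ?_
  by_contra h2
  have h3 : B p a = -1 := by rw [F.symm p (F.sub p hp) a (hA a ha)]; exact ne_of h2
  have h4 := hiso p (habs p hp h1 ⟨a, ha, h3⟩) a ha
  rw [h3] at h4
  exact absurd h4 (by decide)

/-- (7) -/
theorem full {e : G} (he : e ∈ PP) (hc : ∀ p ∈ PP, (∀ y ∈ U, B (p * e) y = 1) → p = e) {B0 : Subgroup G}
    (heB : e ∈ B0) (hB : ∀ b ∈ B0, b ∈ U ∧ B e b = 1) (hgen : B0 ≤ closure {p | p ∈ PP ∧ p ∈ B0})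
    (habs : ∀ p ∈ PP, B e p = 1 → (∃ a ∈ B0, B p a = -1) → p ∈ B0) (hnot : ∃ x ∈ B0, ∃ y ∈ B0, B x y = -1)
    {u : G} (hu : u ∈ U) (h : B e u = 1) : u ∈ B0 := by
  have heU := F.sub e he
  -- a point of `B0` not perpendicular to `B0`
  obtain ⟨x1, hx1, hx1B, b1, hb1, hxb⟩ : ∃ x ∈ PP, x ∈ B0 ∧ ∃ b ∈ B0, B x b = -1 := by
    by_contra hcon
    push Not at hcon
    obtain ⟨x, hx, y, hy, hxy⟩ := hnot
    have h1 := (F.eq_one_of_closure (A := {p | p ∈ PP ∧ p ∈ B0}) (fun a ha => F.sub a ha.1) (hB y hy).1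
      (fun a ha => by
        rcases Int.units_eq_one_or (B a y) with h4 | h4
        · rw [F.symm y (hB y hy).1 a (F.sub a ha.1)]; exact h4
        · exact absurd h4 (hcon a ha.1 ha.2 y hy)) (hgen hx)).2
    rw [F.symm y (hB y hy).1 x (hB x hx).1, hxy] at h1
    exact absurd h1 (by decide)
  -- no point is in the radical
  have hrad : ∀ p ∈ PP, ¬ ∀ y ∈ U, B p y = 1 := by
    intro p hp hr
    have h1 : ({p} : Set G) = PP := F.conn {p} (by rintro _ rfl; exact hp) ⟨p, rfl⟩ (by
      rintro _ rfl p' hp' h2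
      rw [hr p' (F.sub p' hp')] at h2
      exact absurd h2 (by decide))
    have h2 : x1 = p := by
      have : x1 ∈ ({p} : Set G) := h1 ▸ hx1
      exact this
    rw [h2, hr b1 (hB b1 hb1).1] at hxb
    exact absurd hxb (by decide)
  -- `B0 ∩ B0^⊥`
  have hBB : ∀ y ∈ PP, y ∈ B0 → (∀ b ∈ B0, B y b = 1) → y = e := by
    intro y hy hyB h1
    rcases F.rad_or' he (F.sub y hy) (fun p hp hp1 => by
      by_cases h2 : ∃ b ∈ B0, B p b = -1
      · exact h1 p (habs p hp hp1 h2)
      · push Not at h2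
        rw [F.symm y (F.sub y hy) p (F.sub p hp)]
        rcases Int.units_eq_one_or (B p y) with h4 | h4
        · exact h4
        · exact absurd h4 (h2 y hyB)) with h2 | h2
    · exact absurd h2 (hrad y hy)
    · exact hc y hy h2
  -- the claim `P2 = {e}`
  have hP2 : ∀ y ∈ PP, B e y = 1 → (∀ b ∈ B0, B y b = 1) → y = e := by
    intro y0 hy0 hey0 hy0B
    by_contra hne0
    -- (8a)
    have h8a : ∀ w ∈ PP, B e w = -1 → ∀ x ∈ PP, x ∈ B0 → (∃ b ∈ B0, B x b = -1) → B w x = -1 →
        ∀ y ∈ PP, B e y = 1 → (∀ b ∈ B0, B y b = 1) → y ≠ e → B w y = 1 := by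
      intro w hw hew x hx hxB hxb' hwx y hy hey hyB hye
      by_contra hwy
      have hwy := ne_of hwy
      obtain ⟨b, hb, hxb⟩ := hxb'
      have hwU := F.sub w hw
      have hxU := F.sub x hx
      have hyU := F.sub y hy
      have hex : B e x = 1 := (hB x hxB).2
      have hyx : B y x = 1 := hyB x hxB
      have hxy : B x y = 1 := by rw [F.symm x hxU y hyU, hyx]
      have q1 : w * x ∈ PP := F.tr w hw x hx hwx
      have q1U := F.sub _ q1
      have q2 : w * x * y ∈ PP := F.tr _ q1 y hy (by rw [F.mul_left hwU hxU hyU, hwy, hxy, mul_one])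
      have q2U := F.sub _ q2
      have q3 : w * x * y * e ∈ PP := F.tr _ q2 e he (by
        rw [F.mul_left q1U hyU heU, F.mul_left hwU hxU heU, F.symm w hwU e heU, F.symm x hxU e heU,
          F.symm y hyU e heU, hew, hex, hey]
        decide)
      have q3U := F.sub _ q3
      have q4 : w * x * y * e * w ∈ PP := F.tr _ q3 w hw (by
        rw [F.mul_left q2U heU hwU, F.mul_left q1U hyU hwU, F.mul_left hwU hxU hwU, F.self w hwU,
          F.symm x hxU w hwU, F.symm y hyU w hwU, hwx, hwy, hew]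
        decide)
      have q5 : w * x * y * e * w = x * y * e := by
        have h1 : w * x * y * e = w * (x * y * e) := by group
        rw [h1, F.comm w hwU _ (U.mul_mem (U.mul_mem hxU hyU) heU), mul_assoc, F.sq w hwU, mul_one]
      rw [q5] at q4
      have hxyU : x * y ∈ U := U.mul_mem hxU hyU
      have q6 : B e (x * y * e) = 1 := by
        rw [F.mul e heU _ hxyU e heU, F.mul e heU x hxU y hyU, hex, hey, F.self e heU]
        decide
      have hbU := (hB b hb).1
      have q7 : B (x * y * e) b = -1 := by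
        rw [F.mul_left hxyU heU hbU, F.mul_left hxU hyU hbU, hxb, hyB b hb, (hB b hb).2]
        decide
      have q8 : x * y * e ∈ B0 := habs _ q4 q6 ⟨b, hb, q7⟩
      have q9 : y ∈ B0 := by
        have h1 : y = x⁻¹ * (x * y * e) * e⁻¹ := by group
        rw [h1]
        exact mul_mem (mul_mem (inv_mem hxB) q8) (inv_mem heB)
      exact hye (hBB y hy q9 hyB)
    -- (8b)
    obtain ⟨w1, hw1, hew1, x, hx, hxB, hxb', hw1x⟩ : ∃ w ∈ PP, B e w = -1 ∧ ∃ x ∈ PP, x ∈ B0 ∧
        (∃ b ∈ B0, B x b = -1) ∧ B w x = -1 := by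
      by_contra hcon
      push Not at hcon
      have h1 := F.conn {x | x ∈ PP ∧ x ∈ B0 ∧ ∃ b ∈ B0, B x b = -1} (fun x hx => hx.1)
        ⟨x1, hx1, hx1B, b1, hb1, hxb⟩ (by
          rintro p ⟨hp, hpB, hpb⟩ p' hp' h2
          have hep' : B e p' = 1 := by
            rcases Int.units_eq_one_or (B e p') with h4 | h4
            · exact h4
            · exact absurd (by rw [F.symm p' (F.sub p' hp') p (F.sub p hp), h2])
                (hcon p' hp' h4 p hp hpB hpb)
          have h3 : ∃ b ∈ B0, B p' b = -1 := ⟨p, hpB, by rw [F.symm p' (F.sub p' hp') p (F.sub p hp), h2]⟩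
          exact ⟨hp', habs p' hp' hep' h3, h3⟩)
      have h2 : e ∈ {x | x ∈ PP ∧ x ∈ B0 ∧ ∃ b ∈ B0, B x b = -1} := by rw [h1]; exact he
      obtain ⟨_, _, b, hb, h3⟩ := h2
      rw [(hB b hb).2] at h3
      exact absurd h3 (by decide)
    obtain ⟨w2, hw2, hew2, y, hy, hey, hyB, hye, hw2y⟩ : ∃ w ∈ PP, B e w = -1 ∧ ∃ y ∈ PP, B e y = 1 ∧
        (∀ b ∈ B0, B y b = 1) ∧ y ≠ e ∧ B w y = -1 := by
      by_contra hcon
      push Not at hcon
      have h1 := F.conn {y | y ∈ PP ∧ B e y = 1 ∧ (∀ b ∈ B0, B y b = 1) ∧ y ≠ e} (fun x hx => hx.1)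
        ⟨y0, hy0, hey0, hy0B, hne0⟩ (by
          rintro p ⟨hp, hep, hpb, hpe⟩ p' hp' h2
          have hep' : B e p' = 1 := by
            rcases Int.units_eq_one_or (B e p') with h4 | h4
            · exact h4
            · exact absurd (by rw [F.symm p' (F.sub p' hp') p (F.sub p hp), h2])
                (hcon p' hp' h4 p hp hep hpb hpe)
          refine ⟨hp', hep', fun b hb => ?_, ?_⟩
          · by_contra h3
            have h4 := hpb p' (habs p' hp' hep' ⟨b, hb, ne_of h3⟩)
            rw [h2] at h4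
            exact absurd h4 (by decide)
          · rintro rfl
            rw [F.symm p (F.sub p hp) p' heU, hep] at h2
            exact absurd h2 (by decide))
      have h2 : e ∈ {y | y ∈ PP ∧ B e y = 1 ∧ (∀ b ∈ B0, B y b = 1) ∧ y ≠ e} := by rw [h1]; exact he
      exact h2.2.2.2 rfl
    have hw1U := F.sub w1 hw1
    have hw2U := F.sub w2 hw2
    have hxU := F.sub x hx
    have hyU := F.sub y hy
    have hw1y : B w1 y = 1 := h8a w1 hw1 hew1 x hx hxB hxb' hw1x y hy hey hyB hye
    have hw2x : B w2 x = 1 := by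
      by_contra h1
      have h2 := h8a w2 hw2 hew2 x hx hxB hxb' (ne_of h1) y hy hey hyB hye
      rw [h2] at hw2y
      exact absurd hw2y (by decide)
    -- a point of `e^⊥` not perpendicular to `x` and `y`
    obtain ⟨q, hq, heq, hqx, hqy⟩ : ∃ q ∈ PP, B e q = 1 ∧ B q x = -1 ∧ B q y = -1 := by
      by_cases h12 : B w1 w2 = 1
      · have h1 : w2 * e ∈ PP := F.tr w2 hw2 e he (by rw [F.symm w2 hw2U e heU, hew2])
        have h1U := F.sub _ h1
        have h2 : w1 * (w2 * e) ∈ PP := F.tr w1 hw1 _ h1 (by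
          rw [F.mul w1 hw1U w2 hw2U e heU, h12, F.symm w1 hw1U e heU, hew1, one_mul])
        refine ⟨_, h2, ?_, ?_, ?_⟩
        · rw [F.mul e heU w1 hw1U _ h1U, F.mul e heU w2 hw2U e heU, hew1, hew2, F.self e heU]
          decide
        · rw [F.mul_left hw1U h1U hxU, F.mul_left hw2U heU hxU, hw1x, hw2x, (hB x hxB).2]
          decide
        · rw [F.mul_left hw1U h1U hyU, F.mul_left hw2U heU hyU, hw1y, hw2y, hey]
          decide
      · refine ⟨_, F.tr w1 hw1 w2 hw2 (ne_of h12), ?_, ?_, ?_⟩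
        · rw [F.mul e heU w1 hw1U w2 hw2U, hew1, hew2]
          decide
        · rw [F.mul_left hw1U hw2U hxU, hw1x, hw2x]
          decide
        · rw [F.mul_left hw1U hw2U hyU, hw1y, hw2y]
          decide
    have hqB : q ∈ B0 := habs q hq heq ⟨x, hxB, hqx⟩
    have h1 := hyB q hqB
    rw [F.symm y hyU q (F.sub q hq), hqy] at h1
    exact absurd h1 (by decide)
  -- the end
  refine (closure_le (K := B0)).2 ?_ (F.mem_closure he hu h)
  rintro p ⟨hp, hp1⟩
  by_cases h1 : ∃ b ∈ B0, B p b = -1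
  · exact habs p hp hp1 h1
  · push Not at h1
    have h2 := hP2 p hp hp1 fun b hb => by
      rcases Int.units_eq_one_or (B p b) with h4 | h4
      · exact h4
      · exact absurd h4 (h1 b hb)
    rw [h2]
    exact heB

/-- (10): if `e^⊥ = T ∪ Te` and `T` contains no point then the points of `e^⊥` are perpendicular. -/
theorem perp_of_T {e : G} (he : e ∈ PP) {T : Subgroup G} (hT : ∀ p ∈ PP, p ∉ T)
    (hTe : ∀ y ∈ U, B e y = 1 → y ∈ T ∨ y * e ∈ T) {p p' : G} (hp : p ∈ PP) (hp' : p' ∈ PP)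
    (h1 : B e p = 1) (h2 : B e p' = 1) : B p p' = 1 := by
  by_contra h3
  have heU := F.sub e he
  have hpU := F.sub p hp
  have hpU' := F.sub p' hp'
  have h4 := (hTe p hpU h1).resolve_left (hT p hp)
  have h5 := (hTe p' hpU' h2).resolve_left (hT p' hp')
  have h6 : p * e * (p' * e) = p * p' := by
    rw [F.comm p' hpU' e heU, mul_assoc p e, ← mul_assoc e e p', F.sq e heU, one_mul]
  have h7 := mul_mem h4 h5
  rw [h6] at h7
  exact hT _ (F.tr p hp p' hp' (ne_of h3)) h7

/-- **The end of the symplectic case**: (6), (7), (8), (10). -/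
theorem absurd' {e : G} (he : e ∈ PP) (hc : ∀ p ∈ PP, (∀ y ∈ U, B (p * e) y = 1) → p = e) {B0 : Subgroup G}
    (heB : e ∈ B0) (hB : ∀ b ∈ B0, b ∈ U ∧ B e b = 1) (hgen : B0 ≤ closure {p | p ∈ PP ∧ p ∈ B0})
    (habs : ∀ p ∈ PP, B e p = 1 → (∃ a ∈ B0, B p a = -1) → p ∈ B0) (hne : ∃ p ∈ PP, p ∈ B0 ∧ p ≠ e)
    {T : Subgroup G} (hT : ∀ p ∈ PP, p ∉ T)
    (hTe : (∀ y ∈ U, B e y = 1 → y ∈ B0) → ∀ y ∈ U, B e y = 1 → y ∈ T ∨ y * e ∈ T) : False := by
  have heU := F.sub e he
  -- `B0` is not totally isotropic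
  have hnot : ∃ x ∈ B0, ∃ y ∈ B0, B x y = -1 := by
    by_contra hcon
    push Not at hcon
    obtain ⟨p, hp, hpB, hpe⟩ := hne
    have hiso : ∀ a ∈ B0, ∀ b ∈ B0, B a b = 1 := fun a ha b hb => by
      rcases Int.units_eq_one_or (B a b) with h4 | h4
      · exact h4
      · exact absurd h4 (hcon a ha b hb)
    rcases F.iso_le he (fun a ha => (hB a ha).1) habs hiso hpB with h1 | h1
    · -- `p` in the radical
      have h2 : ({p} : Set G) = PP := F.conn {p} (by rintro _ rfl; exact hp) ⟨p, rfl⟩ (by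
        rintro _ rfl p' hp' h2
        rw [h1 p' (F.sub p' hp')] at h2
        exact absurd h2 (by decide))
      have h3 : e ∈ ({p} : Set G) := h2 ▸ he
      exact hpe h3.symm
    · exact hpe (hc p hp h1)
  have hfull : ∀ y ∈ U, B e y = 1 → y ∈ B0 := fun y hy h1 => F.full he hc heB hB hgen habs hnot hy h1
  have hperp := fun p hp p' hp' h1 h2 => F.perp_of_T he hT (hTe hfull) (p := p) (p' := p') hp hp' h1 h2
  obtain ⟨x, hx, y, hy, hxy⟩ := hnot
  have hxU := (hB x hx).1
  have hyU := (hB y hy).1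
  -- all points of `e^⊥` are perpendicular to `x`
  have h1 : ∀ p ∈ PP, B e p = 1 → B p x = 1 := fun p hp hp1 =>
    (F.eq_one_of_closure (A := {p | p ∈ PP ∧ B e p = 1}) (fun a ha => F.sub a ha.1) (F.sub p hp)
      (fun a ha => hperp p hp a ha.1 hp1 ha.2) (F.mem_closure he hxU (hB x hx).2)).2
  have h2 := (F.eq_one_of_closure (A := {p | p ∈ PP ∧ B e p = 1}) (fun a ha => F.sub a ha.1) hxU
      (fun a ha => by rw [F.symm x hxU a (F.sub a ha.1)]; exact h1 a ha.1 ha.2)
      (F.mem_closure he hyU (hB y hy).2)).2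
  rw [hxy] at h2
  exact absurd h2 (by decide)

end Form

end Cfsg.Agent.Omega.NOThreeL.RTools.Symp
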