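import Cfsg.Agent.Omega.NOThreeL.RTools.Symp

/-!
# NO-3L, box R, case (A), `q = 2`, `k = 1`, symplectic case: the end (helper858's text #17122, (8)-(10))

`U` (`= U#`) elementary abelian with an `H`-invariant alternating form `B`, `PP = e^H ⊆ U` the transvection centres,
`Y_e = e^⊥`, `T = U_e ∩ U_a ≤ Y_e` centralised by `X`, `g, u ∈ X`, `[u, y^g] ∈ y T` for `y ∈ Y_e`.

* `SympEnd.Dat` : the data; `Dat.eight` : (8), `Y_e = T ∪ e T` if `[Y_e, Y_a] = 1`; `Dat.nine` : (9), `PP ∩ T = ∅`;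
* `Dat.false_of` : the contradiction, from `B0 = ⟨PP ∩ W⟩` with `[B0, B0^g] = 1` (by `Symp.Form.absurd'`).
-/

set_option autoImplicit false

namespace Cfsg.Agent.Omega.NOThreeL.RTools.SympEnd

open Subgroup

universe u

variable {G : Type u} [Group G]

/-- The data: the form, the action of `H`, the three groups `U_e`, `U_a`, `U_{ea}` and the frame facts of (9). -/
structure Dat (H U : Subgroup G) (PP : Set G) (B : G → G → ℤˣ) (T X : Subgroup G) (e u g : G) : Prop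
    extends Symp.Form U PP B where
  norm : H ≤ normalizer (U : Set G)
  inv_form : ∀ h ∈ H, ∀ a ∈ U, ∀ b ∈ U, B (h * a * h⁻¹) (h * b * h⁻¹) = B a b
  /-- (3)(c) -/
  pp_rad : ∀ p ∈ PP, ∀ q ∈ PP, (∀ n ∈ U, B (p * q) n = 1) → p = q
  /-- the transvections -/
  tvp : ∀ q ∈ PP, ∃ t ∈ H, ∀ m ∈ U, (B q m = 1 → t * m * t⁻¹ = m) ∧ (B q m = -1 → t * m * t⁻¹ = m * q)
  /-- (0)(d) -/
  core : ∀ h ∈ H, (∀ m ∈ U, ∀ n ∈ U, B (h * m * h⁻¹ * m⁻¹) n = 1) →
    (∀ m ∈ U, (∀ n ∈ U, B m n = 1) → h * m * h⁻¹ = m) → ∀ m ∈ U, h * m * h⁻¹ = m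
  e_mem : e ∈ PP
  u_mem : u ∈ U
  u_ne : B e u = -1
  uX : u ∈ X
  gX : g ∈ X
  T_le : ∀ t ∈ T, t ∈ U ∧ B e t = 1
  T_cent : ∀ x ∈ X, ∀ t ∈ T, x * t = t * x
  e_not : e ∉ T
  /-- `Y_a ≤ H` -/
  ya : ∀ y ∈ U, B e y = 1 → g * y * g⁻¹ ∈ H
  /-- (4) -/
  star : ∀ y ∈ U, B e y = 1 → ∃ t ∈ T, u * (g * y * g⁻¹) * u⁻¹ * (g * y * g⁻¹)⁻¹ = y * t
  /-- `a = e^g` acts as the transvection with centre `e` -/
  tv : ∀ m ∈ U, (B e m = 1 → (g * e * g⁻¹) * m * (g * e * g⁻¹)⁻¹ = m) ∧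
    (B e m = -1 → (g * e * g⁻¹) * m * (g * e * g⁻¹)⁻¹ = m * e)
  /-- (9): `R = U_{C_G(p)}`, `z ε ∈ Z^h` is moved by `X` -/
  frame : ∀ p ∈ PP, p ∈ T → ∃ R : Subgroup G, (∀ a ∈ R, ∀ b ∈ R, a * b = b * a) ∧ X ≤ normalizer (R : Set G) ∧
    (∀ k ∈ H, k * p = p * k → k ∈ normalizer (R : Set G)) ∧
    ∃ z ∈ U, ∃ ε : G, (∀ m ∈ U, ε * m = m * ε) ∧ (∀ x ∈ X, ε * x = x * ε) ∧ z * ε ∈ R ∧
      ∃ x ∈ X, x * (z * ε) ≠ z * ε * x

theorem cases (a : ℤˣ) : a = 1 ∨ a = -1 := Int.units_eq_one_or a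

theorem neg_ne : (-1 : ℤˣ) ≠ 1 := by decide

namespace Dat

variable {H U : Subgroup G} {B : G → G → ℤˣ} {PP : Set G} {T X : Subgroup G} {e u g : G}

theorem conj_mem (d : Dat H U PP B T X e u g) {h m : G} (hh : h ∈ H) (hm : m ∈ U) : h * m * h⁻¹ ∈ U :=
  (mem_normalizer_iff.mp (d.norm hh) m).mp hm

theorem eM (d : Dat H U PP B T X e u g) : e ∈ U := d.sub e d.e_mem

/-- `[u, y'] ∈ {1, e}` for `y' ∈ Y_a` -/
theorem eight_aux (d : Dat H U PP B T X e u g)
    (hc : ∀ y ∈ U, B e y = 1 → ∀ y' ∈ U, B e y' = 1 → y * (g * y' * g⁻¹) = (g * y' * g⁻¹) * y) {y : G}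
    (hy : y ∈ U) (hey : B e y = 1) :
    u * (g * y * g⁻¹) * u⁻¹ * (g * y * g⁻¹)⁻¹ = 1 ∨ u * (g * y * g⁻¹) * u⁻¹ * (g * y * g⁻¹)⁻¹ = e := by
  have F := d.toForm
  set y' := g * y * g⁻¹ with hy'
  have hy'H : y' ∈ H := d.ya y hy hey
  have heM := d.eM
  have huM := d.u_mem
  have hcu : y' * u⁻¹ * y'⁻¹ ∈ U := d.conj_mem hy'H (inv_mem huM)
  have hsM : u * y' * u⁻¹ * y'⁻¹ ∈ U := by
    have e1 : u * y' * u⁻¹ * y'⁻¹ = u * (y' * u⁻¹ * y'⁻¹) := by group
    rw [e1]
    exact mul_mem huM hcu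
  set s := u * y' * u⁻¹ * y'⁻¹ with hs
  -- the action of `y'`
  have hyu : y' * u * y'⁻¹ = u * s := by
    have e1 : y' * u * y'⁻¹ = (y' * u⁻¹ * y'⁻¹)⁻¹ := by group
    have e2 : s = u * (y' * u⁻¹ * y'⁻¹) := by rw [hs]; group
    rw [e1, F.inv hcu, e2, ← mul_assoc, d.sq u huM, one_mul]
  have hyy : ∀ n ∈ U, B e n = 1 → y' * n * y'⁻¹ = n := by
    intro n hn hen
    rw [← hc n hn hen y hy hey, mul_inv_cancel_right]
  have hact : ∀ n ∈ U, (B e n = 1 → y' * n * y'⁻¹ = n) ∧ (B e n = -1 → y' * n * y'⁻¹ = n * s) := by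
    intro n hn
    refine ⟨hyy n hn, fun h1 => ?_⟩
    have h2 : B e (n * u) = 1 := by
      rw [d.mul e heM n hn u huM, h1, d.u_ne]; decide
    have h3 := hyy (n * u) (mul_mem hn huM) h2
    have e1 : y' * n * y'⁻¹ = (y' * (n * u) * y'⁻¹) * (y' * u * y'⁻¹)⁻¹ := by group
    rw [e1, h3, hyu, mul_inv_rev, F.inv hsM, F.inv huM]
    rw [d.comm s hsM u huM, mul_assoc, ← mul_assoc u, d.sq u huM, one_mul]
  -- `s ⊥ Y_e`
  have hperp : ∀ n ∈ U, B e n = 1 → B s n = 1 := by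
    intro n hn hen
    have h1 := d.inv_form y' hy'H u huM n hn
    rw [hyu, (hact n hn).1 hen, F.mul_left huM hsM hn] at h1
    exact mul_eq_left.1 h1
  rcases F.rad_or heM hsM hperp with hr | hr
  · -- `y'` is trivial
    left
    have h1 := d.core y' hy'H (fun m hm => by
      rcases cases (B e m) with h0 | h0
      · rw [(hact m hm).1 h0, mul_inv_cancel]
        exact fun n hn => F.one_left hn
      · rw [(hact m hm).2 h0, d.comm m hm s hsM, mul_inv_cancel_right]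
        exact hr) (fun m hm hm' => (hact m hm).1 (by
          rw [d.symm e heM m hm]; exact hm' e heM)) u huM
    rw [hyu] at h1
    exact (mul_eq_left.1 h1)
  · right
    -- `a y'` is trivial
    set a := g * e * g⁻¹ with ha
    have haH : a ∈ H := d.ya e heM (d.self e heM)
    have hact2 : ∀ n ∈ U, (B e n = 1 → (a * y') * n * (a * y')⁻¹ = n) ∧
        (B e n = -1 → (a * y') * n * (a * y')⁻¹ = n * (s * e)) := by
      intro n hn
      have e1 : (a * y') * n * (a * y')⁻¹ = a * (y' * n * y'⁻¹) * a⁻¹ := by group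
      refine ⟨fun h0 => ?_, fun h0 => ?_⟩
      · rw [e1, (hact n hn).1 h0, (d.tv n hn).1 h0]
      · have hes : B e s = 1 := by
          rw [d.symm e heM s hsM]
          exact hperp e heM (d.self e heM)
        have h2 : B e (n * s) = -1 := by
          rw [d.mul e heM n hn s hsM, h0, hes, mul_one]
        rw [e1, (hact n hn).2 h0, (d.tv _ (mul_mem hn hsM)).2 h2, mul_assoc]
    have hesM : s * e ∈ U := mul_mem hsM heM
    have h1 := d.core (a * y') (mul_mem haH hy'H) (fun m hm => by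
      rcases cases (B e m) with h0 | h0
      · rw [(hact2 m hm).1 h0, mul_inv_cancel]
        exact fun n hn => F.one_left hn
      · rw [(hact2 m hm).2 h0, d.comm m hm _ hesM, mul_inv_cancel_right]
        exact hr) (fun m hm hm' => (hact2 m hm).1 (by
          rw [d.symm e heM m hm]; exact hm' e heM)) u huM
    rw [(hact2 u huM).2 d.u_ne] at h1
    have h2 : s * e = 1 := (mul_eq_left.1 h1)
    rw [← F.inv heM]
    exact eq_inv_of_mul_eq_one_left h2

/-- (8): `Y_e = T ∪ e T` -/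
theorem eight (d : Dat H U PP B T X e u g)
    (hc : ∀ y ∈ U, B e y = 1 → ∀ y' ∈ U, B e y' = 1 → y * (g * y' * g⁻¹) = (g * y' * g⁻¹) * y) {y : G}
    (hy : y ∈ U) (hey : B e y = 1) : y ∈ T ∨ y * e ∈ T := by
  obtain ⟨t, ht, h1⟩ := d.star y hy hey
  rcases d.eight_aux hc hy hey with h2 | h2
  · left
    rw [h1] at h2
    rw [eq_inv_of_mul_eq_one_left h2]
    exact inv_mem ht
  · right
    rw [h1] at h2
    have h3 : y * e = t⁻¹ := by
      have e1 : y = e * t⁻¹ := by rw [← h2]; group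
      rw [d.comm y hy e d.eM, e1, ← mul_assoc, d.sq e d.eM, one_mul]
    rw [h3]
    exact inv_mem ht

/-- (9): `PP ∩ T = ∅` -/
theorem nine (d : Dat H U PP B T X e u g)
    (hc : ∀ y ∈ U, B e y = 1 → ∀ y' ∈ U, B e y' = 1 → y * (g * y' * g⁻¹) = (g * y' * g⁻¹) * y) {p : G}
    (hp : p ∈ PP) (hpT : p ∈ T) : False := by
  have F := d.toForm
  obtain ⟨R, hR, hX, hK, z, hz, ε, hεM, hεX, hzR, x, hx, hmv⟩ := d.frame p hp hpT
  have heM := d.eM
  have huM := d.u_mem
  set a := g * e * g⁻¹ with ha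
  have haH : a ∈ H := d.ya e heM (d.self e heM)
  -- `a` centralizes `p`
  have hpM := d.sub p hp
  have hap : a * p = p * a := by
    have h1 := (d.tv p hpM).1 (d.T_le p hpT).2
    exact mul_inv_eq_iff_eq_mul.1 h1
  have haR : a ∈ normalizer (R : Set G) := hK a haH hap
  have hεa : ε * a = a * ε := by
    rw [ha]
    have h1 := hεX g d.gX
    have h2 := hεX g⁻¹ (inv_mem d.gX)
    calc ε * (g * e * g⁻¹) = (ε * g) * e * g⁻¹ := by group
      _ = g * (ε * e) * g⁻¹ := by rw [h1]; group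
      _ = g * e * (ε * g⁻¹) := by rw [hεM e heM]; group
      _ = g * e * g⁻¹ * ε := by rw [h2]; group
  have hemv : e ≠ 1 := by
    intro h3
    have h4 := d.u_ne
    rw [h3, F.one_left huM] at h4
    exact absurd h4 (by decide)
  -- `e ∈ R` implies that `R ∩ U E` is perpendicular to `e`
  have key : e ∈ R → ∀ m ∈ U, m * ε ∈ R → B e m = 1 := by
    intro heR m hm hmR
    rcases cases (B e m) with h0 | h0
    · exact h0
    · exfalso
      have haR' : a ∈ R := (mem_normalizer_iff.mp (hX d.gX) e).mp heR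
      have h1 := hR a haR' _ hmR
      have h2 : a * m * a⁻¹ = m := by
        rw [mul_inv_eq_iff_eq_mul]
        have h3 : a * m * ε = m * a * ε := by
          calc a * m * ε = a * (m * ε) := by group
            _ = m * ε * a := h1
            _ = m * (ε * a) := by group
            _ = m * a * ε := by rw [hεa]; group
        exact mul_right_cancel h3
      rw [(d.tv m hm).2 h0] at h2
      exact hemv (mul_eq_left.1 h2)
  have key' : e ∈ R → ∀ m ∈ U, m ∈ R → B e m = 1 := by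
    intro heR m hm hmR
    rcases cases (B e m) with h0 | h0
    · exact h0
    · exfalso
      have haR' : a ∈ R := (mem_normalizer_iff.mp (hX d.gX) e).mp heR
      have h1 := hR a haR' _ hmR
      have h2 : a * m * a⁻¹ = m := by
        rw [mul_inv_eq_iff_eq_mul]; exact h1
      rw [(d.tv m hm).2 h0] at h2
      exact hemv (mul_eq_left.1 h2)
  -- `z ∈ Y_e`
  have hez : B e z = 1 := by
    rcases cases (B e z) with h0 | h0
    · exact h0
    · refine key ?_ z hz hzR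
      -- `[z ε, a] = e`
      have h1 : a * (z * ε) * a⁻¹ ∈ R := (mem_normalizer_iff.mp haR _).mp hzR
      have h2 : a * (z * ε) * a⁻¹ = z * e * ε := by
        calc a * (z * ε) * a⁻¹ = (a * z * a⁻¹) * (a * ε * a⁻¹) := by group
          _ = z * e * ε := by rw [(d.tv z hz).2 h0, ← hεa, mul_inv_cancel_right]
      have h3 : z * e * ε * (z * ε)⁻¹ ∈ R := mul_mem (h2 ▸ h1) (inv_mem hzR)
      have h4 : z * e * ε * (z * ε)⁻¹ = e := by
        rw [d.comm z hz e heM]; group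
      rwa [h4] at h3
  -- `z ∉ T`
  have hzT : z ∉ T := by
    intro hzT
    apply hmv
    calc x * (z * ε) = (x * z) * ε := by group
      _ = z * (x * ε) := by rw [d.T_cent x hx z hzT]; group
      _ = z * ε * x := by rw [← hεX x hx]; group
  -- `s = e ∈ R`
  have hsR : u * (g * z * g⁻¹) * u⁻¹ * (g * z * g⁻¹)⁻¹ ∈ R := by
    have h1 : g * (z * ε) * g⁻¹ ∈ R := (mem_normalizer_iff.mp (hX d.gX) _).mp hzR
    have h2 : u * (g * (z * ε) * g⁻¹) * u⁻¹ ∈ R := (mem_normalizer_iff.mp (hX d.uX) _).mp h1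
    have h3 := mul_mem h2 (inv_mem h1)
    have hg := hεX g⁻¹ (inv_mem d.gX)
    have hu := hεX u⁻¹ (inv_mem d.uX)
    have h4 : u * (g * (z * ε) * g⁻¹) * u⁻¹ * (g * (z * ε) * g⁻¹)⁻¹ =
        u * (g * z * g⁻¹) * u⁻¹ * (g * z * g⁻¹)⁻¹ := by
      have e1 : g * (z * ε) * g⁻¹ = (g * z * g⁻¹) * ε := by
        calc g * (z * ε) * g⁻¹ = g * z * (ε * g⁻¹) := by group
          _ = (g * z * g⁻¹) * ε := by rw [hg]; group
      rw [e1]
      calc u * (g * z * g⁻¹ * ε) * u⁻¹ * (g * z * g⁻¹ * ε)⁻¹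
          = u * (g * z * g⁻¹) * (ε * u⁻¹) * (g * z * g⁻¹ * ε)⁻¹ := by group
        _ = u * (g * z * g⁻¹) * u⁻¹ * (g * z * g⁻¹)⁻¹ := by rw [hu]; group
    rwa [h4] at h3
  obtain ⟨t, ht, h1⟩ := d.star z hz hez
  have heR : e ∈ R := by
    rcases d.eight_aux hc hz hez with h2 | h2
    · exfalso
      apply hzT
      rw [h1] at h2
      rw [eq_inv_of_mul_eq_one_left h2]
      exact inv_mem ht
    · rwa [h2] at hsR
  -- the group generated by the conjugates of `e` under `C_H(p)`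
  set A : Subgroup G := Subgroup.closure {x | ∃ k ∈ H, k * p = p * k ∧ x = k * e * k⁻¹} with hA
  have hAM : A ≤ U := by
    rw [hA, closure_le]
    rintro _ ⟨k, hk, -, rfl⟩
    exact d.conj_mem hk heM
  have hAR : A ≤ R := by
    rw [hA, closure_le]
    rintro _ ⟨k, hk, hkp, rfl⟩
    exact (mem_normalizer_iff.mp (hK k hk hkp) _).mp heR
  have hAinv : ∀ k ∈ H, k * p = p * k → ∀ a ∈ A, k * a * k⁻¹ ∈ A := by
    intro k hk hkp a ha
    induction ha using closure_induction with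
    | mem x hx =>
      obtain ⟨l, hl, hlp, rfl⟩ := hx
      refine subset_closure ⟨k * l, mul_mem hk hl, ?_, by group⟩
      calc k * l * p = k * (l * p) := by group
        _ = (k * p) * l := by rw [hlp]; group
        _ = p * (k * l) := by rw [hkp]; group
    | one => simp
    | mul x y _ _ hx hy =>
      have e1 : k * (x * y) * k⁻¹ = (k * x * k⁻¹) * (k * y * k⁻¹) := by group
      rw [e1]
      exact mul_mem hx hy
    | inv x _ hx =>
      have e1 : k * x⁻¹ * k⁻¹ = (k * x * k⁻¹)⁻¹ := by group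
      rw [e1]
      exact inv_mem hx
  have hAti : ∀ a ∈ A, ∀ b ∈ A, B a b = 1 := by
    intro a ha b hb
    induction ha using closure_induction with
    | mem x hx =>
      obtain ⟨l, hl, hlp, rfl⟩ := hx
      have hlp' : l⁻¹ * p = p * l⁻¹ := by
        calc l⁻¹ * p = l⁻¹ * (p * l) * l⁻¹ := by group
          _ = p * l⁻¹ := by rw [← hlp]; group
      have h2 : l⁻¹ * b * l⁻¹⁻¹ ∈ A := hAinv l⁻¹ (inv_mem hl) hlp' b hb
      have h3 := d.inv_form l hl e heM _ (hAM h2)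
      have e1 : l * (l⁻¹ * b * l⁻¹⁻¹) * l⁻¹ = b := by group
      rw [e1] at h3
      rw [h3]
      exact key' heR _ (hAM h2) (hAR h2)
    | one => exact F.one_left (hAM hb)
    | mul x y hx' hy' hx hy =>
      rw [F.mul_left (hAM hx') (hAM hy') (hAM hb), hx, hy, mul_one]
    | inv x hx' hx => rw [F.inv (hAM hx'), hx]
  have hAp : ∀ a ∈ A, B p a = 1 := by
    intro a ha
    rw [d.symm p hpM a (hAM ha)]
    induction ha using closure_induction with
    | mem x hx =>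
      obtain ⟨l, hl, hlp, rfl⟩ := hx
      have h3 := d.inv_form l hl e heM p hpM
      have e1 : l * p * l⁻¹ = p := by rw [hlp]; group
      rw [e1] at h3
      rw [h3]
      exact (d.T_le p hpT).2
    | one => exact F.one_left hpM
    | mul x y hx' hy' hx hy =>
      rw [F.mul_left (hAM hx') (hAM hy') hpM, hx, hy, mul_one]
    | inv x hx' hx => rw [F.inv (hAM hx'), hx]
  have heA : e ∈ A := subset_closure ⟨1, one_mem _, by simp, by simp⟩
  have habs : ∀ q ∈ PP, B p q = 1 → (∃ b ∈ A, B q b = -1) → q ∈ A := by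
    rintro q hq hpq ⟨b, hb, hqb⟩
    obtain ⟨t, ht, htv⟩ := d.tvp q hq
    have h1 : t * p * t⁻¹ = p := (htv p hpM).1 (by rw [d.symm q (d.sub q hq) p hpM]; exact hpq)
    have h2 : t * p = p * t := mul_inv_eq_iff_eq_mul.1 h1
    have h3 := hAinv t ht h2 b hb
    rw [(htv b (hAM hb)).2 hqb] at h3
    have h4 := mul_mem (inv_mem hb) h3
    rwa [inv_mul_cancel_left] at h4
  rcases F.iso_le hp (A := A) (fun a ha => hAM ha) habs hAti heA with h2 | h2
  · have h3 := h2 u huM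
    rw [d.u_ne] at h3
    exact absurd h3 (by decide)
  · have h3 := d.pp_rad e d.e_mem p hp h2
    exact d.e_not (h3 ▸ hpT)

/-- **The end** : (6)-(10) -/
theorem false_of (d : Dat H U PP B T X e u g) {B0 : Subgroup G} (heB : e ∈ B0)
    (hB : ∀ b ∈ B0, b ∈ U ∧ B e b = 1) (hgen : B0 ≤ closure {p | p ∈ PP ∧ p ∈ B0})
    (habs : ∀ p ∈ PP, B e p = 1 → (∃ a ∈ B0, B p a = -1) → p ∈ B0) (hne : ∃ p ∈ PP, p ∈ B0 ∧ p ≠ e)
    (h5 : ∀ y ∈ B0, ∀ y' ∈ B0, y * (g * y' * g⁻¹) = (g * y' * g⁻¹) * y) : False := by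
  have F := d.toForm
  by_cases hfull : ∀ y ∈ U, B e y = 1 → y ∈ B0
  · have hc : ∀ y ∈ U, B e y = 1 → ∀ y' ∈ U, B e y' = 1 → y * (g * y' * g⁻¹) = (g * y' * g⁻¹) * y :=
      fun y hy h1 y' hy' h2 => h5 y (hfull y hy h1) y' (hfull y' hy' h2)
    exact F.absurd' d.e_mem (fun p hp h => d.pp_rad p hp e d.e_mem h) heB hB hgen habs hne (T := T)
      (fun p hp hpT => d.nine hc hp hpT) (fun _ y hy h1 => d.eight hc hy h1)
  · -- `e^⊥ ≤ B0` by (6), (7)
    exfalso
    apply hfull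
    intro y hy h1
    refine F.full d.e_mem (fun p hp h => d.pp_rad p hp e d.e_mem h) heB hB hgen habs ?_ hy h1
    by_contra hcon
    push Not at hcon
    obtain ⟨p, hp, hpB, hpe⟩ := hne
    rcases F.iso_le d.e_mem (fun a ha => (hB a ha).1) habs (fun a ha b hb => by
        rcases cases (B a b) with h | h
        · exact h
        · exact absurd h (hcon a ha b hb)) hpB with h | h
    · -- `p` in the radical
      have h2 : ({p} : Set G) = PP := F.conn {p} (by rintro _ rfl; exact hp) ⟨p, rfl⟩ (by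
        rintro _ rfl p' hp' h2
        rw [h p' (F.sub p' hp')] at h2
        exact absurd h2 (by decide))
      have h3 : e ∈ ({p} : Set G) := h2 ▸ d.e_mem
      exact hpe h3.symm
    · exact hpe (d.pp_rad p hp e d.e_mem h)

end Dat

end Cfsg.Agent.Omega.NOThreeL.RTools.SympEnd
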