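import Cfsg.Agent.Omega.NOThreeL.RTools.Four
import Cfsg.Agent.Omega.NOThreeL.RTools.Cfg

/-!
# NO-3L, box R, case (A), `q = 2`, `k = 1` (#17122, helper858): L3, the three groups

Setting of `DataM` (THEOREM T modulo `T`), `U = U c` elementary abelian with a form (`Symp.Form`).

* `DataM.third` : `g = u u'`, `u' c = c''`, `u c'' = c'`: `[u, y^g] ∈ y T` for `y ∈ Y c`;
* `ThreeF` : the form is invariant under `D = C_G(V)`, `Y c = e^⊥`, `I` is the radical, `T ∩ I = 1`;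
* `ThreeF.perp_T`, `ThreeF.split`, `ThreeF.rad`, `ThreeF.comm_form`, `ThreeF.comm_eq`.
-/

set_option autoImplicit false

namespace Cfsg.Agent.Omega.NOThreeL.RTools

open Subgroup MulAction Pointwise
open Cfsg.Agent.Omega.NOThreeL.ThmT (conj_eq_of_mem_normalizer mem_normalizer_of_forall conj_mem_centralizer
  conj_centralizer_eq card_conj)
open Cfsg.Agent.Omega.NoFF.Basic (conj_conj mem_conj conj_le_iff conj_le_centralizer comm_symm
  comm_mono)

universe u v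

variable {G : Type u} [Group G]

/-! ### The third group -/

namespace DataM

variable {X : Type v} [MulAction G X] {z U : X → Subgroup G} {V N : Subgroup G} {L : Set X}
variable {opp : X → X → Prop} {c : X}
variable (D : DataM z U V N L opp c)
include D

/-- **`[u, y^g] ∈ y T`**, `g = u u'`. -/
theorem third {c' : X} (hc' : c' ∈ L) (hne : opp c c') {u u' : G} (hu : u ∈ U c) (hu' : u' ∈ U c')
    (hg : (u * u') • c = c') {y : G} (hy : y ∈ U c ⊓ centralizer (V : Set G)) :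
    (u * u') * y * (u * u')⁻¹ ∈ U c' ⊓ centralizer (V : Set G) ∧
    u * ((u * u') * y * (u * u')⁻¹) * u⁻¹ * ((u * u') * y * (u * u')⁻¹)⁻¹ * y ∈ T U L := by
  have hab : ∀ x : X, ∀ a ∈ U x, ∀ b ∈ U x, a * b = b * a := fun x a ha b hb =>
    (mem_centralizer_iff.mp (D.abel x hb) a ha)
  have huN : u ∈ N := D.UN hu
  have hu'N : u' ∈ N := D.U_le_N hc' hu'
  -- `y0 = [u', y] ∈ Y c'`
  set y0 : G := u' * y * u'⁻¹ * y⁻¹ with hy0
  have h0 : y0 ∈ U c' ⊓ centralizer (V : Set G) := by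
    have h1 := D.comm_mem hc' (mem_inf.mp hy).2 hu'
    -- `y u' y⁻¹ u'⁻¹` is the inverse
    have h2 : y0 = (y * u' * y⁻¹ * u'⁻¹)⁻¹ := by rw [hy0]; group
    rw [h2]
    exact inv_mem h1
  set κ : G := u * y0 * u⁻¹ * y0⁻¹ with hκ
  have hk : κ ∈ U c ⊓ centralizer (V : Set G) := by
    have h1 := D.comm_mem D.mem (mem_inf.mp h0).2 hu
    have h2 : κ = (y0 * u * y0⁻¹ * u⁻¹)⁻¹ := by rw [hκ]; group
    rw [h2]
    exact inv_mem h1
  have hv : (u * u') * y * (u * u')⁻¹ = κ * y0 * y := by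
    have h1 : (u * u') * y * (u * u')⁻¹ = u * (y0 * y) * u⁻¹ := by rw [hy0]; group
    have h2 : u * (y0 * y) * u⁻¹ = (u * y0 * u⁻¹) * (u * y * u⁻¹) := by group
    have h3 : u * y * u⁻¹ = y := by rw [hab c u hu y (mem_inf.mp hy).1, mul_inv_cancel_right]
    rw [h1, h2, h3, hκ]
    group
  have hvY : (u * u') * y * (u * u')⁻¹ ∈ U c' ⊓ centralizer (V : Set G) := by
    have h1 := D.conj_Y (N.mul_mem huN hu'N) c
    rw [hg] at h1
    rw [← h1, mem_conj]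
    have e1 : (u * u')⁻¹ * ((u * u') * y * (u * u')⁻¹) * (u * u') = y := by group
    rw [e1]
    exact hy
  refine ⟨hvY, ?_⟩
  rw [hv] at hvY ⊢
  -- `[u, v] = κ`
  have hcu : u * (κ * y0 * y) * u⁻¹ * (κ * y0 * y)⁻¹ = κ := by
    have h1 : u * κ = κ * u := hab c u hu κ (mem_inf.mp hk).1
    have h3 : y * u⁻¹ = u⁻¹ * y := by
      have h4 := hab c u hu y (mem_inf.mp hy).1
      calc y * u⁻¹ = u⁻¹ * (u * y) * u⁻¹ := by group
        _ = u⁻¹ * (y * u) * u⁻¹ := by rw [h4]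
        _ = u⁻¹ * y := by group
    calc u * (κ * y0 * y) * u⁻¹ * (κ * y0 * y)⁻¹
        = (u * κ) * y0 * (y * u⁻¹) * (κ * y0 * y)⁻¹ := by group
      _ = (κ * u) * y0 * (u⁻¹ * y) * (κ * y0 * y)⁻¹ := by rw [h1, h3]
      _ = κ * (u * y0 * u⁻¹ * y0⁻¹) * y0 * y * (κ * y0 * y)⁻¹ := by group
      _ = κ * κ * y0 * y * (κ * y0 * y)⁻¹ := by rw [← hκ]
      _ = κ := by group
  rw [hcu]
  -- `κ (y0 y y0⁻¹) ∈ U c ∩ U c' = T`
  have h1 : κ * (y0 * y * y0⁻¹) ∈ T U L := by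
    rw [← D.inf_eq D.mem hc' hne]
    refine mem_inf.mpr ⟨?_, ?_⟩
    · refine mul_mem (mem_inf.mp hk).1 ?_
      exact (mem_normalizer_iff.mp (D.norm_U (D.fix D.mem (mem_inf.mp h0).2)) y).mp (mem_inf.mp hy).1
    · have e1 : κ * (y0 * y * y0⁻¹) = (κ * y0 * y) * y0⁻¹ := by group
      rw [e1]
      exact mul_mem (mem_inf.mp hvY).1 (inv_mem (mem_inf.mp h0).1)
  -- `y0 y y0⁻¹ ∈ y T`
  have h2 : y⁻¹ * y0 * y⁻¹⁻¹ * y0⁻¹ ∈ T U L := D.comm_mem_T D.mem hc' hne (inv_mem hy) h0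
  have e2 : κ * y = (κ * (y0 * y * y0⁻¹)) * (y⁻¹ * y0 * y⁻¹⁻¹ * y0⁻¹)⁻¹ := by group
  rw [e2]
  exact mul_mem h1 (inv_mem h2)

end DataM

/-! ### The form -/

/-- Three groups with a form. -/
structure ThreeF {X : Type v} [MulAction G X] (z U : X → Subgroup G) (V N : Subgroup G) (L : Set X)
    (opp : X → X → Prop) (c : X) (PP : Set G) (B : G → G → ℤˣ) (e : G) (I : Subgroup G) : Prop
    extends DataM z U V N L opp c where
  form : Symp.Form (U c) PP B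
  inv_form : ∀ g ∈ centralizer (V : Set G), ∀ x ∈ U c, ∀ y ∈ U c, B (g * x * g⁻¹) (g * y * g⁻¹) = B x y
  he : e ∈ U c
  Ye : ∀ x ∈ U c, x ∈ centralizer (V : Set G) ↔ B e x = 1
  rad : ∀ x, x ∈ I ↔ x ∈ U c ∧ ∀ y ∈ U c, B x y = 1
  TI : ∀ x ∈ T U L, x ∈ I → x = 1

namespace ThreeF

variable {X : Type v} [MulAction G X] {z U : X → Subgroup G} {V N : Subgroup G} {L : Set X}
variable {opp : X → X → Prop} {c : X} {PP : Set G} {B : G → G → ℤˣ} {e : G} {I : Subgroup G}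
variable (D : ThreeF z U V N L opp c PP B e I)
include D

theorem cm_mem {y' u : G} (hy' : y' ∈ centralizer (V : Set G)) (hu : u ∈ U c) :
    cm y' u ∈ U c ⊓ centralizer (V : Set G) := D.toDataM.comm_mem D.mem hy' hu

/-- `[U c, Y c'] ⊥ T` -/
theorem perp_T {c' : X} (hc' : c' ∈ L) {y' u t : G} (hy' : y' ∈ U c' ⊓ centralizer (V : Set G))
    (hu : u ∈ U c) (ht : t ∈ T U L) : B (cm y' u) t = 1 := by
  have hyc := (mem_inf.mp hy').2
  have h1 := D.cm_mem hyc hu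
  have htc : t ∈ U c := DataM.T_le_U D.mem ht
  have h2 : y' * t * y'⁻¹ = t := by
    rw [← D.toDataM.T_comm hc' ht (mem_inf.mp hy').1, mul_inv_cancel_right]
  have h3 := D.inv_form y' hyc u hu t htc
  rw [h2, ← cm_mul y' u, D.form.mul_left (mem_inf.mp h1).1 hu htc] at h3
  exact mul_eq_right.mp h3

variable [Finite G]

/-- `Y c ≤ T T^⊥` -/
theorem split {c' : X} (hc' : c' ∈ L) (hne : opp c c') {u : G} (hu : u ∈ U c)
    (huV : u ∉ centralizer (V : Set G)) {x : G} (hx : x ∈ U c ⊓ centralizer (V : Set G)) :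
    ∃ s ∈ T U L, ∃ t' ∈ U c' ⊓ centralizer (V : Set G), x = cm t' u * s := by
  obtain ⟨t', ht', s, hs, h1⟩ := D.toDataM.star hu huV hc' hne hx
  have h2 : cm t'⁻¹ u = x * s := by
    have h3 : cm t'⁻¹ u = (t'⁻¹ * u * t') * u⁻¹ := by rw [cm_def]; group
    rw [h3, h1]
    have hsc : s ∈ U c := DataM.T_le_U D.mem hs
    have h4 := D.form.comm u hu (x * s) ((U c).mul_mem (mem_inf.mp hx).1 hsc)
    calc u * x * s * u⁻¹ = u * (x * s) * u⁻¹ := by group
      _ = (x * s) * u * u⁻¹ := by rw [h4]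
      _ = x * s := by group
  exact ⟨s⁻¹, inv_mem hs, t'⁻¹, inv_mem ht', by rw [h2]; group⟩

/-- `T ∩ T^⊥ ≤ ⟨e⟩ I` -/
theorem rad_T {c' : X} (hc' : c' ∈ L) (hne : opp c c') {u : G} (hu : u ∈ U c)
    (huV : u ∉ centralizer (V : Set G)) {w : G} (hw : w ∈ T U L) (hwT : ∀ t ∈ T U L, B w t = 1) :
    w = 1 ∨ w * e ∈ I := by
  have hwU : w ∈ U c := DataM.T_le_U D.mem hw
  rcases D.form.rad_or D.he hwU (fun y hy hey => by
    obtain ⟨s, hs, t', ht', rfl⟩ := D.split hc' hne hu huV (mem_inf.mpr ⟨hy, (D.Ye y hy).mpr hey⟩)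
    have hsU : s ∈ U c := DataM.T_le_U D.mem hs
    have hr := (mem_inf.mp (D.cm_mem (mem_inf.mp ht').2 hu)).1
    rw [D.form.mul w hwU _ hr s hsU, hwT s hs, mul_one, D.form.symm w hwU _ hr]
    exact D.perp_T hc' ht' hu hw) with h | h
  · exact Or.inl (D.TI w hw ((D.rad w).mpr ⟨hwU, h⟩))
  · exact Or.inr ((D.rad _).mpr ⟨(U c).mul_mem hwU D.he, h⟩)

omit [Finite G] in
theorem cm_mem_T {c' : X} (hc' : c' ∈ L) (hne : opp c c') {y y' : G}
    (hy : y ∈ U c ⊓ centralizer (V : Set G)) (hy' : y' ∈ U c' ⊓ centralizer (V : Set G)) :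
    cm y' y ∈ T U L := by
  have h5 := D.toDataM.comm_mem_T D.mem hc' hne hy hy'
  have h6 : cm y' y = (y * y' * y⁻¹ * y'⁻¹)⁻¹ := by rw [cm_def]; group
  rw [h6]
  exact inv_mem h5

omit [Finite G] in
/-- isometry: `(u, [y', y]) = ([y', u], y)` -/
theorem comm_form {c' : X} (hc' : c' ∈ L) (hne : opp c c') {u y y' : G} (hu : u ∈ U c)
    (hy : y ∈ U c ⊓ centralizer (V : Set G)) (hy' : y' ∈ U c' ⊓ centralizer (V : Set G)) :
    B u (cm y' y) = B (cm y' u) y := by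
  have hyc := (mem_inf.mp hy').2
  have h1 := (mem_inf.mp (D.cm_mem hyc hu)).1
  have h2 := (mem_inf.mp (D.cm_mem hyc (mem_inf.mp hy).1)).1
  have hyU := (mem_inf.mp hy).1
  have h3 := D.inv_form y' hyc u hu y hyU
  have h4 := D.cm_mem_T hc' hne hy hy'
  rw [← cm_mul y' u, ← cm_mul y' y, D.form.mul_left h1 hu ((U c).mul_mem h2 hyU),
    D.form.mul _ h1 _ h2 _ hyU, D.form.mul _ hu _ h2 _ hyU, D.perp_T hc' hy' hu h4, one_mul] at h3
  have h01 : ∀ p q r : ℤˣ, p * (q * r) = r → q = p := by decide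
  exact h01 _ _ _ h3

/-- **`[y', y] = z₀^{([y', u], y)}`**, `z₀ ∈ e I`. -/
theorem comm_cases {c' : X} (hc' : c' ∈ L) (hne : opp c c') {u y y' : G} (hu : u ∈ U c)
    (huV : u ∉ centralizer (V : Set G)) (hy : y ∈ U c ⊓ centralizer (V : Set G))
    (hy' : y' ∈ U c' ⊓ centralizer (V : Set G)) :
    (cm y' y = 1 ∧ B (cm y' u) y = 1) ∨ (cm y' y ∈ T U L ∧ cm y' y * e ∈ I ∧ B (cm y' u) y = -1) := by
  have hT := D.cm_mem_T hc' hne hy hy'
  have hf := D.comm_form hc' hne hu hy hy'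
  rcases D.rad_T hc' hne hu huV hT (fun t ht => D.perp_T hc' hy' (mem_inf.mp hy).1 ht) with h | h
  · left
    refine ⟨h, ?_⟩
    rw [← hf, h, D.form.one_right hu]
  · right
    refine ⟨hT, h, ?_⟩
    rw [← hf]
    have hTU : cm y' y ∈ U c := DataM.T_le_U D.mem hT
    have h1 := ((D.rad _).mp h).2 u hu
    rw [D.form.mul_left hTU D.he hu] at h1
    have h2 : B e u ≠ 1 := fun h0 => huV ((D.Ye u hu).mpr h0)
    rw [D.form.symm u hu _ hTU]
    have h01 : ∀ p q : ℤˣ, p * q = 1 → q ≠ 1 → p = -1 := by decide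
    exact h01 _ _ h1 h2

end ThreeF

end Cfsg.Agent.Omega.NOThreeL.RTools
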